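import Cfsg.Agent.Lib.Sporadic.ONOut.Words
import Cfsg.Agent.Lib.Sporadic.ONTriples
import Cfsg.Agent.Lib.Schur.TailsBound

/-!
Elements of the presented O'Nan group given by packed words, compared on three base points.
-/

set_option autoImplicit false
set_option maxRecDepth 100000

open Cfsg.Spor
open CfsgLib.Sporadic.CosetCert
open CfsgLib.Sporadic.CosetCert.ONP.OutON (el runW okW img_el okW_spec el_append el_flatten frc frc_eq)

namespace CfsgLib.Schur.Sporadic.ON

/-- The letters of a packed word. -/
def unpackW (e : ℕ × ℕ) : List ℕ :=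
  (List.range e.1).map fun i => Nat.mod (Nat.shiftRight e.2 (Nat.mul 4 i)) 16

/-- The packed word at a place of a list. -/
def wordAt (tab : List (ℕ × ℕ)) (i : ℕ) : List ℕ := unpackW (tab.getD i (0, 0))

/-- A product of packed words, spelt in the letters in the order of application. -/
def spellW (tab : List (ℕ × ℕ)) (l : List ℕ) : List ℕ := (l.reverse.map (wordAt tab)).flatten

/-- The element at a place of a list of packed words. -/
noncomputable def gen (tab : List (ℕ × ℕ)) (i : ℕ) : ON := el (wordAt tab i)

theorem el_spellW (tab : List (ℕ × ℕ)) : ∀ l : List ℕ, el (spellW tab l) = Tails.valW (gen tab) l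
  | [] => rfl
  | i :: l => by
    rw [Tails.valW_cons, ← el_spellW tab l, gen, ← el_append]
    simp [spellW]

/-- Two words move the base points in the same way. -/
noncomputable def sameB (A B : List ℕ) : Bool :=
  okW A && (okW B && (Nat.beq (runW A 0) (runW B 0) &&
    (Nat.beq (runW A 12) (runW B 12) && Nat.beq (runW A 93720) (runW B 93720))))

theorem el_eq_of_sameB {A B : List ℕ} (h : sameB A B = true) : el A = el B := by
  simp only [sameB, Bool.and_eq_true, Nat.beq_eq] at h
  obtain ⟨hA, hB, h0, h1, h2⟩ := h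
  refine ONP.eq_of_bases fun i hi v hv => Fin.ext ?_
  rw [img_el hA, img_el hB, hv]
  simp only [ONP.bases, List.mem_cons, List.not_mem_nil, or_false] at hi
  rcases hi with rfl | rfl | rfl
  exacts [h0, h1, h2]

/-- The images of the base points, packed. -/
noncomputable def keyB (A : List ℕ) : ℕ :=
  Nat.add (Nat.mul (runW A 0) 17179869184) (Nat.add (Nat.mul (runW A 12) 131072) (runW A 93720))

theorem bases_lt : 0 < ONData.table.N ∧ 12 < ONData.table.N ∧ 93720 < ONData.table.N := by
  decide +kernel

theorem keyB_eq {A B : List ℕ} (hA : okW A = true) (hB : okW B = true) (h : el A = el B) :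
    keyB A = keyB B := by
  obtain ⟨p0, p1, p2⟩ := bases_lt
  have h' : ∀ (i : ℕ) (hi : i < ONData.table.N), runW A i = runW B i := fun i hi => by
    have := img_el hA ⟨i, hi⟩
    rw [h] at this
    exact this.symm.trans (img_el hB ⟨i, hi⟩)
  rw [keyB, keyB, h' 0 p0, h' 12 p1, h' 93720 p2]

/-- Keys of the products increase along a list, from a given number. -/
noncomputable def incK (tab : List (ℕ × ℕ)) (lo hi : ℕ) : ℕ → List (List ℕ) → Bool
  | _, [] => true
  | prev, w :: t =>
    (w.all fun x => Nat.ble lo x && Nat.blt x hi) &&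
      (okW (spellW tab w) &&
        frc (fun k => Nat.blt prev (Nat.succ k) && incK tab lo hi (Nat.succ k) t) (keyB (spellW tab w)))

theorem incK_spec (tab : List (ℕ × ℕ)) (lo hi : ℕ) :
    ∀ (L : List (List ℕ)) (prev : ℕ), incK tab lo hi prev L = true →
      (∀ w ∈ L, (∀ x ∈ w, lo ≤ x ∧ x < hi) ∧ okW (spellW tab w) = true ∧
        prev ≤ keyB (spellW tab w)) ∧
      (L.map fun w => keyB (spellW tab w)).Pairwise (· < ·) := by
  intro L
  induction L with
  | nil => intro prev _; simp
  | cons w t ih =>
    intro prev h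
    rw [incK, frc_eq] at h
    simp only [Bool.and_eq_true, List.all_eq_true, Nat.ble_eq, Nat.blt_eq] at h
    obtain ⟨hl, hok, hlt, hr⟩ := h
    obtain ⟨h1, h2⟩ := ih _ hr
    refine ⟨fun u hu => ?_, ?_⟩
    · rcases List.mem_cons.1 hu with rfl | hu
      · exact ⟨hl, hok, Nat.lt_succ_iff.1 hlt⟩
      · exact ⟨(h1 u hu).1, (h1 u hu).2.1, by have := (h1 u hu).2.2; omega⟩
    · rw [List.map_cons, List.pairwise_cons]
      refine ⟨?_, h2⟩
      simp only [List.mem_map]
      rintro _ ⟨u, hu, rfl⟩
      exact (h1 u hu).2.2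

theorem card_tailGen_ge [Finite ON] {tab : List (ℕ × ℕ)} {lo hi : ℕ} {L : List (List ℕ)}
    (h : incK tab lo hi 0 L = true) : L.length ≤ Nat.card (Tails.tailGen (gen tab) hi lo) := by
  obtain ⟨h1, h2⟩ := incK_spec tab lo hi L 0 h
  let f : Fin L.length → Tails.tailGen (gen tab) hi lo := fun i =>
    ⟨Tails.valW (gen tab) (L.get i), Tails.valW_mem_tailGen (h1 _ (List.get_mem L i)).1⟩
  have hf : Function.Injective f := by
    intro i j e
    have e' := congrArg Subtype.val e
    simp only [f] at e'
    rw [← el_spellW, ← el_spellW] at e'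
    have hk := keyB_eq (h1 _ (List.get_mem L i)).2.1 (h1 _ (List.get_mem L j)).2.1 e'
    rcases lt_trichotomy i j with hij | hij | hij
    · have := List.pairwise_iff_get.1 h2 ⟨i, by simp⟩ ⟨j, by simp⟩ hij
      simp at this hk
      omega
    · exact hij
    · have := List.pairwise_iff_get.1 h2 ⟨j, by simp⟩ ⟨i, by simp⟩ hij
      simp at this hk
      omega
  simpa using Nat.card_le_card_of_injective f hf

/-- The relations of a certificate hold on the base points. -/
noncomputable def relB (tab : List (ℕ × ℕ)) (D : Tails.Cert) : Bool :=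
  D.rules.all fun R => sameB (spellW tab R.1) (spellW tab R.2)

theorem rel_of {tab : List (ℕ × ℕ)} {D : Tails.Cert} (h : relB tab D = true) :
    ∀ R ∈ D.rules, Tails.valW (gen tab) R.1 = Tails.valW (gen tab) R.2 := fun R hR => by
  simp only [relB, List.all_eq_true] at h
  rw [← el_spellW, ← el_spellW]
  exact el_eq_of_sameB (h R hR)

/-- The fusions of a certificate hold on the base points. -/
noncomputable def fusB (tab gt : List (ℕ × ℕ)) (D : Tails.Cert) : Bool :=
  (List.range D.fus.length).all fun j => (List.range (D.fus.getD j ⟨[], [], []⟩).us.length).all fun s =>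
    sameB (spellW tab ((D.fus.getD j ⟨[], [], []⟩).us.getD s []) ++ wordAt gt j)
      (wordAt gt j ++ spellW tab ((D.fus.getD j ⟨[], [], []⟩).vs.getD s []))

theorem fus_of {tab gt : List (ℕ × ℕ)} {D : Tails.Cert} (h : fusB tab gt D = true) :
    ∀ j < D.fus.length, ∀ s < (D.fus.getD j ⟨[], [], []⟩).us.length,
      gen gt j * Tails.valW (gen tab) ((D.fus.getD j ⟨[], [], []⟩).us.getD s []) =
        Tails.valW (gen tab) ((D.fus.getD j ⟨[], [], []⟩).vs.getD s []) * gen gt j := fun j hj s hs => by
  simp only [fusB, List.all_eq_true, List.mem_range] at h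
  have := el_eq_of_sameB (h j hj s hs)
  rw [el_append, el_append] at this
  rw [← el_spellW, ← el_spellW]
  exact this

/-- A word of the given prime order. -/
noncomputable def ordB (e : ℕ × (ℕ × ℕ)) : Bool :=
  sameB (List.replicate e.1 (unpackW e.2)).flatten [] && !(sameB (unpackW e.2) [])

theorem orderOf_of {e : ℕ × (ℕ × ℕ)} (h : ordB e = true) [hp : Fact e.1.Prime] :
    orderOf (el (unpackW e.2)) = e.1 := by
  simp only [ordB, Bool.and_eq_true, Bool.not_eq_true'] at h
  obtain ⟨h1, h2⟩ := h
  have hpow : el (unpackW e.2) ^ e.1 = 1 := by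
    rw [← el_flatten]
    exact el_eq_of_sameB h1
  refine orderOf_eq_prime hpow fun h0 => ?_
  have hfl : okW (List.replicate e.1 (unpackW e.2)).flatten = true := by
    simp only [sameB, Bool.and_eq_true] at h1
    exact h1.1
  have hok : okW (unpackW e.2) = true := by
    refine List.all_eq_true.2 fun x hx => ?_
    obtain ⟨k, hk⟩ : ∃ k, e.1 = k + 1 := ⟨e.1 - 1, by have := hp.out.pos; omega⟩
    rw [hk, List.replicate_succ, List.flatten_cons] at hfl
    exact List.all_eq_true.1 hfl x (List.mem_append_left _ hx)
  obtain ⟨p0, p1, p2⟩ := bases_lt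
  have hno : ∀ (i : ℕ) (hi : i < ONData.table.N), runW (unpackW e.2) i = runW [] i := fun i hi => by
    have := img_el hok ⟨i, hi⟩
    rw [h0, map_one] at this
    exact this.symm.trans rfl
  have : sameB (unpackW e.2) [] = true := by
    simp only [sameB, hok, hno 0 p0, hno 12 p1, hno 93720 p2, Bool.true_and, Nat.beq_refl, Bool.and_self]
    rfl
  rw [h2] at this
  exact Bool.false_ne_true this

end CfsgLib.Schur.Sporadic.ON
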