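import Cfsg.Agent.Lib.Schur.ON.Data7
import Cfsg.Agent.Lib.Schur.ON.Words

/-!
Kernel checks of the data for the 7-part of the multiplier of the O'Nan group and of elements of
order 5, 11, 19 and 31.
-/

set_option autoImplicit false
set_option maxRecDepth 100000
set_option maxHeartbeats 0

namespace CfsgLib.Schur.Sporadic.ON

theorem cert7_eqs : Tails.Dense.eqsOK cert7 dense7 = true := by decide +kernel

theorem cert7_comb : Tails.Dense.combOK cert7 dense7 = true := by decide +kernel

theorem cert7_shape : cert7.shapeOK = true ∧ cert7.p = 7 ∧ cert7.r = 3 ∧ dense7.b = 1 ∧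
    dense7.q = 7 ^ 3 := by decide +kernel

theorem cert7_rel : relB ys7 cert7 = true := by decide +kernel

theorem cert7_fus : fusB ys7 gs7 cert7 = true := by decide +kernel

theorem nf7_ok : incK ys7 0 3 0 nf7 = true ∧ nf7.length = 343 := by decide +kernel

theorem nf7In_ok : incK ys7 cert7.a 3 0 nf7In = true ∧ nf7In.length = 7 ^ (3 - cert7.a) := by
  decide +kernel

theorem ords_ok : ords.all ordB = true ∧ ords.map Prod.fst = [5, 11, 19, 31] := by decide +kernel

end CfsgLib.Schur.Sporadic.ON
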