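import Cfsg.Agent.Lib.Schur.ON.Check2
import Cfsg.Agent.Lib.Schur.ON.Check7
import Cfsg.Agent.Lib.Schur.TailsCombine
import Cfsg.Agent.Lib.Sporadic.ONTriple.Main

/-!
A stem extension of the presented O'Nan group has a kernel of order at most three.
-/

set_option autoImplicit false
set_option maxRecDepth 100000

open Subgroup
open CfsgLib.Sporadic.CosetCert
open CfsgLib.Sporadic.CosetCert.ONP.OutON (el)

namespace CfsgLib.Schur.Sporadic.ON

attribute [local irreducible] cert2 dense2 cert7 dense7 nf2 nf2In nf7 nf7In ys2 gs2 ys7 gs7 ords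

theorem commutator_ON : commutator Cfsg.Spor.ON = ⊤ := by
  have := ONP.finite
  haveI := ONP.isSimple
  rcases (Subgroup.Normal.eq_bot_or_eq_top
    (inferInstance : (commutator Cfsg.Spor.ON).Normal)) with h | h
  · exfalso
    have hc : ∀ a b : Cfsg.Spor.ON, a * b = b * a := fun a b =>
      commutatorElement_eq_one_iff_mul_comm.1 (Subgroup.mem_bot.1 (h ▸
        commutator_mem_commutator (mem_top a) (mem_top b)))
    letI : CommGroup Cfsg.Spor.ON := { (inferInstance : Group Cfsg.Spor.ON) with mul_comm := hc }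
    have hp := IsSimpleGroup.prime_card (α := Cfsg.Spor.ON)
    rw [ONP.card_eq.1] at hp
    exact absurd hp (Nat.not_prime_of_dvd_of_lt (m := 2) (by norm_num) le_rfl (by norm_num))
  · exact h

/-- A stem extension of a perfect group is perfect. -/
theorem commutator_eq_top_of_stem {Γ : Type} [Group Γ] (σ : Γ →* Cfsg.Spor.ON)
    (hσ : Cfsg.IsStemExtension σ) : commutator Γ = ⊤ := by
  obtain ⟨hs, -, hle⟩ := hσ
  rw [eq_top_iff]
  intro e _
  have h1 : (commutator Γ).map σ = ⊤ := by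
    rw [_root_.commutator_def, Subgroup.map_commutator, Subgroup.map_top_of_surjective σ hs,
      ← _root_.commutator_def]
    exact commutator_ON
  obtain ⟨d, hd, hde⟩ : σ e ∈ (commutator Γ).map σ := h1 ▸ Subgroup.mem_top _
  have h4 : d⁻¹ * e ∈ σ.ker := by rw [MonoidHom.mem_ker, map_mul, map_inv, hde, inv_mul_cancel]
  rw [show e = d * (d⁻¹ * e) by group]
  exact mul_mem hd (hle h4)

theorem factorization_three {Γ : Type} [Group Γ] [Finite Γ] (σ : Γ →* Cfsg.Spor.ON)
    (hσ : Cfsg.IsStemExtension σ) : (Nat.card σ.ker).factorization 3 ≤ 1 := by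
  classical
  have h3 : Fact (Nat.Prime 3) := ⟨Nat.prime_three⟩
  have hperf := commutator_eq_top_of_stem σ hσ
  obtain ⟨hs, hk, -⟩ := hσ
  set m := Nat.card σ.ker / 3 ^ (Nat.card σ.ker).factorization 3 with hm
  have hm3 : ¬ 3 ∣ m := Nat.not_dvd_ordCompl Nat.prime_three Nat.card_pos.ne'
  let M : Subgroup Γ :=
    { carrier := {z | z ∈ σ.ker ∧ z ^ m = 1}
      one_mem' := ⟨one_mem _, one_pow m⟩
      mul_mem' := fun {a b} ha hb => ⟨mul_mem ha.1 hb.1, by
        rw [(show Commute a b from (mem_center_iff.1 (hk hb.1) a)).mul_pow, ha.2, hb.2, one_mul]⟩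
      inv_mem' := fun {a} ha => ⟨inv_mem ha.1, by rw [inv_pow, ha.2, inv_one]⟩ }
  have hMle : M ≤ σ.ker := fun z hz => hz.1
  haveI : M.Normal := ⟨fun z hz a => by
    rwa [mem_center_iff.1 (hk hz.1) a, mul_inv_cancel_right]⟩
  let q : Γ →* Γ ⧸ M := QuotientGroup.mk' M
  let π : Γ ⧸ M →* Cfsg.Spor.ON := QuotientGroup.lift M σ hMle
  have hπs : Function.Surjective π := fun x => by
    obtain ⟨g, hg⟩ := hs x
    exact ⟨q g, hg⟩
  have hπk : π.ker = σ.ker.map q := by
    ext x
    induction x using QuotientGroup.induction_on with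
    | _ a =>
      refine ⟨fun h => ⟨a, h, rfl⟩, ?_⟩
      rintro ⟨b, hb, hbe⟩
      rw [MonoidHom.mem_ker, ← hbe]
      exact hb
  have hcent : π.ker ≤ center (Γ ⧸ M) := by
    rw [hπk]
    rintro _ ⟨b, hb, rfl⟩
    rw [mem_center_iff]
    intro a
    induction a using QuotientGroup.induction_on with
    | _ a => exact congrArg q (mem_center_iff.1 (hk hb) a)
  have hperfK : commutator (Γ ⧸ M) = ⊤ := by
    rw [_root_.commutator_def, ← Subgroup.map_top_of_surjective q (QuotientGroup.mk'_surjective M),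
      ← Subgroup.map_commutator, ← _root_.commutator_def, hperf]
  have hpg : IsPGroup 3 π.ker := by
    rintro ⟨x, hx⟩
    rw [hπk] at hx
    obtain ⟨b, hb, rfl⟩ := hx
    refine ⟨(Nat.card σ.ker).factorization 3, Subtype.ext ?_⟩
    rw [SubmonoidClass.coe_pow, ← map_pow, OneMemClass.coe_one]
    refine (QuotientGroup.eq_one_iff _).2 ⟨pow_mem hb _, ?_⟩
    rw [← pow_mul, hm, Nat.ordProj_mul_ordCompl_eq_self]
    have := congrArg Subtype.val (pow_card_eq_one' (x := (⟨b, hb⟩ : σ.ker)))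
    simpa using this
  obtain ⟨n, hn⟩ := IsPGroup.iff_card.1 hpg
  have hle := CfsgLib.Sporadic.ONTriple.card_ker_le_three hperfK π hπs hcent hn
  have hM3 : ¬ 3 ∣ Nat.card M := fun hd => by
    obtain ⟨z, hz⟩ := exists_prime_orderOf_dvd_card' (G := M) 3 hd
    exact hm3 (hz ▸ orderOf_dvd_of_pow_eq_one (Subtype.ext (by simpa using z.2.2)))
  have hsplit : Nat.card σ.ker = Nat.card π.ker * Nat.card M := by
    let f : σ.ker →* π.ker := (q.subgroupMap σ.ker |> fun f =>
      (MulEquiv.subgroupCongr hπk.symm).toMonoidHom.comp f)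
    have hf : Function.Surjective f :=
      (MulEquiv.subgroupCongr hπk.symm).surjective.comp (q.subgroupMap_surjective σ.ker)
    have hkf : f.ker = M.subgroupOf σ.ker := by
      ext x
      rw [MonoidHom.mem_ker, mem_subgroupOf, ← QuotientGroup.eq_one_iff]
      exact Subtype.ext_iff
    rw [← f.ker.card_mul_index, Subgroup.index_ker, MonoidHom.range_eq_top.2 hf, Subgroup.card_top,
      hkf, Nat.card_congr (Subgroup.subgroupOfEquivOfLe hMle).toEquiv, Nat.mul_comm]
  rw [hsplit, Nat.factorization_mul Nat.card_pos.ne' Nat.card_pos.ne', Finsupp.add_apply,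
    Nat.factorization_eq_zero_of_not_dvd hM3, add_zero, hn, Nat.Prime.factorization_pow Nat.prime_three,
    Finsupp.single_eq_same]
  rw [hn] at hle
  exact (Nat.pow_le_pow_iff_right (by norm_num : 1 < 3)).1 (by rwa [pow_one])

theorem dense_bound (D : Tails.Cert) (E : Tails.Dense) {tab gt : List (ℕ × ℕ)} {L Lin : List (List ℕ)}
    {p : ℕ} [Fact p.Prime] (he : Tails.Dense.eqsOK D E = true) (hc : Tails.Dense.combOK D E = true)
    (hs : D.shapeOK = true) (hDp : D.p = p) (hr : relB tab D = true) (hf : fusB tab gt D = true)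
    {r a : ℕ} (hDr : D.r = r) (hDa : D.a = a)
    (hL : incK tab 0 r 0 L = true) (hLl : L.length = p ^ r)
    (hLin : incK tab a r 0 Lin = true) (hLinl : Lin.length = p ^ (r - a))
    (hQ : ¬ p ^ (r + 1) ∣ 460815505920) {c : ℕ} (hc0 : ¬ p ∣ c) (hqc : 460815505920 ∣ E.q * c)
    (hb : E.b = 1) {Γ : Type} [Group Γ] [Finite Γ] (σ : Γ →* Cfsg.Spor.ON)
    (hσ : Cfsg.IsStemExtension σ) : (Nat.card σ.ker).factorization p = 0 := by
  haveI := ONP.finite
  subst hDr hDa
  have h := Tails.factorization_card_ker_le_dense D E he hc hc0 hs hDp (gen tab) (rel_of hr) (gen gt)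
    (fus_of hf) (hLl ▸ card_tailGen_ge hL) (hLinl ▸ card_tailGen_ge hLin)
    (ONP.card_eq.1.symm ▸ hQ) (ONP.card_eq.1.symm ▸ hqc) Γ σ hσ
  rw [hb] at h
  simpa using h

theorem factorization_ord {p : ℕ} [Fact p.Prime] (hp : p ∈ [5, 11, 19, 31]) (hQ : ¬ p ^ 2 ∣ 460815505920)
    {Γ : Type} [Group Γ] [Finite Γ] (σ : Γ →* Cfsg.Spor.ON) (hσ : Cfsg.IsStemExtension σ) :
    (Nat.card σ.ker).factorization p = 0 := by
  haveI := ONP.finite
  obtain ⟨h1, h2⟩ := ords_ok
  rw [← h2] at hp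
  obtain ⟨e, he, rfl⟩ := List.mem_map.1 hp
  exact Tails.factorization_card_ker_of_orderOf σ hσ (el (unpackW e.2)) (k := 1)
    (by rw [pow_one]; exact orderOf_of (List.all_eq_true.1 h1 e he)) (by rwa [ONP.card_eq.1])

theorem card_ker_le (Γ : Type) [Group Γ] [Finite Γ] (σ : Γ →* Cfsg.Spor.ON) (hσ : Cfsg.IsStemExtension σ) :
    Nat.card σ.ker ≤ 3 := by
  haveI := ONP.finite
  refine Tails.card_ker_le σ hσ (by norm_num) fun p hp hd => ?_
  rw [ONP.card_eq.1] at hd
  haveI := Fact.mk hp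
  have hp' : p = 2 ∨ p = 3 ∨ p = 7 ∨ p ∈ [5, 11, 19, 31] := by
    have h1 : p ∣ 2 ^ 9 * 3 ^ 4 * 5 * 7 ^ 3 * 11 * 19 * 31 := hd
    have q : ∀ r : ℕ, r.Prime → p ∣ r → p = r := fun r hr h => (Nat.prime_dvd_prime_iff_eq hp hr).1 h
    simp only [Nat.Prime.dvd_mul hp] at h1
    rcases h1 with (((((h1 | h1) | h1) | h1) | h1) | h1) | h1
    · exact Or.inl (q 2 Nat.prime_two (hp.dvd_of_dvd_pow h1))
    · exact Or.inr (Or.inl (q 3 Nat.prime_three (hp.dvd_of_dvd_pow h1)))
    · simp [q 5 Nat.prime_five h1]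
    · exact Or.inr (Or.inr (Or.inl (q 7 (by norm_num) (hp.dvd_of_dvd_pow h1))))
    · simp [q 11 (by norm_num) h1]
    · simp [q 19 (by norm_num) h1]
    · simp [q 31 (by norm_num) h1]
  rcases hp' with rfl | rfl | rfl | hp'
  · obtain ⟨hs, hDp, hr, ha, hb, hq⟩ := cert2_shape
    rw [dense_bound cert2 dense2 cert2_eqs cert2_comb hs hDp cert2_rel cert2_fus hr ha nf2_ok.1
      nf2_ok.2 nf2In_ok.1 nf2In_ok.2 (by norm_num) (c := 3 ^ 4 * 5 * 7 ^ 3 * 11 * 19 * 31)
      (by norm_num) (by rw [hq]; norm_num) hb σ hσ]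
    exact Nat.zero_le _
  · rw [Nat.Prime.factorization_self Nat.prime_three]
    exact factorization_three σ hσ
  · obtain ⟨hs, hDp, hr, hb, hq⟩ := cert7_shape
    rw [dense_bound cert7 dense7 cert7_eqs cert7_comb hs hDp cert7_rel cert7_fus hr rfl nf7_ok.1
      nf7_ok.2 nf7In_ok.1 nf7In_ok.2 (by norm_num) (c := 2 ^ 9 * 3 ^ 4 * 5 * 11 * 19 * 31)
      (by norm_num) (by rw [hq]; norm_num) hb σ hσ]
    exact Nat.zero_le _
  · rw [factorization_ord hp' ?_ σ hσ]
    · exact Nat.zero_le _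
    · simp only [List.mem_cons, List.not_mem_nil, or_false] at hp'
      rcases hp' with rfl | rfl | rfl | rfl <;> norm_num

end CfsgLib.Schur.Sporadic.ON
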