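import Cfsg.Agent.Lib.Schur.ON.Data2
import Cfsg.Agent.Lib.Schur.ON.Words

/-!
Kernel checks of the data for the 2-part of the multiplier of the O'Nan group.
-/

set_option autoImplicit false
set_option maxRecDepth 100000
set_option maxHeartbeats 0

namespace CfsgLib.Schur.Sporadic.ON

theorem cert2_eqs : Tails.Dense.eqsOK cert2 dense2 = true := by decide +kernel

theorem cert2_comb : Tails.Dense.combOK cert2 dense2 = true := by decide +kernel

theorem cert2_shape : cert2.shapeOK = true ∧ cert2.p = 2 ∧ cert2.r = 9 ∧ cert2.a = 3 ∧ dense2.b = 1 ∧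
    dense2.q = 2 ^ 9 := by decide +kernel

theorem cert2_rel : relB ys2 cert2 = true := by decide +kernel

theorem cert2_fus : fusB ys2 gs2 cert2 = true := by decide +kernel

theorem nf2_ok : incK ys2 0 9 0 nf2 = true ∧ nf2.length = 512 := by decide +kernel

theorem nf2In_ok : incK ys2 3 9 0 nf2In = true ∧ nf2In.length = 64 := by decide +kernel

end CfsgLib.Schur.Sporadic.ON
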