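import Cfsg.Agent.Lib.Schur.ON.Shift

/-!
Kernel checks of the triple cover of the O'Nan group: the lifted relators shift all sheets alike.
-/

set_option autoImplicit false
set_option maxRecDepth 100000
set_option maxHeartbeats 0
set_option Elab.async false

namespace CfsgLib.Schur.Sporadic.ON

open CfsgLib.Sporadic.CosetCert (range_split)

theorem shiftW15_0 : constK [(CfsgLib.Sporadic.CosetCert.ONData.fast5, sh5), (CfsgLib.Sporadic.CosetCert.ONData.fast5, sh5)] 0 0 6000 = true := by decide +kernel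
theorem shiftW15_1 : constK [(CfsgLib.Sporadic.CosetCert.ONData.fast5, sh5), (CfsgLib.Sporadic.CosetCert.ONData.fast5, sh5)] 0 6000 6000 = true := by decide +kernel
theorem shiftW15_2 : constK [(CfsgLib.Sporadic.CosetCert.ONData.fast5, sh5), (CfsgLib.Sporadic.CosetCert.ONData.fast5, sh5)] 0 12000 6000 = true := by decide +kernel
theorem shiftW15_3 : constK [(CfsgLib.Sporadic.CosetCert.ONData.fast5, sh5), (CfsgLib.Sporadic.CosetCert.ONData.fast5, sh5)] 0 18000 6000 = true := by decide +kernel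
theorem shiftW15_4 : constK [(CfsgLib.Sporadic.CosetCert.ONData.fast5, sh5), (CfsgLib.Sporadic.CosetCert.ONData.fast5, sh5)] 0 24000 6000 = true := by decide +kernel
theorem shiftW15_5 : constK [(CfsgLib.Sporadic.CosetCert.ONData.fast5, sh5), (CfsgLib.Sporadic.CosetCert.ONData.fast5, sh5)] 0 30000 6000 = true := by decide +kernel
theorem shiftW15_6 : constK [(CfsgLib.Sporadic.CosetCert.ONData.fast5, sh5), (CfsgLib.Sporadic.CosetCert.ONData.fast5, sh5)] 0 36000 6000 = true := by decide +kernel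
theorem shiftW15_7 : constK [(CfsgLib.Sporadic.CosetCert.ONData.fast5, sh5), (CfsgLib.Sporadic.CosetCert.ONData.fast5, sh5)] 0 42000 6000 = true := by decide +kernel
theorem shiftW15_8 : constK [(CfsgLib.Sporadic.CosetCert.ONData.fast5, sh5), (CfsgLib.Sporadic.CosetCert.ONData.fast5, sh5)] 0 48000 6000 = true := by decide +kernel
theorem shiftW15_9 : constK [(CfsgLib.Sporadic.CosetCert.ONData.fast5, sh5), (CfsgLib.Sporadic.CosetCert.ONData.fast5, sh5)] 0 54000 6000 = true := by decide +kernel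
theorem shiftW15_10 : constK [(CfsgLib.Sporadic.CosetCert.ONData.fast5, sh5), (CfsgLib.Sporadic.CosetCert.ONData.fast5, sh5)] 0 60000 6000 = true := by decide +kernel
theorem shiftW15_11 : constK [(CfsgLib.Sporadic.CosetCert.ONData.fast5, sh5), (CfsgLib.Sporadic.CosetCert.ONData.fast5, sh5)] 0 66000 6000 = true := by decide +kernel
theorem shiftW15_12 : constK [(CfsgLib.Sporadic.CosetCert.ONData.fast5, sh5), (CfsgLib.Sporadic.CosetCert.ONData.fast5, sh5)] 0 72000 6000 = true := by decide +kernel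
theorem shiftW15_13 : constK [(CfsgLib.Sporadic.CosetCert.ONData.fast5, sh5), (CfsgLib.Sporadic.CosetCert.ONData.fast5, sh5)] 0 78000 6000 = true := by decide +kernel
theorem shiftW15_14 : constK [(CfsgLib.Sporadic.CosetCert.ONData.fast5, sh5), (CfsgLib.Sporadic.CosetCert.ONData.fast5, sh5)] 0 84000 6000 = true := by decide +kernel
theorem shiftW15_15 : constK [(CfsgLib.Sporadic.CosetCert.ONData.fast5, sh5), (CfsgLib.Sporadic.CosetCert.ONData.fast5, sh5)] 0 90000 6000 = true := by decide +kernel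
theorem shiftW15_16 : constK [(CfsgLib.Sporadic.CosetCert.ONData.fast5, sh5), (CfsgLib.Sporadic.CosetCert.ONData.fast5, sh5)] 0 96000 6000 = true := by decide +kernel
theorem shiftW15_17 : constK [(CfsgLib.Sporadic.CosetCert.ONData.fast5, sh5), (CfsgLib.Sporadic.CosetCert.ONData.fast5, sh5)] 0 102000 6000 = true := by decide +kernel
theorem shiftW15_18 : constK [(CfsgLib.Sporadic.CosetCert.ONData.fast5, sh5), (CfsgLib.Sporadic.CosetCert.ONData.fast5, sh5)] 0 108000 6000 = true := by decide +kernel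
theorem shiftW15_19 : constK [(CfsgLib.Sporadic.CosetCert.ONData.fast5, sh5), (CfsgLib.Sporadic.CosetCert.ONData.fast5, sh5)] 0 114000 6000 = true := by decide +kernel
theorem shiftW15_20 : constK [(CfsgLib.Sporadic.CosetCert.ONData.fast5, sh5), (CfsgLib.Sporadic.CosetCert.ONData.fast5, sh5)] 0 120000 2760 = true := by decide +kernel

theorem shiftW15 : ∀ u < 122760, Nat.mod (runS [(CfsgLib.Sporadic.CosetCert.ONData.fast5, sh5), (CfsgLib.Sporadic.CosetCert.ONData.fast5, sh5)] u) 3 = 0 := fun u hu =>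
  (range_split (range_split (range_split (range_split (constK_spec shiftW15_0) (constK_spec shiftW15_1)) (range_split (constK_spec shiftW15_2) (range_split (constK_spec shiftW15_3) (constK_spec shiftW15_4)))) (range_split (range_split (constK_spec shiftW15_5) (constK_spec shiftW15_6)) (range_split (constK_spec shiftW15_7) (range_split (constK_spec shiftW15_8) (constK_spec shiftW15_9))))) (range_split (range_split (range_split (constK_spec shiftW15_10) (constK_spec shiftW15_11)) (range_split (constK_spec shiftW15_12) (range_split (constK_spec shiftW15_13) (constK_spec shiftW15_14)))) (range_split (range_split (constK_spec shiftW15_15) (range_split (constK_spec shiftW15_16) (constK_spec shiftW15_17))) (range_split (constK_spec shiftW15_18) (range_split (constK_spec shiftW15_19) (constK_spec shiftW15_20)))))) u (Nat.zero_le _) hu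

theorem shiftW25_0 : constK [(CfsgLib.Sporadic.CosetCert.ONData.fast0, sh0), (CfsgLib.Sporadic.CosetCert.ONData.fast5, sh5), (CfsgLib.Sporadic.CosetCert.ONData.fast4, sh4), (CfsgLib.Sporadic.CosetCert.ONData.fast3, sh3), (CfsgLib.Sporadic.CosetCert.ONData.fast0, sh0), (CfsgLib.Sporadic.CosetCert.ONData.fast5, sh5), (CfsgLib.Sporadic.CosetCert.ONData.fast4, sh4), (CfsgLib.Sporadic.CosetCert.ONData.fast3, sh3), (CfsgLib.Sporadic.CosetCert.ONData.fast0, sh0), (CfsgLib.Sporadic.CosetCert.ONData.fast5, sh5), (CfsgLib.Sporadic.CosetCert.ONData.fast4, sh4), (CfsgLib.Sporadic.CosetCert.ONData.fast3, sh3), (CfsgLib.Sporadic.CosetCert.ONData.fast0, sh0), (CfsgLib.Sporadic.CosetCert.ONData.fast5, sh5), (CfsgLib.Sporadic.CosetCert.ONData.fast4, sh4), (CfsgLib.Sporadic.CosetCert.ONData.fast3, sh3), (CfsgLib.Sporadic.CosetCert.ONData.fast0, sh0), (CfsgLib.Sporadic.CosetCert.ONData.fast5, sh5), (CfsgLib.Sporadic.CosetCert.ONData.fast4, sh4),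 (CfsgLib.Sporadic.CosetCert.ONData.fast3, sh3)] 1 0 6000 = true := by decide +kernel
theorem shiftW25_1 : constK [(CfsgLib.Sporadic.CosetCert.ONData.fast0, sh0), (CfsgLib.Sporadic.CosetCert.ONData.fast5, sh5), (CfsgLib.Sporadic.CosetCert.ONData.fast4, sh4), (CfsgLib.Sporadic.CosetCert.ONData.fast3, sh3), (CfsgLib.Sporadic.CosetCert.ONData.fast0, sh0), (CfsgLib.Sporadic.CosetCert.ONData.fast5, sh5), (CfsgLib.Sporadic.CosetCert.ONData.fast4, sh4), (CfsgLib.Sporadic.CosetCert.ONData.fast3, sh3), (CfsgLib.Sporadic.CosetCert.ONData.fast0, sh0), (CfsgLib.Sporadic.CosetCert.ONData.fast5, sh5), (CfsgLib.Sporadic.CosetCert.ONData.fast4, sh4), (CfsgLib.Sporadic.CosetCert.ONData.fast3, sh3), (CfsgLib.Sporadic.CosetCert.ONData.fast0, sh0), (CfsgLib.Sporadic.CosetCert.ONData.fast5, sh5), (CfsgLib.Sporadic.CosetCert.ONData.fast4, sh4), (CfsgLib.Sporadic.CosetCert.ONData.fast3, sh3), (CfsgLib.Sporadic.CosetCert.ONData.fast0, sh0), (CfsgLib.Sporadic.CosetCert.ONData.fast5,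 sh5), (CfsgLib.Sporadic.CosetCert.ONData.fast4, sh4), (CfsgLib.Sporadic.CosetCert.ONData.fast3, sh3)] 1 6000 6000 = true := by decide +kernel
theorem shiftW25_2 : constK [(CfsgLib.Sporadic.CosetCert.ONData.fast0, sh0), (CfsgLib.Sporadic.CosetCert.ONData.fast5, sh5), (CfsgLib.Sporadic.CosetCert.ONData.fast4, sh4), (CfsgLib.Sporadic.CosetCert.ONData.fast3, sh3), (CfsgLib.Sporadic.CosetCert.ONData.fast0, sh0), (CfsgLib.Sporadic.CosetCert.ONData.fast5, sh5), (CfsgLib.Sporadic.CosetCert.ONData.fast4, sh4), (CfsgLib.Sporadic.CosetCert.ONData.fast3, sh3), (CfsgLib.Sporadic.CosetCert.ONData.fast0, sh0), (CfsgLib.Sporadic.CosetCert.ONData.fast5, sh5), (CfsgLib.Sporadic.CosetCert.ONData.fast4, sh4), (CfsgLib.Sporadic.CosetCert.ONData.fast3, sh3), (CfsgLib.Sporadic.CosetCert.ONData.fast0, sh0), (CfsgLib.Sporadic.CosetCert.ONData.fast5, sh5), (CfsgLib.Sporadic.CosetCert.ONData.fast4, sh4), (CfsgLib.Sporadic.CosetCert.ONData.fast3, sh3), (CfsgLib.Sporadic.CosetCert.ONData.fast0,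 sh0), (CfsgLib.Sporadic.CosetCert.ONData.fast5, sh5), (CfsgLib.Sporadic.CosetCert.ONData.fast4, sh4), (CfsgLib.Sporadic.CosetCert.ONData.fast3, sh3)] 1 12000 6000 = true := by decide +kernel
theorem shiftW25_3 : constK [(CfsgLib.Sporadic.CosetCert.ONData.fast0, sh0), (CfsgLib.Sporadic.CosetCert.ONData.fast5, sh5), (CfsgLib.Sporadic.CosetCert.ONData.fast4, sh4), (CfsgLib.Sporadic.CosetCert.ONData.fast3, sh3), (CfsgLib.Sporadic.CosetCert.ONData.fast0, sh0), (CfsgLib.Sporadic.CosetCert.ONData.fast5, sh5), (CfsgLib.Sporadic.CosetCert.ONData.fast4, sh4), (CfsgLib.Sporadic.CosetCert.ONData.fast3, sh3), (CfsgLib.Sporadic.CosetCert.ONData.fast0, sh0), (CfsgLib.Sporadic.CosetCert.ONData.fast5, sh5), (CfsgLib.Sporadic.CosetCert.ONData.fast4, sh4), (CfsgLib.Sporadic.CosetCert.ONData.fast3, sh3), (CfsgLib.Sporadic.CosetCert.ONData.fast0, sh0), (CfsgLib.Sporadic.CosetCert.ONData.fast5, sh5), (CfsgLib.Sporadic.CosetCert.ONData.fast4, sh4), (CfsgLib.Sporadic.CosetCert.ONData.fast3,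 sh3), (CfsgLib.Sporadic.CosetCert.ONData.fast0, sh0), (CfsgLib.Sporadic.CosetCert.ONData.fast5, sh5), (CfsgLib.Sporadic.CosetCert.ONData.fast4, sh4), (CfsgLib.Sporadic.CosetCert.ONData.fast3, sh3)] 1 18000 6000 = true := by decide +kernel
theorem shiftW25_4 : constK [(CfsgLib.Sporadic.CosetCert.ONData.fast0, sh0), (CfsgLib.Sporadic.CosetCert.ONData.fast5, sh5), (CfsgLib.Sporadic.CosetCert.ONData.fast4, sh4), (CfsgLib.Sporadic.CosetCert.ONData.fast3, sh3), (CfsgLib.Sporadic.CosetCert.ONData.fast0, sh0), (CfsgLib.Sporadic.CosetCert.ONData.fast5, sh5), (CfsgLib.Sporadic.CosetCert.ONData.fast4, sh4), (CfsgLib.Sporadic.CosetCert.ONData.fast3, sh3), (CfsgLib.Sporadic.CosetCert.ONData.fast0, sh0), (CfsgLib.Sporadic.CosetCert.ONData.fast5, sh5), (CfsgLib.Sporadic.CosetCert.ONData.fast4, sh4), (CfsgLib.Sporadic.CosetCert.ONData.fast3, sh3), (CfsgLib.Sporadic.CosetCert.ONData.fast0, sh0), (CfsgLib.Sporadic.CosetCert.ONData.fast5, sh5), (CfsgLib.Sporadic.CosetCert.ONData.fast4,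 sh4), (CfsgLib.Sporadic.CosetCert.ONData.fast3, sh3), (CfsgLib.Sporadic.CosetCert.ONData.fast0, sh0), (CfsgLib.Sporadic.CosetCert.ONData.fast5, sh5), (CfsgLib.Sporadic.CosetCert.ONData.fast4, sh4), (CfsgLib.Sporadic.CosetCert.ONData.fast3, sh3)] 1 24000 6000 = true := by decide +kernel
theorem shiftW25_5 : constK [(CfsgLib.Sporadic.CosetCert.ONData.fast0, sh0), (CfsgLib.Sporadic.CosetCert.ONData.fast5, sh5), (CfsgLib.Sporadic.CosetCert.ONData.fast4, sh4), (CfsgLib.Sporadic.CosetCert.ONData.fast3, sh3), (CfsgLib.Sporadic.CosetCert.ONData.fast0, sh0), (CfsgLib.Sporadic.CosetCert.ONData.fast5, sh5), (CfsgLib.Sporadic.CosetCert.ONData.fast4, sh4), (CfsgLib.Sporadic.CosetCert.ONData.fast3, sh3), (CfsgLib.Sporadic.CosetCert.ONData.fast0, sh0), (CfsgLib.Sporadic.CosetCert.ONData.fast5, sh5), (CfsgLib.Sporadic.CosetCert.ONData.fast4, sh4), (CfsgLib.Sporadic.CosetCert.ONData.fast3, sh3), (CfsgLib.Sporadic.CosetCert.ONData.fast0, sh0), (CfsgLib.Sporadic.CosetCert.ONData.fast5,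 sh5), (CfsgLib.Sporadic.CosetCert.ONData.fast4, sh4), (CfsgLib.Sporadic.CosetCert.ONData.fast3, sh3), (CfsgLib.Sporadic.CosetCert.ONData.fast0, sh0), (CfsgLib.Sporadic.CosetCert.ONData.fast5, sh5), (CfsgLib.Sporadic.CosetCert.ONData.fast4, sh4), (CfsgLib.Sporadic.CosetCert.ONData.fast3, sh3)] 1 30000 6000 = true := by decide +kernel
theorem shiftW25_6 : constK [(CfsgLib.Sporadic.CosetCert.ONData.fast0, sh0), (CfsgLib.Sporadic.CosetCert.ONData.fast5, sh5), (CfsgLib.Sporadic.CosetCert.ONData.fast4, sh4), (CfsgLib.Sporadic.CosetCert.ONData.fast3, sh3), (CfsgLib.Sporadic.CosetCert.ONData.fast0, sh0), (CfsgLib.Sporadic.CosetCert.ONData.fast5, sh5), (CfsgLib.Sporadic.CosetCert.ONData.fast4, sh4), (CfsgLib.Sporadic.CosetCert.ONData.fast3, sh3), (CfsgLib.Sporadic.CosetCert.ONData.fast0, sh0), (CfsgLib.Sporadic.CosetCert.ONData.fast5, sh5), (CfsgLib.Sporadic.CosetCert.ONData.fast4, sh4), (CfsgLib.Sporadic.CosetCert.ONData.fast3, sh3), (CfsgLib.Sporadic.CosetCert.ONData.fast0,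 sh0), (CfsgLib.Sporadic.CosetCert.ONData.fast5, sh5), (CfsgLib.Sporadic.CosetCert.ONData.fast4, sh4), (CfsgLib.Sporadic.CosetCert.ONData.fast3, sh3), (CfsgLib.Sporadic.CosetCert.ONData.fast0, sh0), (CfsgLib.Sporadic.CosetCert.ONData.fast5, sh5), (CfsgLib.Sporadic.CosetCert.ONData.fast4, sh4), (CfsgLib.Sporadic.CosetCert.ONData.fast3, sh3)] 1 36000 6000 = true := by decide +kernel
theorem shiftW25_7 : constK [(CfsgLib.Sporadic.CosetCert.ONData.fast0, sh0), (CfsgLib.Sporadic.CosetCert.ONData.fast5, sh5), (CfsgLib.Sporadic.CosetCert.ONData.fast4, sh4), (CfsgLib.Sporadic.CosetCert.ONData.fast3, sh3), (CfsgLib.Sporadic.CosetCert.ONData.fast0, sh0), (CfsgLib.Sporadic.CosetCert.ONData.fast5, sh5), (CfsgLib.Sporadic.CosetCert.ONData.fast4, sh4), (CfsgLib.Sporadic.CosetCert.ONData.fast3, sh3), (CfsgLib.Sporadic.CosetCert.ONData.fast0, sh0), (CfsgLib.Sporadic.CosetCert.ONData.fast5, sh5), (CfsgLib.Sporadic.CosetCert.ONData.fast4, sh4), (CfsgLib.Sporadic.CosetCert.ONData.fast3,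 sh3), (CfsgLib.Sporadic.CosetCert.ONData.fast0, sh0), (CfsgLib.Sporadic.CosetCert.ONData.fast5, sh5), (CfsgLib.Sporadic.CosetCert.ONData.fast4, sh4), (CfsgLib.Sporadic.CosetCert.ONData.fast3, sh3), (CfsgLib.Sporadic.CosetCert.ONData.fast0, sh0), (CfsgLib.Sporadic.CosetCert.ONData.fast5, sh5), (CfsgLib.Sporadic.CosetCert.ONData.fast4, sh4), (CfsgLib.Sporadic.CosetCert.ONData.fast3, sh3)] 1 42000 6000 = true := by decide +kernel
theorem shiftW25_8 : constK [(CfsgLib.Sporadic.CosetCert.ONData.fast0, sh0), (CfsgLib.Sporadic.CosetCert.ONData.fast5, sh5), (CfsgLib.Sporadic.CosetCert.ONData.fast4, sh4), (CfsgLib.Sporadic.CosetCert.ONData.fast3, sh3), (CfsgLib.Sporadic.CosetCert.ONData.fast0, sh0), (CfsgLib.Sporadic.CosetCert.ONData.fast5, sh5), (CfsgLib.Sporadic.CosetCert.ONData.fast4, sh4), (CfsgLib.Sporadic.CosetCert.ONData.fast3, sh3), (CfsgLib.Sporadic.CosetCert.ONData.fast0, sh0), (CfsgLib.Sporadic.CosetCert.ONData.fast5, sh5), (CfsgLib.Sporadic.CosetCert.ONData.fast4,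 sh4), (CfsgLib.Sporadic.CosetCert.ONData.fast3, sh3), (CfsgLib.Sporadic.CosetCert.ONData.fast0, sh0), (CfsgLib.Sporadic.CosetCert.ONData.fast5, sh5), (CfsgLib.Sporadic.CosetCert.ONData.fast4, sh4), (CfsgLib.Sporadic.CosetCert.ONData.fast3, sh3), (CfsgLib.Sporadic.CosetCert.ONData.fast0, sh0), (CfsgLib.Sporadic.CosetCert.ONData.fast5, sh5), (CfsgLib.Sporadic.CosetCert.ONData.fast4, sh4), (CfsgLib.Sporadic.CosetCert.ONData.fast3, sh3)] 1 48000 6000 = true := by decide +kernel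
theorem shiftW25_9 : constK [(CfsgLib.Sporadic.CosetCert.ONData.fast0, sh0), (CfsgLib.Sporadic.CosetCert.ONData.fast5, sh5), (CfsgLib.Sporadic.CosetCert.ONData.fast4, sh4), (CfsgLib.Sporadic.CosetCert.ONData.fast3, sh3), (CfsgLib.Sporadic.CosetCert.ONData.fast0, sh0), (CfsgLib.Sporadic.CosetCert.ONData.fast5, sh5), (CfsgLib.Sporadic.CosetCert.ONData.fast4, sh4), (CfsgLib.Sporadic.CosetCert.ONData.fast3, sh3), (CfsgLib.Sporadic.CosetCert.ONData.fast0, sh0), (CfsgLib.Sporadic.CosetCert.ONData.fast5, sh5), (CfsgLib.Sporadic.CosetCert.ONData.fast4, sh4), (CfsgLib.Sporadic.CosetCert.ONData.fast3, sh3), (CfsgLib.Sporadic.CosetCert.ONData.fast0, sh0), (CfsgLib.Sporadic.CosetCert.ONData.fast5, sh5), (CfsgLib.Sporadic.CosetCert.ONData.fast4, sh4), (CfsgLib.Sporadic.CosetCert.ONData.fast3, sh3), (CfsgLib.Sporadic.CosetCert.ONData.fast0, sh0), (CfsgLib.Sporadic.CosetCert.ONData.fast5, sh5), (CfsgLib.Sporadic.CosetCert.ONData.fast4, sh4), (CfsgLib.Sporadic.CosetCert.ONData.fast3,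 sh3)] 1 54000 6000 = true := by decide +kernel
theorem shiftW25_10 : constK [(CfsgLib.Sporadic.CosetCert.ONData.fast0, sh0), (CfsgLib.Sporadic.CosetCert.ONData.fast5, sh5), (CfsgLib.Sporadic.CosetCert.ONData.fast4, sh4), (CfsgLib.Sporadic.CosetCert.ONData.fast3, sh3), (CfsgLib.Sporadic.CosetCert.ONData.fast0, sh0), (CfsgLib.Sporadic.CosetCert.ONData.fast5, sh5), (CfsgLib.Sporadic.CosetCert.ONData.fast4, sh4), (CfsgLib.Sporadic.CosetCert.ONData.fast3, sh3), (CfsgLib.Sporadic.CosetCert.ONData.fast0, sh0), (CfsgLib.Sporadic.CosetCert.ONData.fast5, sh5), (CfsgLib.Sporadic.CosetCert.ONData.fast4, sh4), (CfsgLib.Sporadic.CosetCert.ONData.fast3, sh3), (CfsgLib.Sporadic.CosetCert.ONData.fast0, sh0), (CfsgLib.Sporadic.CosetCert.ONData.fast5, sh5), (CfsgLib.Sporadic.CosetCert.ONData.fast4, sh4), (CfsgLib.Sporadic.CosetCert.ONData.fast3, sh3), (CfsgLib.Sporadic.CosetCert.ONData.fast0, sh0), (CfsgLib.Sporadic.CosetCert.ONData.fast5, sh5), (CfsgLib.Sporadic.CosetCert.ONData.fast4,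 sh4), (CfsgLib.Sporadic.CosetCert.ONData.fast3, sh3)] 1 60000 6000 = true := by decide +kernel
theorem shiftW25_11 : constK [(CfsgLib.Sporadic.CosetCert.ONData.fast0, sh0), (CfsgLib.Sporadic.CosetCert.ONData.fast5, sh5), (CfsgLib.Sporadic.CosetCert.ONData.fast4, sh4), (CfsgLib.Sporadic.CosetCert.ONData.fast3, sh3), (CfsgLib.Sporadic.CosetCert.ONData.fast0, sh0), (CfsgLib.Sporadic.CosetCert.ONData.fast5, sh5), (CfsgLib.Sporadic.CosetCert.ONData.fast4, sh4), (CfsgLib.Sporadic.CosetCert.ONData.fast3, sh3), (CfsgLib.Sporadic.CosetCert.ONData.fast0, sh0), (CfsgLib.Sporadic.CosetCert.ONData.fast5, sh5), (CfsgLib.Sporadic.CosetCert.ONData.fast4, sh4), (CfsgLib.Sporadic.CosetCert.ONData.fast3, sh3), (CfsgLib.Sporadic.CosetCert.ONData.fast0, sh0), (CfsgLib.Sporadic.CosetCert.ONData.fast5, sh5), (CfsgLib.Sporadic.CosetCert.ONData.fast4, sh4), (CfsgLib.Sporadic.CosetCert.ONData.fast3, sh3), (CfsgLib.Sporadic.CosetCert.ONData.fast0, sh0), (CfsgLib.Sporadic.CosetCert.ONData.fast5,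 sh5), (CfsgLib.Sporadic.CosetCert.ONData.fast4, sh4), (CfsgLib.Sporadic.CosetCert.ONData.fast3, sh3)] 1 66000 6000 = true := by decide +kernel
theorem shiftW25_12 : constK [(CfsgLib.Sporadic.CosetCert.ONData.fast0, sh0), (CfsgLib.Sporadic.CosetCert.ONData.fast5, sh5), (CfsgLib.Sporadic.CosetCert.ONData.fast4, sh4), (CfsgLib.Sporadic.CosetCert.ONData.fast3, sh3), (CfsgLib.Sporadic.CosetCert.ONData.fast0, sh0), (CfsgLib.Sporadic.CosetCert.ONData.fast5, sh5), (CfsgLib.Sporadic.CosetCert.ONData.fast4, sh4), (CfsgLib.Sporadic.CosetCert.ONData.fast3, sh3), (CfsgLib.Sporadic.CosetCert.ONData.fast0, sh0), (CfsgLib.Sporadic.CosetCert.ONData.fast5, sh5), (CfsgLib.Sporadic.CosetCert.ONData.fast4, sh4), (CfsgLib.Sporadic.CosetCert.ONData.fast3, sh3), (CfsgLib.Sporadic.CosetCert.ONData.fast0, sh0), (CfsgLib.Sporadic.CosetCert.ONData.fast5, sh5), (CfsgLib.Sporadic.CosetCert.ONData.fast4, sh4), (CfsgLib.Sporadic.CosetCert.ONData.fast3, sh3), (CfsgLib.Sporadic.CosetCert.ONData.fast0,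 sh0), (CfsgLib.Sporadic.CosetCert.ONData.fast5, sh5), (CfsgLib.Sporadic.CosetCert.ONData.fast4, sh4), (CfsgLib.Sporadic.CosetCert.ONData.fast3, sh3)] 1 72000 6000 = true := by decide +kernel
theorem shiftW25_13 : constK [(CfsgLib.Sporadic.CosetCert.ONData.fast0, sh0), (CfsgLib.Sporadic.CosetCert.ONData.fast5, sh5), (CfsgLib.Sporadic.CosetCert.ONData.fast4, sh4), (CfsgLib.Sporadic.CosetCert.ONData.fast3, sh3), (CfsgLib.Sporadic.CosetCert.ONData.fast0, sh0), (CfsgLib.Sporadic.CosetCert.ONData.fast5, sh5), (CfsgLib.Sporadic.CosetCert.ONData.fast4, sh4), (CfsgLib.Sporadic.CosetCert.ONData.fast3, sh3), (CfsgLib.Sporadic.CosetCert.ONData.fast0, sh0), (CfsgLib.Sporadic.CosetCert.ONData.fast5, sh5), (CfsgLib.Sporadic.CosetCert.ONData.fast4, sh4), (CfsgLib.Sporadic.CosetCert.ONData.fast3, sh3), (CfsgLib.Sporadic.CosetCert.ONData.fast0, sh0), (CfsgLib.Sporadic.CosetCert.ONData.fast5, sh5), (CfsgLib.Sporadic.CosetCert.ONData.fast4, sh4), (CfsgLib.Sporadic.CosetCert.ONData.fast3,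 sh3), (CfsgLib.Sporadic.CosetCert.ONData.fast0, sh0), (CfsgLib.Sporadic.CosetCert.ONData.fast5, sh5), (CfsgLib.Sporadic.CosetCert.ONData.fast4, sh4), (CfsgLib.Sporadic.CosetCert.ONData.fast3, sh3)] 1 78000 6000 = true := by decide +kernel
theorem shiftW25_14 : constK [(CfsgLib.Sporadic.CosetCert.ONData.fast0, sh0), (CfsgLib.Sporadic.CosetCert.ONData.fast5, sh5), (CfsgLib.Sporadic.CosetCert.ONData.fast4, sh4), (CfsgLib.Sporadic.CosetCert.ONData.fast3, sh3), (CfsgLib.Sporadic.CosetCert.ONData.fast0, sh0), (CfsgLib.Sporadic.CosetCert.ONData.fast5, sh5), (CfsgLib.Sporadic.CosetCert.ONData.fast4, sh4), (CfsgLib.Sporadic.CosetCert.ONData.fast3, sh3), (CfsgLib.Sporadic.CosetCert.ONData.fast0, sh0), (CfsgLib.Sporadic.CosetCert.ONData.fast5, sh5), (CfsgLib.Sporadic.CosetCert.ONData.fast4, sh4), (CfsgLib.Sporadic.CosetCert.ONData.fast3, sh3), (CfsgLib.Sporadic.CosetCert.ONData.fast0, sh0), (CfsgLib.Sporadic.CosetCert.ONData.fast5, sh5), (CfsgLib.Sporadic.CosetCert.ONData.fast4,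 sh4), (CfsgLib.Sporadic.CosetCert.ONData.fast3, sh3), (CfsgLib.Sporadic.CosetCert.ONData.fast0, sh0), (CfsgLib.Sporadic.CosetCert.ONData.fast5, sh5), (CfsgLib.Sporadic.CosetCert.ONData.fast4, sh4), (CfsgLib.Sporadic.CosetCert.ONData.fast3, sh3)] 1 84000 6000 = true := by decide +kernel
theorem shiftW25_15 : constK [(CfsgLib.Sporadic.CosetCert.ONData.fast0, sh0), (CfsgLib.Sporadic.CosetCert.ONData.fast5, sh5), (CfsgLib.Sporadic.CosetCert.ONData.fast4, sh4), (CfsgLib.Sporadic.CosetCert.ONData.fast3, sh3), (CfsgLib.Sporadic.CosetCert.ONData.fast0, sh0), (CfsgLib.Sporadic.CosetCert.ONData.fast5, sh5), (CfsgLib.Sporadic.CosetCert.ONData.fast4, sh4), (CfsgLib.Sporadic.CosetCert.ONData.fast3, sh3), (CfsgLib.Sporadic.CosetCert.ONData.fast0, sh0), (CfsgLib.Sporadic.CosetCert.ONData.fast5, sh5), (CfsgLib.Sporadic.CosetCert.ONData.fast4, sh4), (CfsgLib.Sporadic.CosetCert.ONData.fast3, sh3), (CfsgLib.Sporadic.CosetCert.ONData.fast0, sh0), (CfsgLib.Sporadic.CosetCert.ONData.fast5,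 sh5), (CfsgLib.Sporadic.CosetCert.ONData.fast4, sh4), (CfsgLib.Sporadic.CosetCert.ONData.fast3, sh3), (CfsgLib.Sporadic.CosetCert.ONData.fast0, sh0), (CfsgLib.Sporadic.CosetCert.ONData.fast5, sh5), (CfsgLib.Sporadic.CosetCert.ONData.fast4, sh4), (CfsgLib.Sporadic.CosetCert.ONData.fast3, sh3)] 1 90000 6000 = true := by decide +kernel
theorem shiftW25_16 : constK [(CfsgLib.Sporadic.CosetCert.ONData.fast0, sh0), (CfsgLib.Sporadic.CosetCert.ONData.fast5, sh5), (CfsgLib.Sporadic.CosetCert.ONData.fast4, sh4), (CfsgLib.Sporadic.CosetCert.ONData.fast3, sh3), (CfsgLib.Sporadic.CosetCert.ONData.fast0, sh0), (CfsgLib.Sporadic.CosetCert.ONData.fast5, sh5), (CfsgLib.Sporadic.CosetCert.ONData.fast4, sh4), (CfsgLib.Sporadic.CosetCert.ONData.fast3, sh3), (CfsgLib.Sporadic.CosetCert.ONData.fast0, sh0), (CfsgLib.Sporadic.CosetCert.ONData.fast5, sh5), (CfsgLib.Sporadic.CosetCert.ONData.fast4, sh4), (CfsgLib.Sporadic.CosetCert.ONData.fast3, sh3), (CfsgLib.Sporadic.CosetCert.ONData.fast0,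 sh0), (CfsgLib.Sporadic.CosetCert.ONData.fast5, sh5), (CfsgLib.Sporadic.CosetCert.ONData.fast4, sh4), (CfsgLib.Sporadic.CosetCert.ONData.fast3, sh3), (CfsgLib.Sporadic.CosetCert.ONData.fast0, sh0), (CfsgLib.Sporadic.CosetCert.ONData.fast5, sh5), (CfsgLib.Sporadic.CosetCert.ONData.fast4, sh4), (CfsgLib.Sporadic.CosetCert.ONData.fast3, sh3)] 1 96000 6000 = true := by decide +kernel
theorem shiftW25_17 : constK [(CfsgLib.Sporadic.CosetCert.ONData.fast0, sh0), (CfsgLib.Sporadic.CosetCert.ONData.fast5, sh5), (CfsgLib.Sporadic.CosetCert.ONData.fast4, sh4), (CfsgLib.Sporadic.CosetCert.ONData.fast3, sh3), (CfsgLib.Sporadic.CosetCert.ONData.fast0, sh0), (CfsgLib.Sporadic.CosetCert.ONData.fast5, sh5), (CfsgLib.Sporadic.CosetCert.ONData.fast4, sh4), (CfsgLib.Sporadic.CosetCert.ONData.fast3, sh3), (CfsgLib.Sporadic.CosetCert.ONData.fast0, sh0), (CfsgLib.Sporadic.CosetCert.ONData.fast5, sh5), (CfsgLib.Sporadic.CosetCert.ONData.fast4, sh4), (CfsgLib.Sporadic.CosetCert.ONData.fast3,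 sh3), (CfsgLib.Sporadic.CosetCert.ONData.fast0, sh0), (CfsgLib.Sporadic.CosetCert.ONData.fast5, sh5), (CfsgLib.Sporadic.CosetCert.ONData.fast4, sh4), (CfsgLib.Sporadic.CosetCert.ONData.fast3, sh3), (CfsgLib.Sporadic.CosetCert.ONData.fast0, sh0), (CfsgLib.Sporadic.CosetCert.ONData.fast5, sh5), (CfsgLib.Sporadic.CosetCert.ONData.fast4, sh4), (CfsgLib.Sporadic.CosetCert.ONData.fast3, sh3)] 1 102000 6000 = true := by decide +kernel
theorem shiftW25_18 : constK [(CfsgLib.Sporadic.CosetCert.ONData.fast0, sh0), (CfsgLib.Sporadic.CosetCert.ONData.fast5, sh5), (CfsgLib.Sporadic.CosetCert.ONData.fast4, sh4), (CfsgLib.Sporadic.CosetCert.ONData.fast3, sh3), (CfsgLib.Sporadic.CosetCert.ONData.fast0, sh0), (CfsgLib.Sporadic.CosetCert.ONData.fast5, sh5), (CfsgLib.Sporadic.CosetCert.ONData.fast4, sh4), (CfsgLib.Sporadic.CosetCert.ONData.fast3, sh3), (CfsgLib.Sporadic.CosetCert.ONData.fast0, sh0), (CfsgLib.Sporadic.CosetCert.ONData.fast5, sh5),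 (CfsgLib.Sporadic.CosetCert.ONData.fast4, sh4), (CfsgLib.Sporadic.CosetCert.ONData.fast3, sh3), (CfsgLib.Sporadic.CosetCert.ONData.fast0, sh0), (CfsgLib.Sporadic.CosetCert.ONData.fast5, sh5), (CfsgLib.Sporadic.CosetCert.ONData.fast4, sh4), (CfsgLib.Sporadic.CosetCert.ONData.fast3, sh3), (CfsgLib.Sporadic.CosetCert.ONData.fast0, sh0), (CfsgLib.Sporadic.CosetCert.ONData.fast5, sh5), (CfsgLib.Sporadic.CosetCert.ONData.fast4, sh4), (CfsgLib.Sporadic.CosetCert.ONData.fast3, sh3)] 1 108000 6000 = true := by decide +kernel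
theorem shiftW25_19 : constK [(CfsgLib.Sporadic.CosetCert.ONData.fast0, sh0), (CfsgLib.Sporadic.CosetCert.ONData.fast5, sh5), (CfsgLib.Sporadic.CosetCert.ONData.fast4, sh4), (CfsgLib.Sporadic.CosetCert.ONData.fast3, sh3), (CfsgLib.Sporadic.CosetCert.ONData.fast0, sh0), (CfsgLib.Sporadic.CosetCert.ONData.fast5, sh5), (CfsgLib.Sporadic.CosetCert.ONData.fast4, sh4), (CfsgLib.Sporadic.CosetCert.ONData.fast3, sh3), (CfsgLib.Sporadic.CosetCert.ONData.fast0, sh0), (CfsgLib.Sporadic.CosetCert.ONData.fast5, sh5), (CfsgLib.Sporadic.CosetCert.ONData.fast4, sh4), (CfsgLib.Sporadic.CosetCert.ONData.fast3, sh3), (CfsgLib.Sporadic.CosetCert.ONData.fast0, sh0), (CfsgLib.Sporadic.CosetCert.ONData.fast5, sh5), (CfsgLib.Sporadic.CosetCert.ONData.fast4, sh4), (CfsgLib.Sporadic.CosetCert.ONData.fast3, sh3), (CfsgLib.Sporadic.CosetCert.ONData.fast0, sh0), (CfsgLib.Sporadic.CosetCert.ONData.fast5, sh5), (CfsgLib.Sporadic.CosetCert.ONData.fast4, sh4),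 (CfsgLib.Sporadic.CosetCert.ONData.fast3, sh3)] 1 114000 6000 = true := by decide +kernel
theorem shiftW25_20 : constK [(CfsgLib.Sporadic.CosetCert.ONData.fast0, sh0), (CfsgLib.Sporadic.CosetCert.ONData.fast5, sh5), (CfsgLib.Sporadic.CosetCert.ONData.fast4, sh4), (CfsgLib.Sporadic.CosetCert.ONData.fast3, sh3), (CfsgLib.Sporadic.CosetCert.ONData.fast0, sh0), (CfsgLib.Sporadic.CosetCert.ONData.fast5, sh5), (CfsgLib.Sporadic.CosetCert.ONData.fast4, sh4), (CfsgLib.Sporadic.CosetCert.ONData.fast3, sh3), (CfsgLib.Sporadic.CosetCert.ONData.fast0, sh0), (CfsgLib.Sporadic.CosetCert.ONData.fast5, sh5), (CfsgLib.Sporadic.CosetCert.ONData.fast4, sh4), (CfsgLib.Sporadic.CosetCert.ONData.fast3, sh3), (CfsgLib.Sporadic.CosetCert.ONData.fast0, sh0), (CfsgLib.Sporadic.CosetCert.ONData.fast5, sh5), (CfsgLib.Sporadic.CosetCert.ONData.fast4, sh4), (CfsgLib.Sporadic.CosetCert.ONData.fast3, sh3), (CfsgLib.Sporadic.CosetCert.ONData.fast0, sh0), (CfsgLib.Sporadic.CosetCert.ONData.fast5,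 sh5), (CfsgLib.Sporadic.CosetCert.ONData.fast4, sh4), (CfsgLib.Sporadic.CosetCert.ONData.fast3, sh3)] 1 120000 2760 = true := by decide +kernel

theorem shiftW25 : ∀ u < 122760, Nat.mod (runS [(CfsgLib.Sporadic.CosetCert.ONData.fast0, sh0), (CfsgLib.Sporadic.CosetCert.ONData.fast5, sh5), (CfsgLib.Sporadic.CosetCert.ONData.fast4, sh4), (CfsgLib.Sporadic.CosetCert.ONData.fast3, sh3), (CfsgLib.Sporadic.CosetCert.ONData.fast0, sh0), (CfsgLib.Sporadic.CosetCert.ONData.fast5, sh5), (CfsgLib.Sporadic.CosetCert.ONData.fast4, sh4), (CfsgLib.Sporadic.CosetCert.ONData.fast3, sh3), (CfsgLib.Sporadic.CosetCert.ONData.fast0, sh0), (CfsgLib.Sporadic.CosetCert.ONData.fast5, sh5), (CfsgLib.Sporadic.CosetCert.ONData.fast4, sh4), (CfsgLib.Sporadic.CosetCert.ONData.fast3, sh3), (CfsgLib.Sporadic.CosetCert.ONData.fast0, sh0), (CfsgLib.Sporadic.CosetCert.ONData.fast5, sh5), (CfsgLib.Sporadic.CosetCert.ONData.fast4, sh4), (CfsgLib.Sporadic.CosetCert.ONData.fast3,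 sh3), (CfsgLib.Sporadic.CosetCert.ONData.fast0, sh0), (CfsgLib.Sporadic.CosetCert.ONData.fast5, sh5), (CfsgLib.Sporadic.CosetCert.ONData.fast4, sh4), (CfsgLib.Sporadic.CosetCert.ONData.fast3, sh3)] u) 3 = 1 := fun u hu =>
  (range_split (range_split (range_split (range_split (constK_spec shiftW25_0) (constK_spec shiftW25_1)) (range_split (constK_spec shiftW25_2) (range_split (constK_spec shiftW25_3) (constK_spec shiftW25_4)))) (range_split (range_split (constK_spec shiftW25_5) (constK_spec shiftW25_6)) (range_split (constK_spec shiftW25_7) (range_split (constK_spec shiftW25_8) (constK_spec shiftW25_9))))) (range_split (range_split (range_split (constK_spec shiftW25_10) (constK_spec shiftW25_11)) (range_split (constK_spec shiftW25_12) (range_split (constK_spec shiftW25_13) (constK_spec shiftW25_14)))) (range_split (range_split (constK_spec shiftW25_15) (range_split (constK_spec shiftW25_16) (constK_spec shiftW25_17))) (range_split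 (constK_spec shiftW25_18) (range_split (constK_spec shiftW25_19) (constK_spec shiftW25_20)))))) u (Nat.zero_le _) hu

end CfsgLib.Schur.Sporadic.ON
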