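import Cfsg.Agent.Lib.Schur.ON.Shift

/-!
Kernel checks of the triple cover of the O'Nan group: the lifted relators shift all sheets alike.
-/

set_option autoImplicit false
set_option maxRecDepth 100000
set_option maxHeartbeats 0
set_option Elab.async false

namespace CfsgLib.Schur.Sporadic.ON

open CfsgLib.Sporadic.CosetCert (range_split)

theorem shiftW12_0 : constK [(CfsgLib.Sporadic.CosetCert.ONData.fast5, sh5), (CfsgLib.Sporadic.CosetCert.ONData.fast4, sh4), (CfsgLib.Sporadic.CosetCert.ONData.fast5, sh5), (CfsgLib.Sporadic.CosetCert.ONData.fast4, sh4), (CfsgLib.Sporadic.CosetCert.ONData.fast5, sh5), (CfsgLib.Sporadic.CosetCert.ONData.fast4, sh4), (CfsgLib.Sporadic.CosetCert.ONData.fast5, sh5), (CfsgLib.Sporadic.CosetCert.ONData.fast4, sh4), (CfsgLib.Sporadic.CosetCert.ONData.fast5, sh5), (CfsgLib.Sporadic.CosetCert.ONData.fast4, sh4), (CfsgLib.Sporadic.CosetCert.ONData.fast5, sh5), (CfsgLib.Sporadic.CosetCert.ONData.fast4, sh4), (CfsgLib.Sporadic.CosetCert.ONData.fast5,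 sh5), (CfsgLib.Sporadic.CosetCert.ONData.fast4, sh4), (CfsgLib.Sporadic.CosetCert.ONData.fast5, sh5), (CfsgLib.Sporadic.CosetCert.ONData.fast4, sh4)] 0 0 6000 = true := by decide +kernel
theorem shiftW12_1 : constK [(CfsgLib.Sporadic.CosetCert.ONData.fast5, sh5), (CfsgLib.Sporadic.CosetCert.ONData.fast4, sh4), (CfsgLib.Sporadic.CosetCert.ONData.fast5, sh5), (CfsgLib.Sporadic.CosetCert.ONData.fast4, sh4), (CfsgLib.Sporadic.CosetCert.ONData.fast5, sh5), (CfsgLib.Sporadic.CosetCert.ONData.fast4, sh4), (CfsgLib.Sporadic.CosetCert.ONData.fast5, sh5), (CfsgLib.Sporadic.CosetCert.ONData.fast4, sh4), (CfsgLib.Sporadic.CosetCert.ONData.fast5, sh5), (CfsgLib.Sporadic.CosetCert.ONData.fast4, sh4), (CfsgLib.Sporadic.CosetCert.ONData.fast5, sh5), (CfsgLib.Sporadic.CosetCert.ONData.fast4, sh4), (CfsgLib.Sporadic.CosetCert.ONData.fast5, sh5), (CfsgLib.Sporadic.CosetCert.ONData.fast4, sh4), (CfsgLib.Sporadic.CosetCert.ONData.fast5, sh5), (CfsgLib.Sporadic.CosetCert.ONData.fast4,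 sh4)] 0 6000 6000 = true := by decide +kernel
theorem shiftW12_2 : constK [(CfsgLib.Sporadic.CosetCert.ONData.fast5, sh5), (CfsgLib.Sporadic.CosetCert.ONData.fast4, sh4), (CfsgLib.Sporadic.CosetCert.ONData.fast5, sh5), (CfsgLib.Sporadic.CosetCert.ONData.fast4, sh4), (CfsgLib.Sporadic.CosetCert.ONData.fast5, sh5), (CfsgLib.Sporadic.CosetCert.ONData.fast4, sh4), (CfsgLib.Sporadic.CosetCert.ONData.fast5, sh5), (CfsgLib.Sporadic.CosetCert.ONData.fast4, sh4), (CfsgLib.Sporadic.CosetCert.ONData.fast5, sh5), (CfsgLib.Sporadic.CosetCert.ONData.fast4, sh4), (CfsgLib.Sporadic.CosetCert.ONData.fast5, sh5), (CfsgLib.Sporadic.CosetCert.ONData.fast4, sh4), (CfsgLib.Sporadic.CosetCert.ONData.fast5, sh5), (CfsgLib.Sporadic.CosetCert.ONData.fast4, sh4), (CfsgLib.Sporadic.CosetCert.ONData.fast5, sh5), (CfsgLib.Sporadic.CosetCert.ONData.fast4, sh4)] 0 12000 6000 = true := by decide +kernel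
theorem shiftW12_3 : constK [(CfsgLib.Sporadic.CosetCert.ONData.fast5, sh5), (CfsgLib.Sporadic.CosetCert.ONData.fast4, sh4), (CfsgLib.Sporadic.CosetCert.ONData.fast5, sh5), (CfsgLib.Sporadic.CosetCert.ONData.fast4, sh4), (CfsgLib.Sporadic.CosetCert.ONData.fast5, sh5), (CfsgLib.Sporadic.CosetCert.ONData.fast4, sh4), (CfsgLib.Sporadic.CosetCert.ONData.fast5, sh5), (CfsgLib.Sporadic.CosetCert.ONData.fast4, sh4), (CfsgLib.Sporadic.CosetCert.ONData.fast5, sh5), (CfsgLib.Sporadic.CosetCert.ONData.fast4, sh4), (CfsgLib.Sporadic.CosetCert.ONData.fast5, sh5), (CfsgLib.Sporadic.CosetCert.ONData.fast4, sh4), (CfsgLib.Sporadic.CosetCert.ONData.fast5, sh5), (CfsgLib.Sporadic.CosetCert.ONData.fast4, sh4), (CfsgLib.Sporadic.CosetCert.ONData.fast5, sh5), (CfsgLib.Sporadic.CosetCert.ONData.fast4, sh4)] 0 18000 6000 = true := by decide +kernel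
theorem shiftW12_4 : constK [(CfsgLib.Sporadic.CosetCert.ONData.fast5, sh5), (CfsgLib.Sporadic.CosetCert.ONData.fast4, sh4), (CfsgLib.Sporadic.CosetCert.ONData.fast5, sh5), (CfsgLib.Sporadic.CosetCert.ONData.fast4, sh4), (CfsgLib.Sporadic.CosetCert.ONData.fast5, sh5), (CfsgLib.Sporadic.CosetCert.ONData.fast4, sh4), (CfsgLib.Sporadic.CosetCert.ONData.fast5, sh5), (CfsgLib.Sporadic.CosetCert.ONData.fast4, sh4), (CfsgLib.Sporadic.CosetCert.ONData.fast5, sh5), (CfsgLib.Sporadic.CosetCert.ONData.fast4, sh4), (CfsgLib.Sporadic.CosetCert.ONData.fast5, sh5), (CfsgLib.Sporadic.CosetCert.ONData.fast4, sh4), (CfsgLib.Sporadic.CosetCert.ONData.fast5, sh5), (CfsgLib.Sporadic.CosetCert.ONData.fast4, sh4), (CfsgLib.Sporadic.CosetCert.ONData.fast5, sh5), (CfsgLib.Sporadic.CosetCert.ONData.fast4, sh4)] 0 24000 6000 = true := by decide +kernel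
theorem shiftW12_5 : constK [(CfsgLib.Sporadic.CosetCert.ONData.fast5, sh5), (CfsgLib.Sporadic.CosetCert.ONData.fast4, sh4), (CfsgLib.Sporadic.CosetCert.ONData.fast5, sh5), (CfsgLib.Sporadic.CosetCert.ONData.fast4, sh4), (CfsgLib.Sporadic.CosetCert.ONData.fast5, sh5), (CfsgLib.Sporadic.CosetCert.ONData.fast4, sh4), (CfsgLib.Sporadic.CosetCert.ONData.fast5, sh5), (CfsgLib.Sporadic.CosetCert.ONData.fast4, sh4), (CfsgLib.Sporadic.CosetCert.ONData.fast5, sh5), (CfsgLib.Sporadic.CosetCert.ONData.fast4, sh4), (CfsgLib.Sporadic.CosetCert.ONData.fast5, sh5), (CfsgLib.Sporadic.CosetCert.ONData.fast4, sh4), (CfsgLib.Sporadic.CosetCert.ONData.fast5, sh5), (CfsgLib.Sporadic.CosetCert.ONData.fast4, sh4), (CfsgLib.Sporadic.CosetCert.ONData.fast5, sh5), (CfsgLib.Sporadic.CosetCert.ONData.fast4, sh4)] 0 30000 6000 = true := by decide +kernel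
theorem shiftW12_6 : constK [(CfsgLib.Sporadic.CosetCert.ONData.fast5, sh5), (CfsgLib.Sporadic.CosetCert.ONData.fast4, sh4), (CfsgLib.Sporadic.CosetCert.ONData.fast5, sh5), (CfsgLib.Sporadic.CosetCert.ONData.fast4, sh4), (CfsgLib.Sporadic.CosetCert.ONData.fast5, sh5), (CfsgLib.Sporadic.CosetCert.ONData.fast4, sh4), (CfsgLib.Sporadic.CosetCert.ONData.fast5, sh5), (CfsgLib.Sporadic.CosetCert.ONData.fast4, sh4), (CfsgLib.Sporadic.CosetCert.ONData.fast5, sh5), (CfsgLib.Sporadic.CosetCert.ONData.fast4, sh4), (CfsgLib.Sporadic.CosetCert.ONData.fast5, sh5), (CfsgLib.Sporadic.CosetCert.ONData.fast4, sh4), (CfsgLib.Sporadic.CosetCert.ONData.fast5, sh5), (CfsgLib.Sporadic.CosetCert.ONData.fast4, sh4), (CfsgLib.Sporadic.CosetCert.ONData.fast5, sh5), (CfsgLib.Sporadic.CosetCert.ONData.fast4, sh4)] 0 36000 6000 = true := by decide +kernel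
theorem shiftW12_7 : constK [(CfsgLib.Sporadic.CosetCert.ONData.fast5, sh5), (CfsgLib.Sporadic.CosetCert.ONData.fast4, sh4), (CfsgLib.Sporadic.CosetCert.ONData.fast5, sh5), (CfsgLib.Sporadic.CosetCert.ONData.fast4, sh4), (CfsgLib.Sporadic.CosetCert.ONData.fast5, sh5), (CfsgLib.Sporadic.CosetCert.ONData.fast4, sh4), (CfsgLib.Sporadic.CosetCert.ONData.fast5, sh5), (CfsgLib.Sporadic.CosetCert.ONData.fast4, sh4), (CfsgLib.Sporadic.CosetCert.ONData.fast5, sh5), (CfsgLib.Sporadic.CosetCert.ONData.fast4, sh4), (CfsgLib.Sporadic.CosetCert.ONData.fast5, sh5), (CfsgLib.Sporadic.CosetCert.ONData.fast4, sh4), (CfsgLib.Sporadic.CosetCert.ONData.fast5, sh5), (CfsgLib.Sporadic.CosetCert.ONData.fast4, sh4), (CfsgLib.Sporadic.CosetCert.ONData.fast5, sh5), (CfsgLib.Sporadic.CosetCert.ONData.fast4, sh4)] 0 42000 6000 = true := by decide +kernel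
theorem shiftW12_8 : constK [(CfsgLib.Sporadic.CosetCert.ONData.fast5, sh5), (CfsgLib.Sporadic.CosetCert.ONData.fast4, sh4), (CfsgLib.Sporadic.CosetCert.ONData.fast5, sh5), (CfsgLib.Sporadic.CosetCert.ONData.fast4, sh4), (CfsgLib.Sporadic.CosetCert.ONData.fast5, sh5), (CfsgLib.Sporadic.CosetCert.ONData.fast4, sh4), (CfsgLib.Sporadic.CosetCert.ONData.fast5, sh5), (CfsgLib.Sporadic.CosetCert.ONData.fast4, sh4), (CfsgLib.Sporadic.CosetCert.ONData.fast5, sh5), (CfsgLib.Sporadic.CosetCert.ONData.fast4, sh4), (CfsgLib.Sporadic.CosetCert.ONData.fast5, sh5), (CfsgLib.Sporadic.CosetCert.ONData.fast4, sh4), (CfsgLib.Sporadic.CosetCert.ONData.fast5, sh5), (CfsgLib.Sporadic.CosetCert.ONData.fast4, sh4), (CfsgLib.Sporadic.CosetCert.ONData.fast5, sh5), (CfsgLib.Sporadic.CosetCert.ONData.fast4, sh4)] 0 48000 6000 = true := by decide +kernel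
theorem shiftW12_9 : constK [(CfsgLib.Sporadic.CosetCert.ONData.fast5, sh5), (CfsgLib.Sporadic.CosetCert.ONData.fast4, sh4), (CfsgLib.Sporadic.CosetCert.ONData.fast5, sh5), (CfsgLib.Sporadic.CosetCert.ONData.fast4, sh4), (CfsgLib.Sporadic.CosetCert.ONData.fast5, sh5), (CfsgLib.Sporadic.CosetCert.ONData.fast4, sh4), (CfsgLib.Sporadic.CosetCert.ONData.fast5, sh5), (CfsgLib.Sporadic.CosetCert.ONData.fast4, sh4), (CfsgLib.Sporadic.CosetCert.ONData.fast5, sh5), (CfsgLib.Sporadic.CosetCert.ONData.fast4, sh4), (CfsgLib.Sporadic.CosetCert.ONData.fast5, sh5), (CfsgLib.Sporadic.CosetCert.ONData.fast4, sh4), (CfsgLib.Sporadic.CosetCert.ONData.fast5, sh5), (CfsgLib.Sporadic.CosetCert.ONData.fast4, sh4), (CfsgLib.Sporadic.CosetCert.ONData.fast5, sh5), (CfsgLib.Sporadic.CosetCert.ONData.fast4, sh4)] 0 54000 6000 = true := by decide +kernel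
theorem shiftW12_10 : constK [(CfsgLib.Sporadic.CosetCert.ONData.fast5, sh5), (CfsgLib.Sporadic.CosetCert.ONData.fast4, sh4), (CfsgLib.Sporadic.CosetCert.ONData.fast5, sh5), (CfsgLib.Sporadic.CosetCert.ONData.fast4, sh4), (CfsgLib.Sporadic.CosetCert.ONData.fast5, sh5), (CfsgLib.Sporadic.CosetCert.ONData.fast4, sh4), (CfsgLib.Sporadic.CosetCert.ONData.fast5, sh5), (CfsgLib.Sporadic.CosetCert.ONData.fast4, sh4), (CfsgLib.Sporadic.CosetCert.ONData.fast5, sh5), (CfsgLib.Sporadic.CosetCert.ONData.fast4, sh4), (CfsgLib.Sporadic.CosetCert.ONData.fast5, sh5), (CfsgLib.Sporadic.CosetCert.ONData.fast4, sh4), (CfsgLib.Sporadic.CosetCert.ONData.fast5, sh5), (CfsgLib.Sporadic.CosetCert.ONData.fast4, sh4), (CfsgLib.Sporadic.CosetCert.ONData.fast5, sh5), (CfsgLib.Sporadic.CosetCert.ONData.fast4, sh4)] 0 60000 6000 = true := by decide +kernel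
theorem shiftW12_11 : constK [(CfsgLib.Sporadic.CosetCert.ONData.fast5, sh5), (CfsgLib.Sporadic.CosetCert.ONData.fast4, sh4), (CfsgLib.Sporadic.CosetCert.ONData.fast5, sh5), (CfsgLib.Sporadic.CosetCert.ONData.fast4, sh4), (CfsgLib.Sporadic.CosetCert.ONData.fast5, sh5), (CfsgLib.Sporadic.CosetCert.ONData.fast4, sh4), (CfsgLib.Sporadic.CosetCert.ONData.fast5, sh5), (CfsgLib.Sporadic.CosetCert.ONData.fast4, sh4), (CfsgLib.Sporadic.CosetCert.ONData.fast5, sh5), (CfsgLib.Sporadic.CosetCert.ONData.fast4, sh4), (CfsgLib.Sporadic.CosetCert.ONData.fast5, sh5), (CfsgLib.Sporadic.CosetCert.ONData.fast4, sh4), (CfsgLib.Sporadic.CosetCert.ONData.fast5, sh5), (CfsgLib.Sporadic.CosetCert.ONData.fast4, sh4), (CfsgLib.Sporadic.CosetCert.ONData.fast5, sh5), (CfsgLib.Sporadic.CosetCert.ONData.fast4, sh4)] 0 66000 6000 = true := by decide +kernel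
theorem shiftW12_12 : constK [(CfsgLib.Sporadic.CosetCert.ONData.fast5, sh5), (CfsgLib.Sporadic.CosetCert.ONData.fast4, sh4), (CfsgLib.Sporadic.CosetCert.ONData.fast5, sh5), (CfsgLib.Sporadic.CosetCert.ONData.fast4, sh4), (CfsgLib.Sporadic.CosetCert.ONData.fast5, sh5), (CfsgLib.Sporadic.CosetCert.ONData.fast4, sh4), (CfsgLib.Sporadic.CosetCert.ONData.fast5, sh5), (CfsgLib.Sporadic.CosetCert.ONData.fast4, sh4), (CfsgLib.Sporadic.CosetCert.ONData.fast5, sh5), (CfsgLib.Sporadic.CosetCert.ONData.fast4, sh4), (CfsgLib.Sporadic.CosetCert.ONData.fast5, sh5), (CfsgLib.Sporadic.CosetCert.ONData.fast4, sh4), (CfsgLib.Sporadic.CosetCert.ONData.fast5, sh5), (CfsgLib.Sporadic.CosetCert.ONData.fast4, sh4), (CfsgLib.Sporadic.CosetCert.ONData.fast5, sh5), (CfsgLib.Sporadic.CosetCert.ONData.fast4, sh4)] 0 72000 6000 = true := by decide +kernel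
theorem shiftW12_13 : constK [(CfsgLib.Sporadic.CosetCert.ONData.fast5, sh5), (CfsgLib.Sporadic.CosetCert.ONData.fast4, sh4), (CfsgLib.Sporadic.CosetCert.ONData.fast5, sh5), (CfsgLib.Sporadic.CosetCert.ONData.fast4, sh4), (CfsgLib.Sporadic.CosetCert.ONData.fast5, sh5), (CfsgLib.Sporadic.CosetCert.ONData.fast4, sh4), (CfsgLib.Sporadic.CosetCert.ONData.fast5, sh5), (CfsgLib.Sporadic.CosetCert.ONData.fast4, sh4), (CfsgLib.Sporadic.CosetCert.ONData.fast5, sh5), (CfsgLib.Sporadic.CosetCert.ONData.fast4, sh4), (CfsgLib.Sporadic.CosetCert.ONData.fast5, sh5), (CfsgLib.Sporadic.CosetCert.ONData.fast4, sh4), (CfsgLib.Sporadic.CosetCert.ONData.fast5, sh5), (CfsgLib.Sporadic.CosetCert.ONData.fast4, sh4), (CfsgLib.Sporadic.CosetCert.ONData.fast5, sh5), (CfsgLib.Sporadic.CosetCert.ONData.fast4, sh4)] 0 78000 6000 = true := by decide +kernel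
theorem shiftW12_14 : constK [(CfsgLib.Sporadic.CosetCert.ONData.fast5, sh5), (CfsgLib.Sporadic.CosetCert.ONData.fast4, sh4), (CfsgLib.Sporadic.CosetCert.ONData.fast5, sh5), (CfsgLib.Sporadic.CosetCert.ONData.fast4, sh4), (CfsgLib.Sporadic.CosetCert.ONData.fast5, sh5), (CfsgLib.Sporadic.CosetCert.ONData.fast4, sh4), (CfsgLib.Sporadic.CosetCert.ONData.fast5, sh5), (CfsgLib.Sporadic.CosetCert.ONData.fast4, sh4), (CfsgLib.Sporadic.CosetCert.ONData.fast5, sh5), (CfsgLib.Sporadic.CosetCert.ONData.fast4, sh4), (CfsgLib.Sporadic.CosetCert.ONData.fast5, sh5), (CfsgLib.Sporadic.CosetCert.ONData.fast4, sh4), (CfsgLib.Sporadic.CosetCert.ONData.fast5, sh5), (CfsgLib.Sporadic.CosetCert.ONData.fast4, sh4), (CfsgLib.Sporadic.CosetCert.ONData.fast5, sh5), (CfsgLib.Sporadic.CosetCert.ONData.fast4, sh4)] 0 84000 6000 = true := by decide +kernel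
theorem shiftW12_15 : constK [(CfsgLib.Sporadic.CosetCert.ONData.fast5, sh5), (CfsgLib.Sporadic.CosetCert.ONData.fast4, sh4), (CfsgLib.Sporadic.CosetCert.ONData.fast5, sh5), (CfsgLib.Sporadic.CosetCert.ONData.fast4, sh4), (CfsgLib.Sporadic.CosetCert.ONData.fast5, sh5), (CfsgLib.Sporadic.CosetCert.ONData.fast4, sh4), (CfsgLib.Sporadic.CosetCert.ONData.fast5, sh5), (CfsgLib.Sporadic.CosetCert.ONData.fast4, sh4), (CfsgLib.Sporadic.CosetCert.ONData.fast5, sh5), (CfsgLib.Sporadic.CosetCert.ONData.fast4, sh4), (CfsgLib.Sporadic.CosetCert.ONData.fast5, sh5), (CfsgLib.Sporadic.CosetCert.ONData.fast4, sh4), (CfsgLib.Sporadic.CosetCert.ONData.fast5, sh5), (CfsgLib.Sporadic.CosetCert.ONData.fast4, sh4), (CfsgLib.Sporadic.CosetCert.ONData.fast5, sh5), (CfsgLib.Sporadic.CosetCert.ONData.fast4, sh4)] 0 90000 6000 = true := by decide +kernel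
theorem shiftW12_16 : constK [(CfsgLib.Sporadic.CosetCert.ONData.fast5, sh5), (CfsgLib.Sporadic.CosetCert.ONData.fast4, sh4), (CfsgLib.Sporadic.CosetCert.ONData.fast5, sh5), (CfsgLib.Sporadic.CosetCert.ONData.fast4, sh4), (CfsgLib.Sporadic.CosetCert.ONData.fast5, sh5), (CfsgLib.Sporadic.CosetCert.ONData.fast4, sh4), (CfsgLib.Sporadic.CosetCert.ONData.fast5, sh5), (CfsgLib.Sporadic.CosetCert.ONData.fast4, sh4), (CfsgLib.Sporadic.CosetCert.ONData.fast5, sh5), (CfsgLib.Sporadic.CosetCert.ONData.fast4, sh4), (CfsgLib.Sporadic.CosetCert.ONData.fast5, sh5), (CfsgLib.Sporadic.CosetCert.ONData.fast4, sh4), (CfsgLib.Sporadic.CosetCert.ONData.fast5, sh5), (CfsgLib.Sporadic.CosetCert.ONData.fast4, sh4), (CfsgLib.Sporadic.CosetCert.ONData.fast5, sh5), (CfsgLib.Sporadic.CosetCert.ONData.fast4, sh4)] 0 96000 6000 = true := by decide +kernel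
theorem shiftW12_17 : constK [(CfsgLib.Sporadic.CosetCert.ONData.fast5, sh5), (CfsgLib.Sporadic.CosetCert.ONData.fast4, sh4), (CfsgLib.Sporadic.CosetCert.ONData.fast5, sh5), (CfsgLib.Sporadic.CosetCert.ONData.fast4, sh4), (CfsgLib.Sporadic.CosetCert.ONData.fast5, sh5), (CfsgLib.Sporadic.CosetCert.ONData.fast4, sh4), (CfsgLib.Sporadic.CosetCert.ONData.fast5, sh5), (CfsgLib.Sporadic.CosetCert.ONData.fast4, sh4), (CfsgLib.Sporadic.CosetCert.ONData.fast5, sh5), (CfsgLib.Sporadic.CosetCert.ONData.fast4, sh4), (CfsgLib.Sporadic.CosetCert.ONData.fast5, sh5), (CfsgLib.Sporadic.CosetCert.ONData.fast4, sh4), (CfsgLib.Sporadic.CosetCert.ONData.fast5, sh5), (CfsgLib.Sporadic.CosetCert.ONData.fast4, sh4), (CfsgLib.Sporadic.CosetCert.ONData.fast5, sh5), (CfsgLib.Sporadic.CosetCert.ONData.fast4, sh4)] 0 102000 6000 = true := by decide +kernel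
theorem shiftW12_18 : constK [(CfsgLib.Sporadic.CosetCert.ONData.fast5, sh5), (CfsgLib.Sporadic.CosetCert.ONData.fast4, sh4), (CfsgLib.Sporadic.CosetCert.ONData.fast5, sh5), (CfsgLib.Sporadic.CosetCert.ONData.fast4, sh4), (CfsgLib.Sporadic.CosetCert.ONData.fast5, sh5), (CfsgLib.Sporadic.CosetCert.ONData.fast4, sh4), (CfsgLib.Sporadic.CosetCert.ONData.fast5, sh5), (CfsgLib.Sporadic.CosetCert.ONData.fast4, sh4), (CfsgLib.Sporadic.CosetCert.ONData.fast5, sh5), (CfsgLib.Sporadic.CosetCert.ONData.fast4, sh4), (CfsgLib.Sporadic.CosetCert.ONData.fast5, sh5), (CfsgLib.Sporadic.CosetCert.ONData.fast4, sh4), (CfsgLib.Sporadic.CosetCert.ONData.fast5, sh5), (CfsgLib.Sporadic.CosetCert.ONData.fast4, sh4), (CfsgLib.Sporadic.CosetCert.ONData.fast5, sh5), (CfsgLib.Sporadic.CosetCert.ONData.fast4, sh4)] 0 108000 6000 = true := by decide +kernel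
theorem shiftW12_19 : constK [(CfsgLib.Sporadic.CosetCert.ONData.fast5, sh5), (CfsgLib.Sporadic.CosetCert.ONData.fast4, sh4), (CfsgLib.Sporadic.CosetCert.ONData.fast5, sh5), (CfsgLib.Sporadic.CosetCert.ONData.fast4, sh4), (CfsgLib.Sporadic.CosetCert.ONData.fast5, sh5), (CfsgLib.Sporadic.CosetCert.ONData.fast4, sh4), (CfsgLib.Sporadic.CosetCert.ONData.fast5, sh5), (CfsgLib.Sporadic.CosetCert.ONData.fast4, sh4), (CfsgLib.Sporadic.CosetCert.ONData.fast5, sh5), (CfsgLib.Sporadic.CosetCert.ONData.fast4, sh4), (CfsgLib.Sporadic.CosetCert.ONData.fast5, sh5), (CfsgLib.Sporadic.CosetCert.ONData.fast4, sh4), (CfsgLib.Sporadic.CosetCert.ONData.fast5, sh5), (CfsgLib.Sporadic.CosetCert.ONData.fast4, sh4), (CfsgLib.Sporadic.CosetCert.ONData.fast5, sh5), (CfsgLib.Sporadic.CosetCert.ONData.fast4, sh4)] 0 114000 6000 = true := by decide +kernel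
theorem shiftW12_20 : constK [(CfsgLib.Sporadic.CosetCert.ONData.fast5, sh5), (CfsgLib.Sporadic.CosetCert.ONData.fast4, sh4), (CfsgLib.Sporadic.CosetCert.ONData.fast5, sh5), (CfsgLib.Sporadic.CosetCert.ONData.fast4, sh4), (CfsgLib.Sporadic.CosetCert.ONData.fast5, sh5), (CfsgLib.Sporadic.CosetCert.ONData.fast4, sh4), (CfsgLib.Sporadic.CosetCert.ONData.fast5, sh5), (CfsgLib.Sporadic.CosetCert.ONData.fast4, sh4), (CfsgLib.Sporadic.CosetCert.ONData.fast5, sh5), (CfsgLib.Sporadic.CosetCert.ONData.fast4, sh4), (CfsgLib.Sporadic.CosetCert.ONData.fast5, sh5), (CfsgLib.Sporadic.CosetCert.ONData.fast4, sh4), (CfsgLib.Sporadic.CosetCert.ONData.fast5, sh5), (CfsgLib.Sporadic.CosetCert.ONData.fast4, sh4), (CfsgLib.Sporadic.CosetCert.ONData.fast5, sh5), (CfsgLib.Sporadic.CosetCert.ONData.fast4, sh4)] 0 120000 2760 = true := by decide +kernel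

theorem shiftW12 : ∀ u < 122760, Nat.mod (runS [(CfsgLib.Sporadic.CosetCert.ONData.fast5, sh5), (CfsgLib.Sporadic.CosetCert.ONData.fast4, sh4), (CfsgLib.Sporadic.CosetCert.ONData.fast5, sh5), (CfsgLib.Sporadic.CosetCert.ONData.fast4, sh4), (CfsgLib.Sporadic.CosetCert.ONData.fast5, sh5), (CfsgLib.Sporadic.CosetCert.ONData.fast4, sh4), (CfsgLib.Sporadic.CosetCert.ONData.fast5, sh5), (CfsgLib.Sporadic.CosetCert.ONData.fast4, sh4), (CfsgLib.Sporadic.CosetCert.ONData.fast5, sh5), (CfsgLib.Sporadic.CosetCert.ONData.fast4, sh4), (CfsgLib.Sporadic.CosetCert.ONData.fast5, sh5), (CfsgLib.Sporadic.CosetCert.ONData.fast4, sh4), (CfsgLib.Sporadic.CosetCert.ONData.fast5, sh5), (CfsgLib.Sporadic.CosetCert.ONData.fast4, sh4), (CfsgLib.Sporadic.CosetCert.ONData.fast5, sh5), (CfsgLib.Sporadic.CosetCert.ONData.fast4, sh4)] u) 3 = 0 := fun u hu =>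
  (range_split (range_split (range_split (range_split (constK_spec shiftW12_0) (constK_spec shiftW12_1)) (range_split (constK_spec shiftW12_2) (range_split (constK_spec shiftW12_3) (constK_spec shiftW12_4)))) (range_split (range_split (constK_spec shiftW12_5) (constK_spec shiftW12_6)) (range_split (constK_spec shiftW12_7) (range_split (constK_spec shiftW12_8) (constK_spec shiftW12_9))))) (range_split (range_split (range_split (constK_spec shiftW12_10) (constK_spec shiftW12_11)) (range_split (constK_spec shiftW12_12) (range_split (constK_spec shiftW12_13) (constK_spec shiftW12_14)))) (range_split (range_split (constK_spec shiftW12_15) (range_split (constK_spec shiftW12_16) (constK_spec shiftW12_17))) (range_split (constK_spec shiftW12_18) (range_split (constK_spec shiftW12_19) (constK_spec shiftW12_20)))))) u (Nat.zero_le _) hu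

theorem shiftW13_0 : constK [(CfsgLib.Sporadic.CosetCert.ONData.fast6, sh6), (CfsgLib.Sporadic.CosetCert.ONData.fast4, sh4), (CfsgLib.Sporadic.CosetCert.ONData.fast6, sh6), (CfsgLib.Sporadic.CosetCert.ONData.fast4, sh4)] 0 0 6000 = true := by decide +kernel
theorem shiftW13_1 : constK [(CfsgLib.Sporadic.CosetCert.ONData.fast6, sh6), (CfsgLib.Sporadic.CosetCert.ONData.fast4, sh4), (CfsgLib.Sporadic.CosetCert.ONData.fast6, sh6), (CfsgLib.Sporadic.CosetCert.ONData.fast4, sh4)] 0 6000 6000 = true := by decide +kernel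
theorem shiftW13_2 : constK [(CfsgLib.Sporadic.CosetCert.ONData.fast6, sh6), (CfsgLib.Sporadic.CosetCert.ONData.fast4, sh4), (CfsgLib.Sporadic.CosetCert.ONData.fast6, sh6), (CfsgLib.Sporadic.CosetCert.ONData.fast4, sh4)] 0 12000 6000 = true := by decide +kernel
theorem shiftW13_3 : constK [(CfsgLib.Sporadic.CosetCert.ONData.fast6, sh6), (CfsgLib.Sporadic.CosetCert.ONData.fast4, sh4), (CfsgLib.Sporadic.CosetCert.ONData.fast6, sh6), (CfsgLib.Sporadic.CosetCert.ONData.fast4, sh4)] 0 18000 6000 = true := by decide +kernel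
theorem shiftW13_4 : constK [(CfsgLib.Sporadic.CosetCert.ONData.fast6, sh6), (CfsgLib.Sporadic.CosetCert.ONData.fast4, sh4), (CfsgLib.Sporadic.CosetCert.ONData.fast6, sh6), (CfsgLib.Sporadic.CosetCert.ONData.fast4, sh4)] 0 24000 6000 = true := by decide +kernel
theorem shiftW13_5 : constK [(CfsgLib.Sporadic.CosetCert.ONData.fast6, sh6), (CfsgLib.Sporadic.CosetCert.ONData.fast4, sh4), (CfsgLib.Sporadic.CosetCert.ONData.fast6, sh6), (CfsgLib.Sporadic.CosetCert.ONData.fast4, sh4)] 0 30000 6000 = true := by decide +kernel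
theorem shiftW13_6 : constK [(CfsgLib.Sporadic.CosetCert.ONData.fast6, sh6), (CfsgLib.Sporadic.CosetCert.ONData.fast4, sh4), (CfsgLib.Sporadic.CosetCert.ONData.fast6, sh6), (CfsgLib.Sporadic.CosetCert.ONData.fast4, sh4)] 0 36000 6000 = true := by decide +kernel
theorem shiftW13_7 : constK [(CfsgLib.Sporadic.CosetCert.ONData.fast6, sh6), (CfsgLib.Sporadic.CosetCert.ONData.fast4, sh4), (CfsgLib.Sporadic.CosetCert.ONData.fast6, sh6), (CfsgLib.Sporadic.CosetCert.ONData.fast4, sh4)] 0 42000 6000 = true := by decide +kernel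
theorem shiftW13_8 : constK [(CfsgLib.Sporadic.CosetCert.ONData.fast6, sh6), (CfsgLib.Sporadic.CosetCert.ONData.fast4, sh4), (CfsgLib.Sporadic.CosetCert.ONData.fast6, sh6), (CfsgLib.Sporadic.CosetCert.ONData.fast4, sh4)] 0 48000 6000 = true := by decide +kernel
theorem shiftW13_9 : constK [(CfsgLib.Sporadic.CosetCert.ONData.fast6, sh6), (CfsgLib.Sporadic.CosetCert.ONData.fast4, sh4), (CfsgLib.Sporadic.CosetCert.ONData.fast6, sh6), (CfsgLib.Sporadic.CosetCert.ONData.fast4, sh4)] 0 54000 6000 = true := by decide +kernel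
theorem shiftW13_10 : constK [(CfsgLib.Sporadic.CosetCert.ONData.fast6, sh6), (CfsgLib.Sporadic.CosetCert.ONData.fast4, sh4), (CfsgLib.Sporadic.CosetCert.ONData.fast6, sh6), (CfsgLib.Sporadic.CosetCert.ONData.fast4, sh4)] 0 60000 6000 = true := by decide +kernel
theorem shiftW13_11 : constK [(CfsgLib.Sporadic.CosetCert.ONData.fast6, sh6), (CfsgLib.Sporadic.CosetCert.ONData.fast4, sh4), (CfsgLib.Sporadic.CosetCert.ONData.fast6, sh6), (CfsgLib.Sporadic.CosetCert.ONData.fast4, sh4)] 0 66000 6000 = true := by decide +kernel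
theorem shiftW13_12 : constK [(CfsgLib.Sporadic.CosetCert.ONData.fast6, sh6), (CfsgLib.Sporadic.CosetCert.ONData.fast4, sh4), (CfsgLib.Sporadic.CosetCert.ONData.fast6, sh6), (CfsgLib.Sporadic.CosetCert.ONData.fast4, sh4)] 0 72000 6000 = true := by decide +kernel
theorem shiftW13_13 : constK [(CfsgLib.Sporadic.CosetCert.ONData.fast6, sh6), (CfsgLib.Sporadic.CosetCert.ONData.fast4, sh4), (CfsgLib.Sporadic.CosetCert.ONData.fast6, sh6), (CfsgLib.Sporadic.CosetCert.ONData.fast4, sh4)] 0 78000 6000 = true := by decide +kernel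
theorem shiftW13_14 : constK [(CfsgLib.Sporadic.CosetCert.ONData.fast6, sh6), (CfsgLib.Sporadic.CosetCert.ONData.fast4, sh4), (CfsgLib.Sporadic.CosetCert.ONData.fast6, sh6), (CfsgLib.Sporadic.CosetCert.ONData.fast4, sh4)] 0 84000 6000 = true := by decide +kernel
theorem shiftW13_15 : constK [(CfsgLib.Sporadic.CosetCert.ONData.fast6, sh6), (CfsgLib.Sporadic.CosetCert.ONData.fast4, sh4), (CfsgLib.Sporadic.CosetCert.ONData.fast6, sh6), (CfsgLib.Sporadic.CosetCert.ONData.fast4, sh4)] 0 90000 6000 = true := by decide +kernel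
theorem shiftW13_16 : constK [(CfsgLib.Sporadic.CosetCert.ONData.fast6, sh6), (CfsgLib.Sporadic.CosetCert.ONData.fast4, sh4), (CfsgLib.Sporadic.CosetCert.ONData.fast6, sh6), (CfsgLib.Sporadic.CosetCert.ONData.fast4, sh4)] 0 96000 6000 = true := by decide +kernel
theorem shiftW13_17 : constK [(CfsgLib.Sporadic.CosetCert.ONData.fast6, sh6), (CfsgLib.Sporadic.CosetCert.ONData.fast4, sh4), (CfsgLib.Sporadic.CosetCert.ONData.fast6, sh6), (CfsgLib.Sporadic.CosetCert.ONData.fast4, sh4)] 0 102000 6000 = true := by decide +kernel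
theorem shiftW13_18 : constK [(CfsgLib.Sporadic.CosetCert.ONData.fast6, sh6), (CfsgLib.Sporadic.CosetCert.ONData.fast4, sh4), (CfsgLib.Sporadic.CosetCert.ONData.fast6, sh6), (CfsgLib.Sporadic.CosetCert.ONData.fast4, sh4)] 0 108000 6000 = true := by decide +kernel
theorem shiftW13_19 : constK [(CfsgLib.Sporadic.CosetCert.ONData.fast6, sh6), (CfsgLib.Sporadic.CosetCert.ONData.fast4, sh4), (CfsgLib.Sporadic.CosetCert.ONData.fast6, sh6), (CfsgLib.Sporadic.CosetCert.ONData.fast4, sh4)] 0 114000 6000 = true := by decide +kernel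
theorem shiftW13_20 : constK [(CfsgLib.Sporadic.CosetCert.ONData.fast6, sh6), (CfsgLib.Sporadic.CosetCert.ONData.fast4, sh4), (CfsgLib.Sporadic.CosetCert.ONData.fast6, sh6), (CfsgLib.Sporadic.CosetCert.ONData.fast4, sh4)] 0 120000 2760 = true := by decide +kernel

theorem shiftW13 : ∀ u < 122760, Nat.mod (runS [(CfsgLib.Sporadic.CosetCert.ONData.fast6, sh6), (CfsgLib.Sporadic.CosetCert.ONData.fast4, sh4), (CfsgLib.Sporadic.CosetCert.ONData.fast6, sh6), (CfsgLib.Sporadic.CosetCert.ONData.fast4, sh4)] u) 3 = 0 := fun u hu =>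
  (range_split (range_split (range_split (range_split (constK_spec shiftW13_0) (constK_spec shiftW13_1)) (range_split (constK_spec shiftW13_2) (range_split (constK_spec shiftW13_3) (constK_spec shiftW13_4)))) (range_split (range_split (constK_spec shiftW13_5) (constK_spec shiftW13_6)) (range_split (constK_spec shiftW13_7) (range_split (constK_spec shiftW13_8) (constK_spec shiftW13_9))))) (range_split (range_split (range_split (constK_spec shiftW13_10) (constK_spec shiftW13_11)) (range_split (constK_spec shiftW13_12) (range_split (constK_spec shiftW13_13) (constK_spec shiftW13_14)))) (range_split (range_split (constK_spec shiftW13_15) (range_split (constK_spec shiftW13_16) (constK_spec shiftW13_17))) (range_split (constK_spec shiftW13_18) (range_split (constK_spec shiftW13_19) (constK_spec shiftW13_20)))))) u (Nat.zero_le _) hu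

theorem shiftW18_0 : constK [(CfsgLib.Sporadic.CosetCert.ONData.fast6, sh6), (CfsgLib.Sporadic.CosetCert.ONData.fast6, sh6)] 0 0 6000 = true := by decide +kernel
theorem shiftW18_1 : constK [(CfsgLib.Sporadic.CosetCert.ONData.fast6, sh6), (CfsgLib.Sporadic.CosetCert.ONData.fast6, sh6)] 0 6000 6000 = true := by decide +kernel
theorem shiftW18_2 : constK [(CfsgLib.Sporadic.CosetCert.ONData.fast6, sh6), (CfsgLib.Sporadic.CosetCert.ONData.fast6, sh6)] 0 12000 6000 = true := by decide +kernel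
theorem shiftW18_3 : constK [(CfsgLib.Sporadic.CosetCert.ONData.fast6, sh6), (CfsgLib.Sporadic.CosetCert.ONData.fast6, sh6)] 0 18000 6000 = true := by decide +kernel
theorem shiftW18_4 : constK [(CfsgLib.Sporadic.CosetCert.ONData.fast6, sh6), (CfsgLib.Sporadic.CosetCert.ONData.fast6, sh6)] 0 24000 6000 = true := by decide +kernel
theorem shiftW18_5 : constK [(CfsgLib.Sporadic.CosetCert.ONData.fast6, sh6), (CfsgLib.Sporadic.CosetCert.ONData.fast6, sh6)] 0 30000 6000 = true := by decide +kernel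
theorem shiftW18_6 : constK [(CfsgLib.Sporadic.CosetCert.ONData.fast6, sh6), (CfsgLib.Sporadic.CosetCert.ONData.fast6, sh6)] 0 36000 6000 = true := by decide +kernel
theorem shiftW18_7 : constK [(CfsgLib.Sporadic.CosetCert.ONData.fast6, sh6), (CfsgLib.Sporadic.CosetCert.ONData.fast6, sh6)] 0 42000 6000 = true := by decide +kernel
theorem shiftW18_8 : constK [(CfsgLib.Sporadic.CosetCert.ONData.fast6, sh6), (CfsgLib.Sporadic.CosetCert.ONData.fast6, sh6)] 0 48000 6000 = true := by decide +kernel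
theorem shiftW18_9 : constK [(CfsgLib.Sporadic.CosetCert.ONData.fast6, sh6), (CfsgLib.Sporadic.CosetCert.ONData.fast6, sh6)] 0 54000 6000 = true := by decide +kernel
theorem shiftW18_10 : constK [(CfsgLib.Sporadic.CosetCert.ONData.fast6, sh6), (CfsgLib.Sporadic.CosetCert.ONData.fast6, sh6)] 0 60000 6000 = true := by decide +kernel
theorem shiftW18_11 : constK [(CfsgLib.Sporadic.CosetCert.ONData.fast6, sh6), (CfsgLib.Sporadic.CosetCert.ONData.fast6, sh6)] 0 66000 6000 = true := by decide +kernel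
theorem shiftW18_12 : constK [(CfsgLib.Sporadic.CosetCert.ONData.fast6, sh6), (CfsgLib.Sporadic.CosetCert.ONData.fast6, sh6)] 0 72000 6000 = true := by decide +kernel
theorem shiftW18_13 : constK [(CfsgLib.Sporadic.CosetCert.ONData.fast6, sh6), (CfsgLib.Sporadic.CosetCert.ONData.fast6, sh6)] 0 78000 6000 = true := by decide +kernel
theorem shiftW18_14 : constK [(CfsgLib.Sporadic.CosetCert.ONData.fast6, sh6), (CfsgLib.Sporadic.CosetCert.ONData.fast6, sh6)] 0 84000 6000 = true := by decide +kernel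
theorem shiftW18_15 : constK [(CfsgLib.Sporadic.CosetCert.ONData.fast6, sh6), (CfsgLib.Sporadic.CosetCert.ONData.fast6, sh6)] 0 90000 6000 = true := by decide +kernel
theorem shiftW18_16 : constK [(CfsgLib.Sporadic.CosetCert.ONData.fast6, sh6), (CfsgLib.Sporadic.CosetCert.ONData.fast6, sh6)] 0 96000 6000 = true := by decide +kernel
theorem shiftW18_17 : constK [(CfsgLib.Sporadic.CosetCert.ONData.fast6, sh6), (CfsgLib.Sporadic.CosetCert.ONData.fast6, sh6)] 0 102000 6000 = true := by decide +kernel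
theorem shiftW18_18 : constK [(CfsgLib.Sporadic.CosetCert.ONData.fast6, sh6), (CfsgLib.Sporadic.CosetCert.ONData.fast6, sh6)] 0 108000 6000 = true := by decide +kernel
theorem shiftW18_19 : constK [(CfsgLib.Sporadic.CosetCert.ONData.fast6, sh6), (CfsgLib.Sporadic.CosetCert.ONData.fast6, sh6)] 0 114000 6000 = true := by decide +kernel
theorem shiftW18_20 : constK [(CfsgLib.Sporadic.CosetCert.ONData.fast6, sh6), (CfsgLib.Sporadic.CosetCert.ONData.fast6, sh6)] 0 120000 2760 = true := by decide +kernel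

theorem shiftW18 : ∀ u < 122760, Nat.mod (runS [(CfsgLib.Sporadic.CosetCert.ONData.fast6, sh6), (CfsgLib.Sporadic.CosetCert.ONData.fast6, sh6)] u) 3 = 0 := fun u hu =>
  (range_split (range_split (range_split (range_split (constK_spec shiftW18_0) (constK_spec shiftW18_1)) (range_split (constK_spec shiftW18_2) (range_split (constK_spec shiftW18_3) (constK_spec shiftW18_4)))) (range_split (range_split (constK_spec shiftW18_5) (constK_spec shiftW18_6)) (range_split (constK_spec shiftW18_7) (range_split (constK_spec shiftW18_8) (constK_spec shiftW18_9))))) (range_split (range_split (range_split (constK_spec shiftW18_10) (constK_spec shiftW18_11)) (range_split (constK_spec shiftW18_12) (range_split (constK_spec shiftW18_13) (constK_spec shiftW18_14)))) (range_split (range_split (constK_spec shiftW18_15) (range_split (constK_spec shiftW18_16) (constK_spec shiftW18_17))) (range_split (constK_spec shiftW18_18) (range_split (constK_spec shiftW18_19) (constK_spec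 shiftW18_20)))))) u (Nat.zero_le _) hu

end CfsgLib.Schur.Sporadic.ON
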