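import Cfsg.Agent.Lib.Schur.ON.Shift

/-!
Kernel checks of the triple cover of the O'Nan group: the lifted relators shift all sheets alike.
-/

set_option autoImplicit false
set_option maxRecDepth 100000
set_option maxHeartbeats 0
set_option Elab.async false

namespace CfsgLib.Schur.Sporadic.ON

open CfsgLib.Sporadic.CosetCert (range_split)

theorem shiftW3_0 : constK [(CfsgLib.Sporadic.CosetCert.ONData.fast5, sh5), (CfsgLib.Sporadic.CosetCert.ONData.fast2, sh2), (CfsgLib.Sporadic.CosetCert.ONData.fast5, sh5), (CfsgLib.Sporadic.CosetCert.ONData.fast2, sh2)] 0 0 6000 = true := by decide +kernel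
theorem shiftW3_1 : constK [(CfsgLib.Sporadic.CosetCert.ONData.fast5, sh5), (CfsgLib.Sporadic.CosetCert.ONData.fast2, sh2), (CfsgLib.Sporadic.CosetCert.ONData.fast5, sh5), (CfsgLib.Sporadic.CosetCert.ONData.fast2, sh2)] 0 6000 6000 = true := by decide +kernel
theorem shiftW3_2 : constK [(CfsgLib.Sporadic.CosetCert.ONData.fast5, sh5), (CfsgLib.Sporadic.CosetCert.ONData.fast2, sh2), (CfsgLib.Sporadic.CosetCert.ONData.fast5, sh5), (CfsgLib.Sporadic.CosetCert.ONData.fast2, sh2)] 0 12000 6000 = true := by decide +kernel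
theorem shiftW3_3 : constK [(CfsgLib.Sporadic.CosetCert.ONData.fast5, sh5), (CfsgLib.Sporadic.CosetCert.ONData.fast2, sh2), (CfsgLib.Sporadic.CosetCert.ONData.fast5, sh5), (CfsgLib.Sporadic.CosetCert.ONData.fast2, sh2)] 0 18000 6000 = true := by decide +kernel
theorem shiftW3_4 : constK [(CfsgLib.Sporadic.CosetCert.ONData.fast5, sh5), (CfsgLib.Sporadic.CosetCert.ONData.fast2, sh2), (CfsgLib.Sporadic.CosetCert.ONData.fast5, sh5), (CfsgLib.Sporadic.CosetCert.ONData.fast2, sh2)] 0 24000 6000 = true := by decide +kernel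
theorem shiftW3_5 : constK [(CfsgLib.Sporadic.CosetCert.ONData.fast5, sh5), (CfsgLib.Sporadic.CosetCert.ONData.fast2, sh2), (CfsgLib.Sporadic.CosetCert.ONData.fast5, sh5), (CfsgLib.Sporadic.CosetCert.ONData.fast2, sh2)] 0 30000 6000 = true := by decide +kernel
theorem shiftW3_6 : constK [(CfsgLib.Sporadic.CosetCert.ONData.fast5, sh5), (CfsgLib.Sporadic.CosetCert.ONData.fast2, sh2), (CfsgLib.Sporadic.CosetCert.ONData.fast5, sh5), (CfsgLib.Sporadic.CosetCert.ONData.fast2, sh2)] 0 36000 6000 = true := by decide +kernel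
theorem shiftW3_7 : constK [(CfsgLib.Sporadic.CosetCert.ONData.fast5, sh5), (CfsgLib.Sporadic.CosetCert.ONData.fast2, sh2), (CfsgLib.Sporadic.CosetCert.ONData.fast5, sh5), (CfsgLib.Sporadic.CosetCert.ONData.fast2, sh2)] 0 42000 6000 = true := by decide +kernel
theorem shiftW3_8 : constK [(CfsgLib.Sporadic.CosetCert.ONData.fast5, sh5), (CfsgLib.Sporadic.CosetCert.ONData.fast2, sh2), (CfsgLib.Sporadic.CosetCert.ONData.fast5, sh5), (CfsgLib.Sporadic.CosetCert.ONData.fast2, sh2)] 0 48000 6000 = true := by decide +kernel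
theorem shiftW3_9 : constK [(CfsgLib.Sporadic.CosetCert.ONData.fast5, sh5), (CfsgLib.Sporadic.CosetCert.ONData.fast2, sh2), (CfsgLib.Sporadic.CosetCert.ONData.fast5, sh5), (CfsgLib.Sporadic.CosetCert.ONData.fast2, sh2)] 0 54000 6000 = true := by decide +kernel
theorem shiftW3_10 : constK [(CfsgLib.Sporadic.CosetCert.ONData.fast5, sh5), (CfsgLib.Sporadic.CosetCert.ONData.fast2, sh2), (CfsgLib.Sporadic.CosetCert.ONData.fast5, sh5), (CfsgLib.Sporadic.CosetCert.ONData.fast2, sh2)] 0 60000 6000 = true := by decide +kernel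
theorem shiftW3_11 : constK [(CfsgLib.Sporadic.CosetCert.ONData.fast5, sh5), (CfsgLib.Sporadic.CosetCert.ONData.fast2, sh2), (CfsgLib.Sporadic.CosetCert.ONData.fast5, sh5), (CfsgLib.Sporadic.CosetCert.ONData.fast2, sh2)] 0 66000 6000 = true := by decide +kernel
theorem shiftW3_12 : constK [(CfsgLib.Sporadic.CosetCert.ONData.fast5, sh5), (CfsgLib.Sporadic.CosetCert.ONData.fast2, sh2), (CfsgLib.Sporadic.CosetCert.ONData.fast5, sh5), (CfsgLib.Sporadic.CosetCert.ONData.fast2, sh2)] 0 72000 6000 = true := by decide +kernel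
theorem shiftW3_13 : constK [(CfsgLib.Sporadic.CosetCert.ONData.fast5, sh5), (CfsgLib.Sporadic.CosetCert.ONData.fast2, sh2), (CfsgLib.Sporadic.CosetCert.ONData.fast5, sh5), (CfsgLib.Sporadic.CosetCert.ONData.fast2, sh2)] 0 78000 6000 = true := by decide +kernel
theorem shiftW3_14 : constK [(CfsgLib.Sporadic.CosetCert.ONData.fast5, sh5), (CfsgLib.Sporadic.CosetCert.ONData.fast2, sh2), (CfsgLib.Sporadic.CosetCert.ONData.fast5, sh5), (CfsgLib.Sporadic.CosetCert.ONData.fast2, sh2)] 0 84000 6000 = true := by decide +kernel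
theorem shiftW3_15 : constK [(CfsgLib.Sporadic.CosetCert.ONData.fast5, sh5), (CfsgLib.Sporadic.CosetCert.ONData.fast2, sh2), (CfsgLib.Sporadic.CosetCert.ONData.fast5, sh5), (CfsgLib.Sporadic.CosetCert.ONData.fast2, sh2)] 0 90000 6000 = true := by decide +kernel
theorem shiftW3_16 : constK [(CfsgLib.Sporadic.CosetCert.ONData.fast5, sh5), (CfsgLib.Sporadic.CosetCert.ONData.fast2, sh2), (CfsgLib.Sporadic.CosetCert.ONData.fast5, sh5), (CfsgLib.Sporadic.CosetCert.ONData.fast2, sh2)] 0 96000 6000 = true := by decide +kernel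
theorem shiftW3_17 : constK [(CfsgLib.Sporadic.CosetCert.ONData.fast5, sh5), (CfsgLib.Sporadic.CosetCert.ONData.fast2, sh2), (CfsgLib.Sporadic.CosetCert.ONData.fast5, sh5), (CfsgLib.Sporadic.CosetCert.ONData.fast2, sh2)] 0 102000 6000 = true := by decide +kernel
theorem shiftW3_18 : constK [(CfsgLib.Sporadic.CosetCert.ONData.fast5, sh5), (CfsgLib.Sporadic.CosetCert.ONData.fast2, sh2), (CfsgLib.Sporadic.CosetCert.ONData.fast5, sh5), (CfsgLib.Sporadic.CosetCert.ONData.fast2, sh2)] 0 108000 6000 = true := by decide +kernel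
theorem shiftW3_19 : constK [(CfsgLib.Sporadic.CosetCert.ONData.fast5, sh5), (CfsgLib.Sporadic.CosetCert.ONData.fast2, sh2), (CfsgLib.Sporadic.CosetCert.ONData.fast5, sh5), (CfsgLib.Sporadic.CosetCert.ONData.fast2, sh2)] 0 114000 6000 = true := by decide +kernel
theorem shiftW3_20 : constK [(CfsgLib.Sporadic.CosetCert.ONData.fast5, sh5), (CfsgLib.Sporadic.CosetCert.ONData.fast2, sh2), (CfsgLib.Sporadic.CosetCert.ONData.fast5, sh5), (CfsgLib.Sporadic.CosetCert.ONData.fast2, sh2)] 0 120000 2760 = true := by decide +kernel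

theorem shiftW3 : ∀ u < 122760, Nat.mod (runS [(CfsgLib.Sporadic.CosetCert.ONData.fast5, sh5), (CfsgLib.Sporadic.CosetCert.ONData.fast2, sh2), (CfsgLib.Sporadic.CosetCert.ONData.fast5, sh5), (CfsgLib.Sporadic.CosetCert.ONData.fast2, sh2)] u) 3 = 0 := fun u hu =>
  (range_split (range_split (range_split (range_split (constK_spec shiftW3_0) (constK_spec shiftW3_1)) (range_split (constK_spec shiftW3_2) (range_split (constK_spec shiftW3_3) (constK_spec shiftW3_4)))) (range_split (range_split (constK_spec shiftW3_5) (constK_spec shiftW3_6)) (range_split (constK_spec shiftW3_7) (range_split (constK_spec shiftW3_8) (constK_spec shiftW3_9))))) (range_split (range_split (range_split (constK_spec shiftW3_10) (constK_spec shiftW3_11)) (range_split (constK_spec shiftW3_12) (range_split (constK_spec shiftW3_13) (constK_spec shiftW3_14)))) (range_split (range_split (constK_spec shiftW3_15) (range_split (constK_spec shiftW3_16) (constK_spec shiftW3_17))) (range_split (constK_spec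 shiftW3_18) (range_split (constK_spec shiftW3_19) (constK_spec shiftW3_20)))))) u (Nat.zero_le _) hu

theorem shiftW6_0 : constK [(CfsgLib.Sporadic.CosetCert.ONData.fast3, sh3), (CfsgLib.Sporadic.CosetCert.ONData.fast3, sh3)] 0 0 6000 = true := by decide +kernel
theorem shiftW6_1 : constK [(CfsgLib.Sporadic.CosetCert.ONData.fast3, sh3), (CfsgLib.Sporadic.CosetCert.ONData.fast3, sh3)] 0 6000 6000 = true := by decide +kernel
theorem shiftW6_2 : constK [(CfsgLib.Sporadic.CosetCert.ONData.fast3, sh3), (CfsgLib.Sporadic.CosetCert.ONData.fast3, sh3)] 0 12000 6000 = true := by decide +kernel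
theorem shiftW6_3 : constK [(CfsgLib.Sporadic.CosetCert.ONData.fast3, sh3), (CfsgLib.Sporadic.CosetCert.ONData.fast3, sh3)] 0 18000 6000 = true := by decide +kernel
theorem shiftW6_4 : constK [(CfsgLib.Sporadic.CosetCert.ONData.fast3, sh3), (CfsgLib.Sporadic.CosetCert.ONData.fast3, sh3)] 0 24000 6000 = true := by decide +kernel
theorem shiftW6_5 : constK [(CfsgLib.Sporadic.CosetCert.ONData.fast3, sh3), (CfsgLib.Sporadic.CosetCert.ONData.fast3, sh3)] 0 30000 6000 = true := by decide +kernel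
theorem shiftW6_6 : constK [(CfsgLib.Sporadic.CosetCert.ONData.fast3, sh3), (CfsgLib.Sporadic.CosetCert.ONData.fast3, sh3)] 0 36000 6000 = true := by decide +kernel
theorem shiftW6_7 : constK [(CfsgLib.Sporadic.CosetCert.ONData.fast3, sh3), (CfsgLib.Sporadic.CosetCert.ONData.fast3, sh3)] 0 42000 6000 = true := by decide +kernel
theorem shiftW6_8 : constK [(CfsgLib.Sporadic.CosetCert.ONData.fast3, sh3), (CfsgLib.Sporadic.CosetCert.ONData.fast3, sh3)] 0 48000 6000 = true := by decide +kernel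
theorem shiftW6_9 : constK [(CfsgLib.Sporadic.CosetCert.ONData.fast3, sh3), (CfsgLib.Sporadic.CosetCert.ONData.fast3, sh3)] 0 54000 6000 = true := by decide +kernel
theorem shiftW6_10 : constK [(CfsgLib.Sporadic.CosetCert.ONData.fast3, sh3), (CfsgLib.Sporadic.CosetCert.ONData.fast3, sh3)] 0 60000 6000 = true := by decide +kernel
theorem shiftW6_11 : constK [(CfsgLib.Sporadic.CosetCert.ONData.fast3, sh3), (CfsgLib.Sporadic.CosetCert.ONData.fast3, sh3)] 0 66000 6000 = true := by decide +kernel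
theorem shiftW6_12 : constK [(CfsgLib.Sporadic.CosetCert.ONData.fast3, sh3), (CfsgLib.Sporadic.CosetCert.ONData.fast3, sh3)] 0 72000 6000 = true := by decide +kernel
theorem shiftW6_13 : constK [(CfsgLib.Sporadic.CosetCert.ONData.fast3, sh3), (CfsgLib.Sporadic.CosetCert.ONData.fast3, sh3)] 0 78000 6000 = true := by decide +kernel
theorem shiftW6_14 : constK [(CfsgLib.Sporadic.CosetCert.ONData.fast3, sh3), (CfsgLib.Sporadic.CosetCert.ONData.fast3, sh3)] 0 84000 6000 = true := by decide +kernel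
theorem shiftW6_15 : constK [(CfsgLib.Sporadic.CosetCert.ONData.fast3, sh3), (CfsgLib.Sporadic.CosetCert.ONData.fast3, sh3)] 0 90000 6000 = true := by decide +kernel
theorem shiftW6_16 : constK [(CfsgLib.Sporadic.CosetCert.ONData.fast3, sh3), (CfsgLib.Sporadic.CosetCert.ONData.fast3, sh3)] 0 96000 6000 = true := by decide +kernel
theorem shiftW6_17 : constK [(CfsgLib.Sporadic.CosetCert.ONData.fast3, sh3), (CfsgLib.Sporadic.CosetCert.ONData.fast3, sh3)] 0 102000 6000 = true := by decide +kernel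
theorem shiftW6_18 : constK [(CfsgLib.Sporadic.CosetCert.ONData.fast3, sh3), (CfsgLib.Sporadic.CosetCert.ONData.fast3, sh3)] 0 108000 6000 = true := by decide +kernel
theorem shiftW6_19 : constK [(CfsgLib.Sporadic.CosetCert.ONData.fast3, sh3), (CfsgLib.Sporadic.CosetCert.ONData.fast3, sh3)] 0 114000 6000 = true := by decide +kernel
theorem shiftW6_20 : constK [(CfsgLib.Sporadic.CosetCert.ONData.fast3, sh3), (CfsgLib.Sporadic.CosetCert.ONData.fast3, sh3)] 0 120000 2760 = true := by decide +kernel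

theorem shiftW6 : ∀ u < 122760, Nat.mod (runS [(CfsgLib.Sporadic.CosetCert.ONData.fast3, sh3), (CfsgLib.Sporadic.CosetCert.ONData.fast3, sh3)] u) 3 = 0 := fun u hu =>
  (range_split (range_split (range_split (range_split (constK_spec shiftW6_0) (constK_spec shiftW6_1)) (range_split (constK_spec shiftW6_2) (range_split (constK_spec shiftW6_3) (constK_spec shiftW6_4)))) (range_split (range_split (constK_spec shiftW6_5) (constK_spec shiftW6_6)) (range_split (constK_spec shiftW6_7) (range_split (constK_spec shiftW6_8) (constK_spec shiftW6_9))))) (range_split (range_split (range_split (constK_spec shiftW6_10) (constK_spec shiftW6_11)) (range_split (constK_spec shiftW6_12) (range_split (constK_spec shiftW6_13) (constK_spec shiftW6_14)))) (range_split (range_split (constK_spec shiftW6_15) (range_split (constK_spec shiftW6_16) (constK_spec shiftW6_17))) (range_split (constK_spec shiftW6_18) (range_split (constK_spec shiftW6_19) (constK_spec shiftW6_20)))))) u (Nat.zero_le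 _) hu

theorem shiftW9_0 : constK [(CfsgLib.Sporadic.CosetCert.ONData.fast6, sh6), (CfsgLib.Sporadic.CosetCert.ONData.fast3, sh3), (CfsgLib.Sporadic.CosetCert.ONData.fast6, sh6), (CfsgLib.Sporadic.CosetCert.ONData.fast3, sh3)] 0 0 6000 = true := by decide +kernel
theorem shiftW9_1 : constK [(CfsgLib.Sporadic.CosetCert.ONData.fast6, sh6), (CfsgLib.Sporadic.CosetCert.ONData.fast3, sh3), (CfsgLib.Sporadic.CosetCert.ONData.fast6, sh6), (CfsgLib.Sporadic.CosetCert.ONData.fast3, sh3)] 0 6000 6000 = true := by decide +kernel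
theorem shiftW9_2 : constK [(CfsgLib.Sporadic.CosetCert.ONData.fast6, sh6), (CfsgLib.Sporadic.CosetCert.ONData.fast3, sh3), (CfsgLib.Sporadic.CosetCert.ONData.fast6, sh6), (CfsgLib.Sporadic.CosetCert.ONData.fast3, sh3)] 0 12000 6000 = true := by decide +kernel
theorem shiftW9_3 : constK [(CfsgLib.Sporadic.CosetCert.ONData.fast6, sh6), (CfsgLib.Sporadic.CosetCert.ONData.fast3, sh3), (CfsgLib.Sporadic.CosetCert.ONData.fast6, sh6), (CfsgLib.Sporadic.CosetCert.ONData.fast3, sh3)] 0 18000 6000 = true := by decide +kernel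
theorem shiftW9_4 : constK [(CfsgLib.Sporadic.CosetCert.ONData.fast6, sh6), (CfsgLib.Sporadic.CosetCert.ONData.fast3, sh3), (CfsgLib.Sporadic.CosetCert.ONData.fast6, sh6), (CfsgLib.Sporadic.CosetCert.ONData.fast3, sh3)] 0 24000 6000 = true := by decide +kernel
theorem shiftW9_5 : constK [(CfsgLib.Sporadic.CosetCert.ONData.fast6, sh6), (CfsgLib.Sporadic.CosetCert.ONData.fast3, sh3), (CfsgLib.Sporadic.CosetCert.ONData.fast6, sh6), (CfsgLib.Sporadic.CosetCert.ONData.fast3, sh3)] 0 30000 6000 = true := by decide +kernel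
theorem shiftW9_6 : constK [(CfsgLib.Sporadic.CosetCert.ONData.fast6, sh6), (CfsgLib.Sporadic.CosetCert.ONData.fast3, sh3), (CfsgLib.Sporadic.CosetCert.ONData.fast6, sh6), (CfsgLib.Sporadic.CosetCert.ONData.fast3, sh3)] 0 36000 6000 = true := by decide +kernel
theorem shiftW9_7 : constK [(CfsgLib.Sporadic.CosetCert.ONData.fast6, sh6), (CfsgLib.Sporadic.CosetCert.ONData.fast3, sh3), (CfsgLib.Sporadic.CosetCert.ONData.fast6, sh6), (CfsgLib.Sporadic.CosetCert.ONData.fast3, sh3)] 0 42000 6000 = true := by decide +kernel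
theorem shiftW9_8 : constK [(CfsgLib.Sporadic.CosetCert.ONData.fast6, sh6), (CfsgLib.Sporadic.CosetCert.ONData.fast3, sh3), (CfsgLib.Sporadic.CosetCert.ONData.fast6, sh6), (CfsgLib.Sporadic.CosetCert.ONData.fast3, sh3)] 0 48000 6000 = true := by decide +kernel
theorem shiftW9_9 : constK [(CfsgLib.Sporadic.CosetCert.ONData.fast6, sh6), (CfsgLib.Sporadic.CosetCert.ONData.fast3, sh3), (CfsgLib.Sporadic.CosetCert.ONData.fast6, sh6), (CfsgLib.Sporadic.CosetCert.ONData.fast3, sh3)] 0 54000 6000 = true := by decide +kernel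
theorem shiftW9_10 : constK [(CfsgLib.Sporadic.CosetCert.ONData.fast6, sh6), (CfsgLib.Sporadic.CosetCert.ONData.fast3, sh3), (CfsgLib.Sporadic.CosetCert.ONData.fast6, sh6), (CfsgLib.Sporadic.CosetCert.ONData.fast3, sh3)] 0 60000 6000 = true := by decide +kernel
theorem shiftW9_11 : constK [(CfsgLib.Sporadic.CosetCert.ONData.fast6, sh6), (CfsgLib.Sporadic.CosetCert.ONData.fast3, sh3), (CfsgLib.Sporadic.CosetCert.ONData.fast6, sh6), (CfsgLib.Sporadic.CosetCert.ONData.fast3, sh3)] 0 66000 6000 = true := by decide +kernel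
theorem shiftW9_12 : constK [(CfsgLib.Sporadic.CosetCert.ONData.fast6, sh6), (CfsgLib.Sporadic.CosetCert.ONData.fast3, sh3), (CfsgLib.Sporadic.CosetCert.ONData.fast6, sh6), (CfsgLib.Sporadic.CosetCert.ONData.fast3, sh3)] 0 72000 6000 = true := by decide +kernel
theorem shiftW9_13 : constK [(CfsgLib.Sporadic.CosetCert.ONData.fast6, sh6), (CfsgLib.Sporadic.CosetCert.ONData.fast3, sh3), (CfsgLib.Sporadic.CosetCert.ONData.fast6, sh6), (CfsgLib.Sporadic.CosetCert.ONData.fast3, sh3)] 0 78000 6000 = true := by decide +kernel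
theorem shiftW9_14 : constK [(CfsgLib.Sporadic.CosetCert.ONData.fast6, sh6), (CfsgLib.Sporadic.CosetCert.ONData.fast3, sh3), (CfsgLib.Sporadic.CosetCert.ONData.fast6, sh6), (CfsgLib.Sporadic.CosetCert.ONData.fast3, sh3)] 0 84000 6000 = true := by decide +kernel
theorem shiftW9_15 : constK [(CfsgLib.Sporadic.CosetCert.ONData.fast6, sh6), (CfsgLib.Sporadic.CosetCert.ONData.fast3, sh3), (CfsgLib.Sporadic.CosetCert.ONData.fast6, sh6), (CfsgLib.Sporadic.CosetCert.ONData.fast3, sh3)] 0 90000 6000 = true := by decide +kernel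
theorem shiftW9_16 : constK [(CfsgLib.Sporadic.CosetCert.ONData.fast6, sh6), (CfsgLib.Sporadic.CosetCert.ONData.fast3, sh3), (CfsgLib.Sporadic.CosetCert.ONData.fast6, sh6), (CfsgLib.Sporadic.CosetCert.ONData.fast3, sh3)] 0 96000 6000 = true := by decide +kernel
theorem shiftW9_17 : constK [(CfsgLib.Sporadic.CosetCert.ONData.fast6, sh6), (CfsgLib.Sporadic.CosetCert.ONData.fast3, sh3), (CfsgLib.Sporadic.CosetCert.ONData.fast6, sh6), (CfsgLib.Sporadic.CosetCert.ONData.fast3, sh3)] 0 102000 6000 = true := by decide +kernel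
theorem shiftW9_18 : constK [(CfsgLib.Sporadic.CosetCert.ONData.fast6, sh6), (CfsgLib.Sporadic.CosetCert.ONData.fast3, sh3), (CfsgLib.Sporadic.CosetCert.ONData.fast6, sh6), (CfsgLib.Sporadic.CosetCert.ONData.fast3, sh3)] 0 108000 6000 = true := by decide +kernel
theorem shiftW9_19 : constK [(CfsgLib.Sporadic.CosetCert.ONData.fast6, sh6), (CfsgLib.Sporadic.CosetCert.ONData.fast3, sh3), (CfsgLib.Sporadic.CosetCert.ONData.fast6, sh6), (CfsgLib.Sporadic.CosetCert.ONData.fast3, sh3)] 0 114000 6000 = true := by decide +kernel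
theorem shiftW9_20 : constK [(CfsgLib.Sporadic.CosetCert.ONData.fast6, sh6), (CfsgLib.Sporadic.CosetCert.ONData.fast3, sh3), (CfsgLib.Sporadic.CosetCert.ONData.fast6, sh6), (CfsgLib.Sporadic.CosetCert.ONData.fast3, sh3)] 0 120000 2760 = true := by decide +kernel

theorem shiftW9 : ∀ u < 122760, Nat.mod (runS [(CfsgLib.Sporadic.CosetCert.ONData.fast6, sh6), (CfsgLib.Sporadic.CosetCert.ONData.fast3, sh3), (CfsgLib.Sporadic.CosetCert.ONData.fast6, sh6), (CfsgLib.Sporadic.CosetCert.ONData.fast3, sh3)] u) 3 = 0 := fun u hu =>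
  (range_split (range_split (range_split (range_split (constK_spec shiftW9_0) (constK_spec shiftW9_1)) (range_split (constK_spec shiftW9_2) (range_split (constK_spec shiftW9_3) (constK_spec shiftW9_4)))) (range_split (range_split (constK_spec shiftW9_5) (constK_spec shiftW9_6)) (range_split (constK_spec shiftW9_7) (range_split (constK_spec shiftW9_8) (constK_spec shiftW9_9))))) (range_split (range_split (range_split (constK_spec shiftW9_10) (constK_spec shiftW9_11)) (range_split (constK_spec shiftW9_12) (range_split (constK_spec shiftW9_13) (constK_spec shiftW9_14)))) (range_split (range_split (constK_spec shiftW9_15) (range_split (constK_spec shiftW9_16) (constK_spec shiftW9_17))) (range_split (constK_spec shiftW9_18) (range_split (constK_spec shiftW9_19) (constK_spec shiftW9_20)))))) u (Nat.zero_le _) hu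

theorem shiftW26_0 : constK [(CfsgLib.Sporadic.CosetCert.ONData.fast4, sh4), (CfsgLib.Sporadic.CosetCert.ONData.fast0, sh0), (CfsgLib.Sporadic.CosetCert.ONData.fast4, sh4), (CfsgLib.Sporadic.CosetCert.ONData.fast3, sh3), (CfsgLib.Sporadic.CosetCert.ONData.fast0, sh0), (CfsgLib.Sporadic.CosetCert.ONData.fast3, sh3), (CfsgLib.Sporadic.CosetCert.ONData.fast4, sh4), (CfsgLib.Sporadic.CosetCert.ONData.fast0, sh0), (CfsgLib.Sporadic.CosetCert.ONData.fast4, sh4), (CfsgLib.Sporadic.CosetCert.ONData.fast3, sh3), (CfsgLib.Sporadic.CosetCert.ONData.fast0, sh0)] 1 0 6000 = true := by decide +kernel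
theorem shiftW26_1 : constK [(CfsgLib.Sporadic.CosetCert.ONData.fast4, sh4), (CfsgLib.Sporadic.CosetCert.ONData.fast0, sh0), (CfsgLib.Sporadic.CosetCert.ONData.fast4, sh4), (CfsgLib.Sporadic.CosetCert.ONData.fast3, sh3), (CfsgLib.Sporadic.CosetCert.ONData.fast0, sh0), (CfsgLib.Sporadic.CosetCert.ONData.fast3, sh3), (CfsgLib.Sporadic.CosetCert.ONData.fast4, sh4), (CfsgLib.Sporadic.CosetCert.ONData.fast0, sh0), (CfsgLib.Sporadic.CosetCert.ONData.fast4, sh4), (CfsgLib.Sporadic.CosetCert.ONData.fast3, sh3), (CfsgLib.Sporadic.CosetCert.ONData.fast0, sh0)] 1 6000 6000 = true := by decide +kernel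
theorem shiftW26_2 : constK [(CfsgLib.Sporadic.CosetCert.ONData.fast4, sh4), (CfsgLib.Sporadic.CosetCert.ONData.fast0, sh0), (CfsgLib.Sporadic.CosetCert.ONData.fast4, sh4), (CfsgLib.Sporadic.CosetCert.ONData.fast3, sh3), (CfsgLib.Sporadic.CosetCert.ONData.fast0, sh0), (CfsgLib.Sporadic.CosetCert.ONData.fast3, sh3), (CfsgLib.Sporadic.CosetCert.ONData.fast4, sh4), (CfsgLib.Sporadic.CosetCert.ONData.fast0, sh0), (CfsgLib.Sporadic.CosetCert.ONData.fast4, sh4), (CfsgLib.Sporadic.CosetCert.ONData.fast3, sh3), (CfsgLib.Sporadic.CosetCert.ONData.fast0, sh0)] 1 12000 6000 = true := by decide +kernel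
theorem shiftW26_3 : constK [(CfsgLib.Sporadic.CosetCert.ONData.fast4, sh4), (CfsgLib.Sporadic.CosetCert.ONData.fast0, sh0), (CfsgLib.Sporadic.CosetCert.ONData.fast4, sh4), (CfsgLib.Sporadic.CosetCert.ONData.fast3, sh3), (CfsgLib.Sporadic.CosetCert.ONData.fast0, sh0), (CfsgLib.Sporadic.CosetCert.ONData.fast3, sh3), (CfsgLib.Sporadic.CosetCert.ONData.fast4, sh4), (CfsgLib.Sporadic.CosetCert.ONData.fast0, sh0), (CfsgLib.Sporadic.CosetCert.ONData.fast4, sh4), (CfsgLib.Sporadic.CosetCert.ONData.fast3, sh3), (CfsgLib.Sporadic.CosetCert.ONData.fast0, sh0)] 1 18000 6000 = true := by decide +kernel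
theorem shiftW26_4 : constK [(CfsgLib.Sporadic.CosetCert.ONData.fast4, sh4), (CfsgLib.Sporadic.CosetCert.ONData.fast0, sh0), (CfsgLib.Sporadic.CosetCert.ONData.fast4, sh4), (CfsgLib.Sporadic.CosetCert.ONData.fast3, sh3), (CfsgLib.Sporadic.CosetCert.ONData.fast0, sh0), (CfsgLib.Sporadic.CosetCert.ONData.fast3, sh3), (CfsgLib.Sporadic.CosetCert.ONData.fast4, sh4), (CfsgLib.Sporadic.CosetCert.ONData.fast0, sh0), (CfsgLib.Sporadic.CosetCert.ONData.fast4, sh4), (CfsgLib.Sporadic.CosetCert.ONData.fast3, sh3), (CfsgLib.Sporadic.CosetCert.ONData.fast0, sh0)] 1 24000 6000 = true := by decide +kernel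
theorem shiftW26_5 : constK [(CfsgLib.Sporadic.CosetCert.ONData.fast4, sh4), (CfsgLib.Sporadic.CosetCert.ONData.fast0, sh0), (CfsgLib.Sporadic.CosetCert.ONData.fast4, sh4), (CfsgLib.Sporadic.CosetCert.ONData.fast3, sh3), (CfsgLib.Sporadic.CosetCert.ONData.fast0, sh0), (CfsgLib.Sporadic.CosetCert.ONData.fast3, sh3), (CfsgLib.Sporadic.CosetCert.ONData.fast4, sh4), (CfsgLib.Sporadic.CosetCert.ONData.fast0, sh0), (CfsgLib.Sporadic.CosetCert.ONData.fast4, sh4), (CfsgLib.Sporadic.CosetCert.ONData.fast3, sh3), (CfsgLib.Sporadic.CosetCert.ONData.fast0, sh0)] 1 30000 6000 = true := by decide +kernel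
theorem shiftW26_6 : constK [(CfsgLib.Sporadic.CosetCert.ONData.fast4, sh4), (CfsgLib.Sporadic.CosetCert.ONData.fast0, sh0), (CfsgLib.Sporadic.CosetCert.ONData.fast4, sh4), (CfsgLib.Sporadic.CosetCert.ONData.fast3, sh3), (CfsgLib.Sporadic.CosetCert.ONData.fast0, sh0), (CfsgLib.Sporadic.CosetCert.ONData.fast3, sh3), (CfsgLib.Sporadic.CosetCert.ONData.fast4, sh4), (CfsgLib.Sporadic.CosetCert.ONData.fast0, sh0), (CfsgLib.Sporadic.CosetCert.ONData.fast4, sh4), (CfsgLib.Sporadic.CosetCert.ONData.fast3, sh3), (CfsgLib.Sporadic.CosetCert.ONData.fast0, sh0)] 1 36000 6000 = true := by decide +kernel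
theorem shiftW26_7 : constK [(CfsgLib.Sporadic.CosetCert.ONData.fast4, sh4), (CfsgLib.Sporadic.CosetCert.ONData.fast0, sh0), (CfsgLib.Sporadic.CosetCert.ONData.fast4, sh4), (CfsgLib.Sporadic.CosetCert.ONData.fast3, sh3), (CfsgLib.Sporadic.CosetCert.ONData.fast0, sh0), (CfsgLib.Sporadic.CosetCert.ONData.fast3, sh3), (CfsgLib.Sporadic.CosetCert.ONData.fast4, sh4), (CfsgLib.Sporadic.CosetCert.ONData.fast0, sh0), (CfsgLib.Sporadic.CosetCert.ONData.fast4, sh4), (CfsgLib.Sporadic.CosetCert.ONData.fast3, sh3), (CfsgLib.Sporadic.CosetCert.ONData.fast0, sh0)] 1 42000 6000 = true := by decide +kernel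
theorem shiftW26_8 : constK [(CfsgLib.Sporadic.CosetCert.ONData.fast4, sh4), (CfsgLib.Sporadic.CosetCert.ONData.fast0, sh0), (CfsgLib.Sporadic.CosetCert.ONData.fast4, sh4), (CfsgLib.Sporadic.CosetCert.ONData.fast3, sh3), (CfsgLib.Sporadic.CosetCert.ONData.fast0, sh0), (CfsgLib.Sporadic.CosetCert.ONData.fast3, sh3), (CfsgLib.Sporadic.CosetCert.ONData.fast4, sh4), (CfsgLib.Sporadic.CosetCert.ONData.fast0, sh0), (CfsgLib.Sporadic.CosetCert.ONData.fast4, sh4), (CfsgLib.Sporadic.CosetCert.ONData.fast3, sh3), (CfsgLib.Sporadic.CosetCert.ONData.fast0, sh0)] 1 48000 6000 = true := by decide +kernel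
theorem shiftW26_9 : constK [(CfsgLib.Sporadic.CosetCert.ONData.fast4, sh4), (CfsgLib.Sporadic.CosetCert.ONData.fast0, sh0), (CfsgLib.Sporadic.CosetCert.ONData.fast4, sh4), (CfsgLib.Sporadic.CosetCert.ONData.fast3, sh3), (CfsgLib.Sporadic.CosetCert.ONData.fast0, sh0), (CfsgLib.Sporadic.CosetCert.ONData.fast3, sh3), (CfsgLib.Sporadic.CosetCert.ONData.fast4, sh4), (CfsgLib.Sporadic.CosetCert.ONData.fast0, sh0), (CfsgLib.Sporadic.CosetCert.ONData.fast4, sh4), (CfsgLib.Sporadic.CosetCert.ONData.fast3, sh3), (CfsgLib.Sporadic.CosetCert.ONData.fast0, sh0)] 1 54000 6000 = true := by decide +kernel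
theorem shiftW26_10 : constK [(CfsgLib.Sporadic.CosetCert.ONData.fast4, sh4), (CfsgLib.Sporadic.CosetCert.ONData.fast0, sh0), (CfsgLib.Sporadic.CosetCert.ONData.fast4, sh4), (CfsgLib.Sporadic.CosetCert.ONData.fast3, sh3), (CfsgLib.Sporadic.CosetCert.ONData.fast0, sh0), (CfsgLib.Sporadic.CosetCert.ONData.fast3, sh3), (CfsgLib.Sporadic.CosetCert.ONData.fast4, sh4), (CfsgLib.Sporadic.CosetCert.ONData.fast0, sh0), (CfsgLib.Sporadic.CosetCert.ONData.fast4, sh4), (CfsgLib.Sporadic.CosetCert.ONData.fast3, sh3), (CfsgLib.Sporadic.CosetCert.ONData.fast0, sh0)] 1 60000 6000 = true := by decide +kernel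
theorem shiftW26_11 : constK [(CfsgLib.Sporadic.CosetCert.ONData.fast4, sh4), (CfsgLib.Sporadic.CosetCert.ONData.fast0, sh0), (CfsgLib.Sporadic.CosetCert.ONData.fast4, sh4), (CfsgLib.Sporadic.CosetCert.ONData.fast3, sh3), (CfsgLib.Sporadic.CosetCert.ONData.fast0, sh0), (CfsgLib.Sporadic.CosetCert.ONData.fast3, sh3), (CfsgLib.Sporadic.CosetCert.ONData.fast4, sh4), (CfsgLib.Sporadic.CosetCert.ONData.fast0, sh0), (CfsgLib.Sporadic.CosetCert.ONData.fast4, sh4), (CfsgLib.Sporadic.CosetCert.ONData.fast3, sh3), (CfsgLib.Sporadic.CosetCert.ONData.fast0, sh0)] 1 66000 6000 = true := by decide +kernel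
theorem shiftW26_12 : constK [(CfsgLib.Sporadic.CosetCert.ONData.fast4, sh4), (CfsgLib.Sporadic.CosetCert.ONData.fast0, sh0), (CfsgLib.Sporadic.CosetCert.ONData.fast4, sh4), (CfsgLib.Sporadic.CosetCert.ONData.fast3, sh3), (CfsgLib.Sporadic.CosetCert.ONData.fast0, sh0), (CfsgLib.Sporadic.CosetCert.ONData.fast3, sh3), (CfsgLib.Sporadic.CosetCert.ONData.fast4, sh4), (CfsgLib.Sporadic.CosetCert.ONData.fast0, sh0), (CfsgLib.Sporadic.CosetCert.ONData.fast4, sh4), (CfsgLib.Sporadic.CosetCert.ONData.fast3, sh3), (CfsgLib.Sporadic.CosetCert.ONData.fast0, sh0)] 1 72000 6000 = true := by decide +kernel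
theorem shiftW26_13 : constK [(CfsgLib.Sporadic.CosetCert.ONData.fast4, sh4), (CfsgLib.Sporadic.CosetCert.ONData.fast0, sh0), (CfsgLib.Sporadic.CosetCert.ONData.fast4, sh4), (CfsgLib.Sporadic.CosetCert.ONData.fast3, sh3), (CfsgLib.Sporadic.CosetCert.ONData.fast0, sh0), (CfsgLib.Sporadic.CosetCert.ONData.fast3, sh3), (CfsgLib.Sporadic.CosetCert.ONData.fast4, sh4), (CfsgLib.Sporadic.CosetCert.ONData.fast0, sh0), (CfsgLib.Sporadic.CosetCert.ONData.fast4, sh4), (CfsgLib.Sporadic.CosetCert.ONData.fast3, sh3), (CfsgLib.Sporadic.CosetCert.ONData.fast0, sh0)] 1 78000 6000 = true := by decide +kernel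
theorem shiftW26_14 : constK [(CfsgLib.Sporadic.CosetCert.ONData.fast4, sh4), (CfsgLib.Sporadic.CosetCert.ONData.fast0, sh0), (CfsgLib.Sporadic.CosetCert.ONData.fast4, sh4), (CfsgLib.Sporadic.CosetCert.ONData.fast3, sh3), (CfsgLib.Sporadic.CosetCert.ONData.fast0, sh0), (CfsgLib.Sporadic.CosetCert.ONData.fast3, sh3), (CfsgLib.Sporadic.CosetCert.ONData.fast4, sh4), (CfsgLib.Sporadic.CosetCert.ONData.fast0, sh0), (CfsgLib.Sporadic.CosetCert.ONData.fast4, sh4), (CfsgLib.Sporadic.CosetCert.ONData.fast3, sh3), (CfsgLib.Sporadic.CosetCert.ONData.fast0, sh0)] 1 84000 6000 = true := by decide +kernel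
theorem shiftW26_15 : constK [(CfsgLib.Sporadic.CosetCert.ONData.fast4, sh4), (CfsgLib.Sporadic.CosetCert.ONData.fast0, sh0), (CfsgLib.Sporadic.CosetCert.ONData.fast4, sh4), (CfsgLib.Sporadic.CosetCert.ONData.fast3, sh3), (CfsgLib.Sporadic.CosetCert.ONData.fast0, sh0), (CfsgLib.Sporadic.CosetCert.ONData.fast3, sh3), (CfsgLib.Sporadic.CosetCert.ONData.fast4, sh4), (CfsgLib.Sporadic.CosetCert.ONData.fast0, sh0), (CfsgLib.Sporadic.CosetCert.ONData.fast4, sh4), (CfsgLib.Sporadic.CosetCert.ONData.fast3, sh3), (CfsgLib.Sporadic.CosetCert.ONData.fast0, sh0)] 1 90000 6000 = true := by decide +kernel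
theorem shiftW26_16 : constK [(CfsgLib.Sporadic.CosetCert.ONData.fast4, sh4), (CfsgLib.Sporadic.CosetCert.ONData.fast0, sh0), (CfsgLib.Sporadic.CosetCert.ONData.fast4, sh4), (CfsgLib.Sporadic.CosetCert.ONData.fast3, sh3), (CfsgLib.Sporadic.CosetCert.ONData.fast0, sh0), (CfsgLib.Sporadic.CosetCert.ONData.fast3, sh3), (CfsgLib.Sporadic.CosetCert.ONData.fast4, sh4), (CfsgLib.Sporadic.CosetCert.ONData.fast0, sh0), (CfsgLib.Sporadic.CosetCert.ONData.fast4, sh4), (CfsgLib.Sporadic.CosetCert.ONData.fast3, sh3), (CfsgLib.Sporadic.CosetCert.ONData.fast0, sh0)] 1 96000 6000 = true := by decide +kernel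
theorem shiftW26_17 : constK [(CfsgLib.Sporadic.CosetCert.ONData.fast4, sh4), (CfsgLib.Sporadic.CosetCert.ONData.fast0, sh0), (CfsgLib.Sporadic.CosetCert.ONData.fast4, sh4), (CfsgLib.Sporadic.CosetCert.ONData.fast3, sh3), (CfsgLib.Sporadic.CosetCert.ONData.fast0, sh0), (CfsgLib.Sporadic.CosetCert.ONData.fast3, sh3), (CfsgLib.Sporadic.CosetCert.ONData.fast4, sh4), (CfsgLib.Sporadic.CosetCert.ONData.fast0, sh0), (CfsgLib.Sporadic.CosetCert.ONData.fast4, sh4), (CfsgLib.Sporadic.CosetCert.ONData.fast3, sh3), (CfsgLib.Sporadic.CosetCert.ONData.fast0, sh0)] 1 102000 6000 = true := by decide +kernel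
theorem shiftW26_18 : constK [(CfsgLib.Sporadic.CosetCert.ONData.fast4, sh4), (CfsgLib.Sporadic.CosetCert.ONData.fast0, sh0), (CfsgLib.Sporadic.CosetCert.ONData.fast4, sh4), (CfsgLib.Sporadic.CosetCert.ONData.fast3, sh3), (CfsgLib.Sporadic.CosetCert.ONData.fast0, sh0), (CfsgLib.Sporadic.CosetCert.ONData.fast3, sh3), (CfsgLib.Sporadic.CosetCert.ONData.fast4, sh4), (CfsgLib.Sporadic.CosetCert.ONData.fast0, sh0), (CfsgLib.Sporadic.CosetCert.ONData.fast4, sh4), (CfsgLib.Sporadic.CosetCert.ONData.fast3, sh3), (CfsgLib.Sporadic.CosetCert.ONData.fast0, sh0)] 1 108000 6000 = true := by decide +kernel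
theorem shiftW26_19 : constK [(CfsgLib.Sporadic.CosetCert.ONData.fast4, sh4), (CfsgLib.Sporadic.CosetCert.ONData.fast0, sh0), (CfsgLib.Sporadic.CosetCert.ONData.fast4, sh4), (CfsgLib.Sporadic.CosetCert.ONData.fast3, sh3), (CfsgLib.Sporadic.CosetCert.ONData.fast0, sh0), (CfsgLib.Sporadic.CosetCert.ONData.fast3, sh3), (CfsgLib.Sporadic.CosetCert.ONData.fast4, sh4), (CfsgLib.Sporadic.CosetCert.ONData.fast0, sh0), (CfsgLib.Sporadic.CosetCert.ONData.fast4, sh4), (CfsgLib.Sporadic.CosetCert.ONData.fast3, sh3), (CfsgLib.Sporadic.CosetCert.ONData.fast0, sh0)] 1 114000 6000 = true := by decide +kernel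
theorem shiftW26_20 : constK [(CfsgLib.Sporadic.CosetCert.ONData.fast4, sh4), (CfsgLib.Sporadic.CosetCert.ONData.fast0, sh0), (CfsgLib.Sporadic.CosetCert.ONData.fast4, sh4), (CfsgLib.Sporadic.CosetCert.ONData.fast3, sh3), (CfsgLib.Sporadic.CosetCert.ONData.fast0, sh0), (CfsgLib.Sporadic.CosetCert.ONData.fast3, sh3), (CfsgLib.Sporadic.CosetCert.ONData.fast4, sh4), (CfsgLib.Sporadic.CosetCert.ONData.fast0, sh0), (CfsgLib.Sporadic.CosetCert.ONData.fast4, sh4), (CfsgLib.Sporadic.CosetCert.ONData.fast3, sh3), (CfsgLib.Sporadic.CosetCert.ONData.fast0, sh0)] 1 120000 2760 = true := by decide +kernel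

theorem shiftW26 : ∀ u < 122760, Nat.mod (runS [(CfsgLib.Sporadic.CosetCert.ONData.fast4, sh4), (CfsgLib.Sporadic.CosetCert.ONData.fast0, sh0), (CfsgLib.Sporadic.CosetCert.ONData.fast4, sh4), (CfsgLib.Sporadic.CosetCert.ONData.fast3, sh3), (CfsgLib.Sporadic.CosetCert.ONData.fast0, sh0), (CfsgLib.Sporadic.CosetCert.ONData.fast3, sh3), (CfsgLib.Sporadic.CosetCert.ONData.fast4, sh4), (CfsgLib.Sporadic.CosetCert.ONData.fast0, sh0), (CfsgLib.Sporadic.CosetCert.ONData.fast4, sh4), (CfsgLib.Sporadic.CosetCert.ONData.fast3, sh3), (CfsgLib.Sporadic.CosetCert.ONData.fast0, sh0)] u) 3 = 1 := fun u hu =>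
  (range_split (range_split (range_split (range_split (constK_spec shiftW26_0) (constK_spec shiftW26_1)) (range_split (constK_spec shiftW26_2) (range_split (constK_spec shiftW26_3) (constK_spec shiftW26_4)))) (range_split (range_split (constK_spec shiftW26_5) (constK_spec shiftW26_6)) (range_split (constK_spec shiftW26_7) (range_split (constK_spec shiftW26_8) (constK_spec shiftW26_9))))) (range_split (range_split (range_split (constK_spec shiftW26_10) (constK_spec shiftW26_11)) (range_split (constK_spec shiftW26_12) (range_split (constK_spec shiftW26_13) (constK_spec shiftW26_14)))) (range_split (range_split (constK_spec shiftW26_15) (range_split (constK_spec shiftW26_16) (constK_spec shiftW26_17))) (range_split (constK_spec shiftW26_18) (range_split (constK_spec shiftW26_19) (constK_spec shiftW26_20)))))) u (Nat.zero_le _) hu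

end CfsgLib.Schur.Sporadic.ON
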