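import Cfsg.Agent.Lib.Schur.ON.Shift

/-!
Kernel checks of the triple cover of the O'Nan group: the lifted relators shift all sheets alike.
-/

set_option autoImplicit false
set_option maxRecDepth 100000
set_option maxHeartbeats 0
set_option Elab.async false

namespace CfsgLib.Schur.Sporadic.ON

open CfsgLib.Sporadic.CosetCert (range_split)

theorem shiftW4_0 : constK [(CfsgLib.Sporadic.CosetCert.ONData.fast6, sh6), (CfsgLib.Sporadic.CosetCert.ONData.fast2, sh2), (CfsgLib.Sporadic.CosetCert.ONData.fast6, sh6), (CfsgLib.Sporadic.CosetCert.ONData.fast2, sh2)] 0 0 6000 = true := by decide +kernel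
theorem shiftW4_1 : constK [(CfsgLib.Sporadic.CosetCert.ONData.fast6, sh6), (CfsgLib.Sporadic.CosetCert.ONData.fast2, sh2), (CfsgLib.Sporadic.CosetCert.ONData.fast6, sh6), (CfsgLib.Sporadic.CosetCert.ONData.fast2, sh2)] 0 6000 6000 = true := by decide +kernel
theorem shiftW4_2 : constK [(CfsgLib.Sporadic.CosetCert.ONData.fast6, sh6), (CfsgLib.Sporadic.CosetCert.ONData.fast2, sh2), (CfsgLib.Sporadic.CosetCert.ONData.fast6, sh6), (CfsgLib.Sporadic.CosetCert.ONData.fast2, sh2)] 0 12000 6000 = true := by decide +kernel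
theorem shiftW4_3 : constK [(CfsgLib.Sporadic.CosetCert.ONData.fast6, sh6), (CfsgLib.Sporadic.CosetCert.ONData.fast2, sh2), (CfsgLib.Sporadic.CosetCert.ONData.fast6, sh6), (CfsgLib.Sporadic.CosetCert.ONData.fast2, sh2)] 0 18000 6000 = true := by decide +kernel
theorem shiftW4_4 : constK [(CfsgLib.Sporadic.CosetCert.ONData.fast6, sh6), (CfsgLib.Sporadic.CosetCert.ONData.fast2, sh2), (CfsgLib.Sporadic.CosetCert.ONData.fast6, sh6), (CfsgLib.Sporadic.CosetCert.ONData.fast2, sh2)] 0 24000 6000 = true := by decide +kernel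
theorem shiftW4_5 : constK [(CfsgLib.Sporadic.CosetCert.ONData.fast6, sh6), (CfsgLib.Sporadic.CosetCert.ONData.fast2, sh2), (CfsgLib.Sporadic.CosetCert.ONData.fast6, sh6), (CfsgLib.Sporadic.CosetCert.ONData.fast2, sh2)] 0 30000 6000 = true := by decide +kernel
theorem shiftW4_6 : constK [(CfsgLib.Sporadic.CosetCert.ONData.fast6, sh6), (CfsgLib.Sporadic.CosetCert.ONData.fast2, sh2), (CfsgLib.Sporadic.CosetCert.ONData.fast6, sh6), (CfsgLib.Sporadic.CosetCert.ONData.fast2, sh2)] 0 36000 6000 = true := by decide +kernel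
theorem shiftW4_7 : constK [(CfsgLib.Sporadic.CosetCert.ONData.fast6, sh6), (CfsgLib.Sporadic.CosetCert.ONData.fast2, sh2), (CfsgLib.Sporadic.CosetCert.ONData.fast6, sh6), (CfsgLib.Sporadic.CosetCert.ONData.fast2, sh2)] 0 42000 6000 = true := by decide +kernel
theorem shiftW4_8 : constK [(CfsgLib.Sporadic.CosetCert.ONData.fast6, sh6), (CfsgLib.Sporadic.CosetCert.ONData.fast2, sh2), (CfsgLib.Sporadic.CosetCert.ONData.fast6, sh6), (CfsgLib.Sporadic.CosetCert.ONData.fast2, sh2)] 0 48000 6000 = true := by decide +kernel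
theorem shiftW4_9 : constK [(CfsgLib.Sporadic.CosetCert.ONData.fast6, sh6), (CfsgLib.Sporadic.CosetCert.ONData.fast2, sh2), (CfsgLib.Sporadic.CosetCert.ONData.fast6, sh6), (CfsgLib.Sporadic.CosetCert.ONData.fast2, sh2)] 0 54000 6000 = true := by decide +kernel
theorem shiftW4_10 : constK [(CfsgLib.Sporadic.CosetCert.ONData.fast6, sh6), (CfsgLib.Sporadic.CosetCert.ONData.fast2, sh2), (CfsgLib.Sporadic.CosetCert.ONData.fast6, sh6), (CfsgLib.Sporadic.CosetCert.ONData.fast2, sh2)] 0 60000 6000 = true := by decide +kernel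
theorem shiftW4_11 : constK [(CfsgLib.Sporadic.CosetCert.ONData.fast6, sh6), (CfsgLib.Sporadic.CosetCert.ONData.fast2, sh2), (CfsgLib.Sporadic.CosetCert.ONData.fast6, sh6), (CfsgLib.Sporadic.CosetCert.ONData.fast2, sh2)] 0 66000 6000 = true := by decide +kernel
theorem shiftW4_12 : constK [(CfsgLib.Sporadic.CosetCert.ONData.fast6, sh6), (CfsgLib.Sporadic.CosetCert.ONData.fast2, sh2), (CfsgLib.Sporadic.CosetCert.ONData.fast6, sh6), (CfsgLib.Sporadic.CosetCert.ONData.fast2, sh2)] 0 72000 6000 = true := by decide +kernel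
theorem shiftW4_13 : constK [(CfsgLib.Sporadic.CosetCert.ONData.fast6, sh6), (CfsgLib.Sporadic.CosetCert.ONData.fast2, sh2), (CfsgLib.Sporadic.CosetCert.ONData.fast6, sh6), (CfsgLib.Sporadic.CosetCert.ONData.fast2, sh2)] 0 78000 6000 = true := by decide +kernel
theorem shiftW4_14 : constK [(CfsgLib.Sporadic.CosetCert.ONData.fast6, sh6), (CfsgLib.Sporadic.CosetCert.ONData.fast2, sh2), (CfsgLib.Sporadic.CosetCert.ONData.fast6, sh6), (CfsgLib.Sporadic.CosetCert.ONData.fast2, sh2)] 0 84000 6000 = true := by decide +kernel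
theorem shiftW4_15 : constK [(CfsgLib.Sporadic.CosetCert.ONData.fast6, sh6), (CfsgLib.Sporadic.CosetCert.ONData.fast2, sh2), (CfsgLib.Sporadic.CosetCert.ONData.fast6, sh6), (CfsgLib.Sporadic.CosetCert.ONData.fast2, sh2)] 0 90000 6000 = true := by decide +kernel
theorem shiftW4_16 : constK [(CfsgLib.Sporadic.CosetCert.ONData.fast6, sh6), (CfsgLib.Sporadic.CosetCert.ONData.fast2, sh2), (CfsgLib.Sporadic.CosetCert.ONData.fast6, sh6), (CfsgLib.Sporadic.CosetCert.ONData.fast2, sh2)] 0 96000 6000 = true := by decide +kernel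
theorem shiftW4_17 : constK [(CfsgLib.Sporadic.CosetCert.ONData.fast6, sh6), (CfsgLib.Sporadic.CosetCert.ONData.fast2, sh2), (CfsgLib.Sporadic.CosetCert.ONData.fast6, sh6), (CfsgLib.Sporadic.CosetCert.ONData.fast2, sh2)] 0 102000 6000 = true := by decide +kernel
theorem shiftW4_18 : constK [(CfsgLib.Sporadic.CosetCert.ONData.fast6, sh6), (CfsgLib.Sporadic.CosetCert.ONData.fast2, sh2), (CfsgLib.Sporadic.CosetCert.ONData.fast6, sh6), (CfsgLib.Sporadic.CosetCert.ONData.fast2, sh2)] 0 108000 6000 = true := by decide +kernel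
theorem shiftW4_19 : constK [(CfsgLib.Sporadic.CosetCert.ONData.fast6, sh6), (CfsgLib.Sporadic.CosetCert.ONData.fast2, sh2), (CfsgLib.Sporadic.CosetCert.ONData.fast6, sh6), (CfsgLib.Sporadic.CosetCert.ONData.fast2, sh2)] 0 114000 6000 = true := by decide +kernel
theorem shiftW4_20 : constK [(CfsgLib.Sporadic.CosetCert.ONData.fast6, sh6), (CfsgLib.Sporadic.CosetCert.ONData.fast2, sh2), (CfsgLib.Sporadic.CosetCert.ONData.fast6, sh6), (CfsgLib.Sporadic.CosetCert.ONData.fast2, sh2)] 0 120000 2760 = true := by decide +kernel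

theorem shiftW4 : ∀ u < 122760, Nat.mod (runS [(CfsgLib.Sporadic.CosetCert.ONData.fast6, sh6), (CfsgLib.Sporadic.CosetCert.ONData.fast2, sh2), (CfsgLib.Sporadic.CosetCert.ONData.fast6, sh6), (CfsgLib.Sporadic.CosetCert.ONData.fast2, sh2)] u) 3 = 0 := fun u hu =>
  (range_split (range_split (range_split (range_split (constK_spec shiftW4_0) (constK_spec shiftW4_1)) (range_split (constK_spec shiftW4_2) (range_split (constK_spec shiftW4_3) (constK_spec shiftW4_4)))) (range_split (range_split (constK_spec shiftW4_5) (constK_spec shiftW4_6)) (range_split (constK_spec shiftW4_7) (range_split (constK_spec shiftW4_8) (constK_spec shiftW4_9))))) (range_split (range_split (range_split (constK_spec shiftW4_10) (constK_spec shiftW4_11)) (range_split (constK_spec shiftW4_12) (range_split (constK_spec shiftW4_13) (constK_spec shiftW4_14)))) (range_split (range_split (constK_spec shiftW4_15) (range_split (constK_spec shiftW4_16) (constK_spec shiftW4_17))) (range_split (constK_spec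 shiftW4_18) (range_split (constK_spec shiftW4_19) (constK_spec shiftW4_20)))))) u (Nat.zero_le _) hu

theorem shiftW10_0 : constK [(CfsgLib.Sporadic.CosetCert.ONData.fast7, sh7), (CfsgLib.Sporadic.CosetCert.ONData.fast3, sh3), (CfsgLib.Sporadic.CosetCert.ONData.fast7, sh7), (CfsgLib.Sporadic.CosetCert.ONData.fast3, sh3)] 0 0 6000 = true := by decide +kernel
theorem shiftW10_1 : constK [(CfsgLib.Sporadic.CosetCert.ONData.fast7, sh7), (CfsgLib.Sporadic.CosetCert.ONData.fast3, sh3), (CfsgLib.Sporadic.CosetCert.ONData.fast7, sh7), (CfsgLib.Sporadic.CosetCert.ONData.fast3, sh3)] 0 6000 6000 = true := by decide +kernel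
theorem shiftW10_2 : constK [(CfsgLib.Sporadic.CosetCert.ONData.fast7, sh7), (CfsgLib.Sporadic.CosetCert.ONData.fast3, sh3), (CfsgLib.Sporadic.CosetCert.ONData.fast7, sh7), (CfsgLib.Sporadic.CosetCert.ONData.fast3, sh3)] 0 12000 6000 = true := by decide +kernel
theorem shiftW10_3 : constK [(CfsgLib.Sporadic.CosetCert.ONData.fast7, sh7), (CfsgLib.Sporadic.CosetCert.ONData.fast3, sh3), (CfsgLib.Sporadic.CosetCert.ONData.fast7, sh7), (CfsgLib.Sporadic.CosetCert.ONData.fast3, sh3)] 0 18000 6000 = true := by decide +kernel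
theorem shiftW10_4 : constK [(CfsgLib.Sporadic.CosetCert.ONData.fast7, sh7), (CfsgLib.Sporadic.CosetCert.ONData.fast3, sh3), (CfsgLib.Sporadic.CosetCert.ONData.fast7, sh7), (CfsgLib.Sporadic.CosetCert.ONData.fast3, sh3)] 0 24000 6000 = true := by decide +kernel
theorem shiftW10_5 : constK [(CfsgLib.Sporadic.CosetCert.ONData.fast7, sh7), (CfsgLib.Sporadic.CosetCert.ONData.fast3, sh3), (CfsgLib.Sporadic.CosetCert.ONData.fast7, sh7), (CfsgLib.Sporadic.CosetCert.ONData.fast3, sh3)] 0 30000 6000 = true := by decide +kernel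
theorem shiftW10_6 : constK [(CfsgLib.Sporadic.CosetCert.ONData.fast7, sh7), (CfsgLib.Sporadic.CosetCert.ONData.fast3, sh3), (CfsgLib.Sporadic.CosetCert.ONData.fast7, sh7), (CfsgLib.Sporadic.CosetCert.ONData.fast3, sh3)] 0 36000 6000 = true := by decide +kernel
theorem shiftW10_7 : constK [(CfsgLib.Sporadic.CosetCert.ONData.fast7, sh7), (CfsgLib.Sporadic.CosetCert.ONData.fast3, sh3), (CfsgLib.Sporadic.CosetCert.ONData.fast7, sh7), (CfsgLib.Sporadic.CosetCert.ONData.fast3, sh3)] 0 42000 6000 = true := by decide +kernel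
theorem shiftW10_8 : constK [(CfsgLib.Sporadic.CosetCert.ONData.fast7, sh7), (CfsgLib.Sporadic.CosetCert.ONData.fast3, sh3), (CfsgLib.Sporadic.CosetCert.ONData.fast7, sh7), (CfsgLib.Sporadic.CosetCert.ONData.fast3, sh3)] 0 48000 6000 = true := by decide +kernel
theorem shiftW10_9 : constK [(CfsgLib.Sporadic.CosetCert.ONData.fast7, sh7), (CfsgLib.Sporadic.CosetCert.ONData.fast3, sh3), (CfsgLib.Sporadic.CosetCert.ONData.fast7, sh7), (CfsgLib.Sporadic.CosetCert.ONData.fast3, sh3)] 0 54000 6000 = true := by decide +kernel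
theorem shiftW10_10 : constK [(CfsgLib.Sporadic.CosetCert.ONData.fast7, sh7), (CfsgLib.Sporadic.CosetCert.ONData.fast3, sh3), (CfsgLib.Sporadic.CosetCert.ONData.fast7, sh7), (CfsgLib.Sporadic.CosetCert.ONData.fast3, sh3)] 0 60000 6000 = true := by decide +kernel
theorem shiftW10_11 : constK [(CfsgLib.Sporadic.CosetCert.ONData.fast7, sh7), (CfsgLib.Sporadic.CosetCert.ONData.fast3, sh3), (CfsgLib.Sporadic.CosetCert.ONData.fast7, sh7), (CfsgLib.Sporadic.CosetCert.ONData.fast3, sh3)] 0 66000 6000 = true := by decide +kernel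
theorem shiftW10_12 : constK [(CfsgLib.Sporadic.CosetCert.ONData.fast7, sh7), (CfsgLib.Sporadic.CosetCert.ONData.fast3, sh3), (CfsgLib.Sporadic.CosetCert.ONData.fast7, sh7), (CfsgLib.Sporadic.CosetCert.ONData.fast3, sh3)] 0 72000 6000 = true := by decide +kernel
theorem shiftW10_13 : constK [(CfsgLib.Sporadic.CosetCert.ONData.fast7, sh7), (CfsgLib.Sporadic.CosetCert.ONData.fast3, sh3), (CfsgLib.Sporadic.CosetCert.ONData.fast7, sh7), (CfsgLib.Sporadic.CosetCert.ONData.fast3, sh3)] 0 78000 6000 = true := by decide +kernel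
theorem shiftW10_14 : constK [(CfsgLib.Sporadic.CosetCert.ONData.fast7, sh7), (CfsgLib.Sporadic.CosetCert.ONData.fast3, sh3), (CfsgLib.Sporadic.CosetCert.ONData.fast7, sh7), (CfsgLib.Sporadic.CosetCert.ONData.fast3, sh3)] 0 84000 6000 = true := by decide +kernel
theorem shiftW10_15 : constK [(CfsgLib.Sporadic.CosetCert.ONData.fast7, sh7), (CfsgLib.Sporadic.CosetCert.ONData.fast3, sh3), (CfsgLib.Sporadic.CosetCert.ONData.fast7, sh7), (CfsgLib.Sporadic.CosetCert.ONData.fast3, sh3)] 0 90000 6000 = true := by decide +kernel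
theorem shiftW10_16 : constK [(CfsgLib.Sporadic.CosetCert.ONData.fast7, sh7), (CfsgLib.Sporadic.CosetCert.ONData.fast3, sh3), (CfsgLib.Sporadic.CosetCert.ONData.fast7, sh7), (CfsgLib.Sporadic.CosetCert.ONData.fast3, sh3)] 0 96000 6000 = true := by decide +kernel
theorem shiftW10_17 : constK [(CfsgLib.Sporadic.CosetCert.ONData.fast7, sh7), (CfsgLib.Sporadic.CosetCert.ONData.fast3, sh3), (CfsgLib.Sporadic.CosetCert.ONData.fast7, sh7), (CfsgLib.Sporadic.CosetCert.ONData.fast3, sh3)] 0 102000 6000 = true := by decide +kernel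
theorem shiftW10_18 : constK [(CfsgLib.Sporadic.CosetCert.ONData.fast7, sh7), (CfsgLib.Sporadic.CosetCert.ONData.fast3, sh3), (CfsgLib.Sporadic.CosetCert.ONData.fast7, sh7), (CfsgLib.Sporadic.CosetCert.ONData.fast3, sh3)] 0 108000 6000 = true := by decide +kernel
theorem shiftW10_19 : constK [(CfsgLib.Sporadic.CosetCert.ONData.fast7, sh7), (CfsgLib.Sporadic.CosetCert.ONData.fast3, sh3), (CfsgLib.Sporadic.CosetCert.ONData.fast7, sh7), (CfsgLib.Sporadic.CosetCert.ONData.fast3, sh3)] 0 114000 6000 = true := by decide +kernel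
theorem shiftW10_20 : constK [(CfsgLib.Sporadic.CosetCert.ONData.fast7, sh7), (CfsgLib.Sporadic.CosetCert.ONData.fast3, sh3), (CfsgLib.Sporadic.CosetCert.ONData.fast7, sh7), (CfsgLib.Sporadic.CosetCert.ONData.fast3, sh3)] 0 120000 2760 = true := by decide +kernel

theorem shiftW10 : ∀ u < 122760, Nat.mod (runS [(CfsgLib.Sporadic.CosetCert.ONData.fast7, sh7), (CfsgLib.Sporadic.CosetCert.ONData.fast3, sh3), (CfsgLib.Sporadic.CosetCert.ONData.fast7, sh7), (CfsgLib.Sporadic.CosetCert.ONData.fast3, sh3)] u) 3 = 0 := fun u hu =>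
  (range_split (range_split (range_split (range_split (constK_spec shiftW10_0) (constK_spec shiftW10_1)) (range_split (constK_spec shiftW10_2) (range_split (constK_spec shiftW10_3) (constK_spec shiftW10_4)))) (range_split (range_split (constK_spec shiftW10_5) (constK_spec shiftW10_6)) (range_split (constK_spec shiftW10_7) (range_split (constK_spec shiftW10_8) (constK_spec shiftW10_9))))) (range_split (range_split (range_split (constK_spec shiftW10_10) (constK_spec shiftW10_11)) (range_split (constK_spec shiftW10_12) (range_split (constK_spec shiftW10_13) (constK_spec shiftW10_14)))) (range_split (range_split (constK_spec shiftW10_15) (range_split (constK_spec shiftW10_16) (constK_spec shiftW10_17))) (range_split (constK_spec shiftW10_18) (range_split (constK_spec shiftW10_19) (constK_spec shiftW10_20)))))) u (Nat.zero_le _) hu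

theorem shiftW11_0 : constK [(CfsgLib.Sporadic.CosetCert.ONData.fast4, sh4), (CfsgLib.Sporadic.CosetCert.ONData.fast4, sh4)] 0 0 6000 = true := by decide +kernel
theorem shiftW11_1 : constK [(CfsgLib.Sporadic.CosetCert.ONData.fast4, sh4), (CfsgLib.Sporadic.CosetCert.ONData.fast4, sh4)] 0 6000 6000 = true := by decide +kernel
theorem shiftW11_2 : constK [(CfsgLib.Sporadic.CosetCert.ONData.fast4, sh4), (CfsgLib.Sporadic.CosetCert.ONData.fast4, sh4)] 0 12000 6000 = true := by decide +kernel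
theorem shiftW11_3 : constK [(CfsgLib.Sporadic.CosetCert.ONData.fast4, sh4), (CfsgLib.Sporadic.CosetCert.ONData.fast4, sh4)] 0 18000 6000 = true := by decide +kernel
theorem shiftW11_4 : constK [(CfsgLib.Sporadic.CosetCert.ONData.fast4, sh4), (CfsgLib.Sporadic.CosetCert.ONData.fast4, sh4)] 0 24000 6000 = true := by decide +kernel
theorem shiftW11_5 : constK [(CfsgLib.Sporadic.CosetCert.ONData.fast4, sh4), (CfsgLib.Sporadic.CosetCert.ONData.fast4, sh4)] 0 30000 6000 = true := by decide +kernel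
theorem shiftW11_6 : constK [(CfsgLib.Sporadic.CosetCert.ONData.fast4, sh4), (CfsgLib.Sporadic.CosetCert.ONData.fast4, sh4)] 0 36000 6000 = true := by decide +kernel
theorem shiftW11_7 : constK [(CfsgLib.Sporadic.CosetCert.ONData.fast4, sh4), (CfsgLib.Sporadic.CosetCert.ONData.fast4, sh4)] 0 42000 6000 = true := by decide +kernel
theorem shiftW11_8 : constK [(CfsgLib.Sporadic.CosetCert.ONData.fast4, sh4), (CfsgLib.Sporadic.CosetCert.ONData.fast4, sh4)] 0 48000 6000 = true := by decide +kernel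
theorem shiftW11_9 : constK [(CfsgLib.Sporadic.CosetCert.ONData.fast4, sh4), (CfsgLib.Sporadic.CosetCert.ONData.fast4, sh4)] 0 54000 6000 = true := by decide +kernel
theorem shiftW11_10 : constK [(CfsgLib.Sporadic.CosetCert.ONData.fast4, sh4), (CfsgLib.Sporadic.CosetCert.ONData.fast4, sh4)] 0 60000 6000 = true := by decide +kernel
theorem shiftW11_11 : constK [(CfsgLib.Sporadic.CosetCert.ONData.fast4, sh4), (CfsgLib.Sporadic.CosetCert.ONData.fast4, sh4)] 0 66000 6000 = true := by decide +kernel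
theorem shiftW11_12 : constK [(CfsgLib.Sporadic.CosetCert.ONData.fast4, sh4), (CfsgLib.Sporadic.CosetCert.ONData.fast4, sh4)] 0 72000 6000 = true := by decide +kernel
theorem shiftW11_13 : constK [(CfsgLib.Sporadic.CosetCert.ONData.fast4, sh4), (CfsgLib.Sporadic.CosetCert.ONData.fast4, sh4)] 0 78000 6000 = true := by decide +kernel
theorem shiftW11_14 : constK [(CfsgLib.Sporadic.CosetCert.ONData.fast4, sh4), (CfsgLib.Sporadic.CosetCert.ONData.fast4, sh4)] 0 84000 6000 = true := by decide +kernel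
theorem shiftW11_15 : constK [(CfsgLib.Sporadic.CosetCert.ONData.fast4, sh4), (CfsgLib.Sporadic.CosetCert.ONData.fast4, sh4)] 0 90000 6000 = true := by decide +kernel
theorem shiftW11_16 : constK [(CfsgLib.Sporadic.CosetCert.ONData.fast4, sh4), (CfsgLib.Sporadic.CosetCert.ONData.fast4, sh4)] 0 96000 6000 = true := by decide +kernel
theorem shiftW11_17 : constK [(CfsgLib.Sporadic.CosetCert.ONData.fast4, sh4), (CfsgLib.Sporadic.CosetCert.ONData.fast4, sh4)] 0 102000 6000 = true := by decide +kernel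
theorem shiftW11_18 : constK [(CfsgLib.Sporadic.CosetCert.ONData.fast4, sh4), (CfsgLib.Sporadic.CosetCert.ONData.fast4, sh4)] 0 108000 6000 = true := by decide +kernel
theorem shiftW11_19 : constK [(CfsgLib.Sporadic.CosetCert.ONData.fast4, sh4), (CfsgLib.Sporadic.CosetCert.ONData.fast4, sh4)] 0 114000 6000 = true := by decide +kernel
theorem shiftW11_20 : constK [(CfsgLib.Sporadic.CosetCert.ONData.fast4, sh4), (CfsgLib.Sporadic.CosetCert.ONData.fast4, sh4)] 0 120000 2760 = true := by decide +kernel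

theorem shiftW11 : ∀ u < 122760, Nat.mod (runS [(CfsgLib.Sporadic.CosetCert.ONData.fast4, sh4), (CfsgLib.Sporadic.CosetCert.ONData.fast4, sh4)] u) 3 = 0 := fun u hu =>
  (range_split (range_split (range_split (range_split (constK_spec shiftW11_0) (constK_spec shiftW11_1)) (range_split (constK_spec shiftW11_2) (range_split (constK_spec shiftW11_3) (constK_spec shiftW11_4)))) (range_split (range_split (constK_spec shiftW11_5) (constK_spec shiftW11_6)) (range_split (constK_spec shiftW11_7) (range_split (constK_spec shiftW11_8) (constK_spec shiftW11_9))))) (range_split (range_split (range_split (constK_spec shiftW11_10) (constK_spec shiftW11_11)) (range_split (constK_spec shiftW11_12) (range_split (constK_spec shiftW11_13) (constK_spec shiftW11_14)))) (range_split (range_split (constK_spec shiftW11_15) (range_split (constK_spec shiftW11_16) (constK_spec shiftW11_17))) (range_split (constK_spec shiftW11_18) (range_split (constK_spec shiftW11_19) (constK_spec shiftW11_20))))))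 u (Nat.zero_le _) hu

theorem shiftW27_0 : constK [(CfsgLib.Sporadic.CosetCert.ONData.fast5, sh5), (CfsgLib.Sporadic.CosetCert.ONData.fast0, sh0), (CfsgLib.Sporadic.CosetCert.ONData.fast5, sh5), (CfsgLib.Sporadic.CosetCert.ONData.fast6, sh6), (CfsgLib.Sporadic.CosetCert.ONData.fast0, sh0), (CfsgLib.Sporadic.CosetCert.ONData.fast6, sh6), (CfsgLib.Sporadic.CosetCert.ONData.fast5, sh5), (CfsgLib.Sporadic.CosetCert.ONData.fast0, sh0), (CfsgLib.Sporadic.CosetCert.ONData.fast5, sh5), (CfsgLib.Sporadic.CosetCert.ONData.fast6, sh6), (CfsgLib.Sporadic.CosetCert.ONData.fast0, sh0)] 1 0 6000 = true := by decide +kernel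
theorem shiftW27_1 : constK [(CfsgLib.Sporadic.CosetCert.ONData.fast5, sh5), (CfsgLib.Sporadic.CosetCert.ONData.fast0, sh0), (CfsgLib.Sporadic.CosetCert.ONData.fast5, sh5), (CfsgLib.Sporadic.CosetCert.ONData.fast6, sh6), (CfsgLib.Sporadic.CosetCert.ONData.fast0, sh0), (CfsgLib.Sporadic.CosetCert.ONData.fast6, sh6), (CfsgLib.Sporadic.CosetCert.ONData.fast5, sh5), (CfsgLib.Sporadic.CosetCert.ONData.fast0, sh0), (CfsgLib.Sporadic.CosetCert.ONData.fast5, sh5), (CfsgLib.Sporadic.CosetCert.ONData.fast6, sh6), (CfsgLib.Sporadic.CosetCert.ONData.fast0, sh0)] 1 6000 6000 = true := by decide +kernel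
theorem shiftW27_2 : constK [(CfsgLib.Sporadic.CosetCert.ONData.fast5, sh5), (CfsgLib.Sporadic.CosetCert.ONData.fast0, sh0), (CfsgLib.Sporadic.CosetCert.ONData.fast5, sh5), (CfsgLib.Sporadic.CosetCert.ONData.fast6, sh6), (CfsgLib.Sporadic.CosetCert.ONData.fast0, sh0), (CfsgLib.Sporadic.CosetCert.ONData.fast6, sh6), (CfsgLib.Sporadic.CosetCert.ONData.fast5, sh5), (CfsgLib.Sporadic.CosetCert.ONData.fast0, sh0), (CfsgLib.Sporadic.CosetCert.ONData.fast5, sh5), (CfsgLib.Sporadic.CosetCert.ONData.fast6, sh6), (CfsgLib.Sporadic.CosetCert.ONData.fast0, sh0)] 1 12000 6000 = true := by decide +kernel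
theorem shiftW27_3 : constK [(CfsgLib.Sporadic.CosetCert.ONData.fast5, sh5), (CfsgLib.Sporadic.CosetCert.ONData.fast0, sh0), (CfsgLib.Sporadic.CosetCert.ONData.fast5, sh5), (CfsgLib.Sporadic.CosetCert.ONData.fast6, sh6), (CfsgLib.Sporadic.CosetCert.ONData.fast0, sh0), (CfsgLib.Sporadic.CosetCert.ONData.fast6, sh6), (CfsgLib.Sporadic.CosetCert.ONData.fast5, sh5), (CfsgLib.Sporadic.CosetCert.ONData.fast0, sh0), (CfsgLib.Sporadic.CosetCert.ONData.fast5, sh5), (CfsgLib.Sporadic.CosetCert.ONData.fast6, sh6), (CfsgLib.Sporadic.CosetCert.ONData.fast0, sh0)] 1 18000 6000 = true := by decide +kernel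
theorem shiftW27_4 : constK [(CfsgLib.Sporadic.CosetCert.ONData.fast5, sh5), (CfsgLib.Sporadic.CosetCert.ONData.fast0, sh0), (CfsgLib.Sporadic.CosetCert.ONData.fast5, sh5), (CfsgLib.Sporadic.CosetCert.ONData.fast6, sh6), (CfsgLib.Sporadic.CosetCert.ONData.fast0, sh0), (CfsgLib.Sporadic.CosetCert.ONData.fast6, sh6), (CfsgLib.Sporadic.CosetCert.ONData.fast5, sh5), (CfsgLib.Sporadic.CosetCert.ONData.fast0, sh0), (CfsgLib.Sporadic.CosetCert.ONData.fast5, sh5), (CfsgLib.Sporadic.CosetCert.ONData.fast6, sh6), (CfsgLib.Sporadic.CosetCert.ONData.fast0, sh0)] 1 24000 6000 = true := by decide +kernel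
theorem shiftW27_5 : constK [(CfsgLib.Sporadic.CosetCert.ONData.fast5, sh5), (CfsgLib.Sporadic.CosetCert.ONData.fast0, sh0), (CfsgLib.Sporadic.CosetCert.ONData.fast5, sh5), (CfsgLib.Sporadic.CosetCert.ONData.fast6, sh6), (CfsgLib.Sporadic.CosetCert.ONData.fast0, sh0), (CfsgLib.Sporadic.CosetCert.ONData.fast6, sh6), (CfsgLib.Sporadic.CosetCert.ONData.fast5, sh5), (CfsgLib.Sporadic.CosetCert.ONData.fast0, sh0), (CfsgLib.Sporadic.CosetCert.ONData.fast5, sh5), (CfsgLib.Sporadic.CosetCert.ONData.fast6, sh6), (CfsgLib.Sporadic.CosetCert.ONData.fast0, sh0)] 1 30000 6000 = true := by decide +kernel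
theorem shiftW27_6 : constK [(CfsgLib.Sporadic.CosetCert.ONData.fast5, sh5), (CfsgLib.Sporadic.CosetCert.ONData.fast0, sh0), (CfsgLib.Sporadic.CosetCert.ONData.fast5, sh5), (CfsgLib.Sporadic.CosetCert.ONData.fast6, sh6), (CfsgLib.Sporadic.CosetCert.ONData.fast0, sh0), (CfsgLib.Sporadic.CosetCert.ONData.fast6, sh6), (CfsgLib.Sporadic.CosetCert.ONData.fast5, sh5), (CfsgLib.Sporadic.CosetCert.ONData.fast0, sh0), (CfsgLib.Sporadic.CosetCert.ONData.fast5, sh5), (CfsgLib.Sporadic.CosetCert.ONData.fast6, sh6), (CfsgLib.Sporadic.CosetCert.ONData.fast0, sh0)] 1 36000 6000 = true := by decide +kernel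
theorem shiftW27_7 : constK [(CfsgLib.Sporadic.CosetCert.ONData.fast5, sh5), (CfsgLib.Sporadic.CosetCert.ONData.fast0, sh0), (CfsgLib.Sporadic.CosetCert.ONData.fast5, sh5), (CfsgLib.Sporadic.CosetCert.ONData.fast6, sh6), (CfsgLib.Sporadic.CosetCert.ONData.fast0, sh0), (CfsgLib.Sporadic.CosetCert.ONData.fast6, sh6), (CfsgLib.Sporadic.CosetCert.ONData.fast5, sh5), (CfsgLib.Sporadic.CosetCert.ONData.fast0, sh0), (CfsgLib.Sporadic.CosetCert.ONData.fast5, sh5), (CfsgLib.Sporadic.CosetCert.ONData.fast6, sh6), (CfsgLib.Sporadic.CosetCert.ONData.fast0, sh0)] 1 42000 6000 = true := by decide +kernel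
theorem shiftW27_8 : constK [(CfsgLib.Sporadic.CosetCert.ONData.fast5, sh5), (CfsgLib.Sporadic.CosetCert.ONData.fast0, sh0), (CfsgLib.Sporadic.CosetCert.ONData.fast5, sh5), (CfsgLib.Sporadic.CosetCert.ONData.fast6, sh6), (CfsgLib.Sporadic.CosetCert.ONData.fast0, sh0), (CfsgLib.Sporadic.CosetCert.ONData.fast6, sh6), (CfsgLib.Sporadic.CosetCert.ONData.fast5, sh5), (CfsgLib.Sporadic.CosetCert.ONData.fast0, sh0), (CfsgLib.Sporadic.CosetCert.ONData.fast5, sh5), (CfsgLib.Sporadic.CosetCert.ONData.fast6, sh6), (CfsgLib.Sporadic.CosetCert.ONData.fast0, sh0)] 1 48000 6000 = true := by decide +kernel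
theorem shiftW27_9 : constK [(CfsgLib.Sporadic.CosetCert.ONData.fast5, sh5), (CfsgLib.Sporadic.CosetCert.ONData.fast0, sh0), (CfsgLib.Sporadic.CosetCert.ONData.fast5, sh5), (CfsgLib.Sporadic.CosetCert.ONData.fast6, sh6), (CfsgLib.Sporadic.CosetCert.ONData.fast0, sh0), (CfsgLib.Sporadic.CosetCert.ONData.fast6, sh6), (CfsgLib.Sporadic.CosetCert.ONData.fast5, sh5), (CfsgLib.Sporadic.CosetCert.ONData.fast0, sh0), (CfsgLib.Sporadic.CosetCert.ONData.fast5, sh5), (CfsgLib.Sporadic.CosetCert.ONData.fast6, sh6), (CfsgLib.Sporadic.CosetCert.ONData.fast0, sh0)] 1 54000 6000 = true := by decide +kernel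
theorem shiftW27_10 : constK [(CfsgLib.Sporadic.CosetCert.ONData.fast5, sh5), (CfsgLib.Sporadic.CosetCert.ONData.fast0, sh0), (CfsgLib.Sporadic.CosetCert.ONData.fast5, sh5), (CfsgLib.Sporadic.CosetCert.ONData.fast6, sh6), (CfsgLib.Sporadic.CosetCert.ONData.fast0, sh0), (CfsgLib.Sporadic.CosetCert.ONData.fast6, sh6), (CfsgLib.Sporadic.CosetCert.ONData.fast5, sh5), (CfsgLib.Sporadic.CosetCert.ONData.fast0, sh0), (CfsgLib.Sporadic.CosetCert.ONData.fast5, sh5), (CfsgLib.Sporadic.CosetCert.ONData.fast6, sh6), (CfsgLib.Sporadic.CosetCert.ONData.fast0, sh0)] 1 60000 6000 = true := by decide +kernel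
theorem shiftW27_11 : constK [(CfsgLib.Sporadic.CosetCert.ONData.fast5, sh5), (CfsgLib.Sporadic.CosetCert.ONData.fast0, sh0), (CfsgLib.Sporadic.CosetCert.ONData.fast5, sh5), (CfsgLib.Sporadic.CosetCert.ONData.fast6, sh6), (CfsgLib.Sporadic.CosetCert.ONData.fast0, sh0), (CfsgLib.Sporadic.CosetCert.ONData.fast6, sh6), (CfsgLib.Sporadic.CosetCert.ONData.fast5, sh5), (CfsgLib.Sporadic.CosetCert.ONData.fast0, sh0), (CfsgLib.Sporadic.CosetCert.ONData.fast5, sh5), (CfsgLib.Sporadic.CosetCert.ONData.fast6, sh6), (CfsgLib.Sporadic.CosetCert.ONData.fast0, sh0)] 1 66000 6000 = true := by decide +kernel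
theorem shiftW27_12 : constK [(CfsgLib.Sporadic.CosetCert.ONData.fast5, sh5), (CfsgLib.Sporadic.CosetCert.ONData.fast0, sh0), (CfsgLib.Sporadic.CosetCert.ONData.fast5, sh5), (CfsgLib.Sporadic.CosetCert.ONData.fast6, sh6), (CfsgLib.Sporadic.CosetCert.ONData.fast0, sh0), (CfsgLib.Sporadic.CosetCert.ONData.fast6, sh6), (CfsgLib.Sporadic.CosetCert.ONData.fast5, sh5), (CfsgLib.Sporadic.CosetCert.ONData.fast0, sh0), (CfsgLib.Sporadic.CosetCert.ONData.fast5, sh5), (CfsgLib.Sporadic.CosetCert.ONData.fast6, sh6), (CfsgLib.Sporadic.CosetCert.ONData.fast0, sh0)] 1 72000 6000 = true := by decide +kernel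
theorem shiftW27_13 : constK [(CfsgLib.Sporadic.CosetCert.ONData.fast5, sh5), (CfsgLib.Sporadic.CosetCert.ONData.fast0, sh0), (CfsgLib.Sporadic.CosetCert.ONData.fast5, sh5), (CfsgLib.Sporadic.CosetCert.ONData.fast6, sh6), (CfsgLib.Sporadic.CosetCert.ONData.fast0, sh0), (CfsgLib.Sporadic.CosetCert.ONData.fast6, sh6), (CfsgLib.Sporadic.CosetCert.ONData.fast5, sh5), (CfsgLib.Sporadic.CosetCert.ONData.fast0, sh0), (CfsgLib.Sporadic.CosetCert.ONData.fast5, sh5), (CfsgLib.Sporadic.CosetCert.ONData.fast6, sh6), (CfsgLib.Sporadic.CosetCert.ONData.fast0, sh0)] 1 78000 6000 = true := by decide +kernel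
theorem shiftW27_14 : constK [(CfsgLib.Sporadic.CosetCert.ONData.fast5, sh5), (CfsgLib.Sporadic.CosetCert.ONData.fast0, sh0), (CfsgLib.Sporadic.CosetCert.ONData.fast5, sh5), (CfsgLib.Sporadic.CosetCert.ONData.fast6, sh6), (CfsgLib.Sporadic.CosetCert.ONData.fast0, sh0), (CfsgLib.Sporadic.CosetCert.ONData.fast6, sh6), (CfsgLib.Sporadic.CosetCert.ONData.fast5, sh5), (CfsgLib.Sporadic.CosetCert.ONData.fast0, sh0), (CfsgLib.Sporadic.CosetCert.ONData.fast5, sh5), (CfsgLib.Sporadic.CosetCert.ONData.fast6, sh6), (CfsgLib.Sporadic.CosetCert.ONData.fast0, sh0)] 1 84000 6000 = true := by decide +kernel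
theorem shiftW27_15 : constK [(CfsgLib.Sporadic.CosetCert.ONData.fast5, sh5), (CfsgLib.Sporadic.CosetCert.ONData.fast0, sh0), (CfsgLib.Sporadic.CosetCert.ONData.fast5, sh5), (CfsgLib.Sporadic.CosetCert.ONData.fast6, sh6), (CfsgLib.Sporadic.CosetCert.ONData.fast0, sh0), (CfsgLib.Sporadic.CosetCert.ONData.fast6, sh6), (CfsgLib.Sporadic.CosetCert.ONData.fast5, sh5), (CfsgLib.Sporadic.CosetCert.ONData.fast0, sh0), (CfsgLib.Sporadic.CosetCert.ONData.fast5, sh5), (CfsgLib.Sporadic.CosetCert.ONData.fast6, sh6), (CfsgLib.Sporadic.CosetCert.ONData.fast0, sh0)] 1 90000 6000 = true := by decide +kernel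
theorem shiftW27_16 : constK [(CfsgLib.Sporadic.CosetCert.ONData.fast5, sh5), (CfsgLib.Sporadic.CosetCert.ONData.fast0, sh0), (CfsgLib.Sporadic.CosetCert.ONData.fast5, sh5), (CfsgLib.Sporadic.CosetCert.ONData.fast6, sh6), (CfsgLib.Sporadic.CosetCert.ONData.fast0, sh0), (CfsgLib.Sporadic.CosetCert.ONData.fast6, sh6), (CfsgLib.Sporadic.CosetCert.ONData.fast5, sh5), (CfsgLib.Sporadic.CosetCert.ONData.fast0, sh0), (CfsgLib.Sporadic.CosetCert.ONData.fast5, sh5), (CfsgLib.Sporadic.CosetCert.ONData.fast6, sh6), (CfsgLib.Sporadic.CosetCert.ONData.fast0, sh0)] 1 96000 6000 = true := by decide +kernel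
theorem shiftW27_17 : constK [(CfsgLib.Sporadic.CosetCert.ONData.fast5, sh5), (CfsgLib.Sporadic.CosetCert.ONData.fast0, sh0), (CfsgLib.Sporadic.CosetCert.ONData.fast5, sh5), (CfsgLib.Sporadic.CosetCert.ONData.fast6, sh6), (CfsgLib.Sporadic.CosetCert.ONData.fast0, sh0), (CfsgLib.Sporadic.CosetCert.ONData.fast6, sh6), (CfsgLib.Sporadic.CosetCert.ONData.fast5, sh5), (CfsgLib.Sporadic.CosetCert.ONData.fast0, sh0), (CfsgLib.Sporadic.CosetCert.ONData.fast5, sh5), (CfsgLib.Sporadic.CosetCert.ONData.fast6, sh6), (CfsgLib.Sporadic.CosetCert.ONData.fast0, sh0)] 1 102000 6000 = true := by decide +kernel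
theorem shiftW27_18 : constK [(CfsgLib.Sporadic.CosetCert.ONData.fast5, sh5), (CfsgLib.Sporadic.CosetCert.ONData.fast0, sh0), (CfsgLib.Sporadic.CosetCert.ONData.fast5, sh5), (CfsgLib.Sporadic.CosetCert.ONData.fast6, sh6), (CfsgLib.Sporadic.CosetCert.ONData.fast0, sh0), (CfsgLib.Sporadic.CosetCert.ONData.fast6, sh6), (CfsgLib.Sporadic.CosetCert.ONData.fast5, sh5), (CfsgLib.Sporadic.CosetCert.ONData.fast0, sh0), (CfsgLib.Sporadic.CosetCert.ONData.fast5, sh5), (CfsgLib.Sporadic.CosetCert.ONData.fast6, sh6), (CfsgLib.Sporadic.CosetCert.ONData.fast0, sh0)] 1 108000 6000 = true := by decide +kernel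
theorem shiftW27_19 : constK [(CfsgLib.Sporadic.CosetCert.ONData.fast5, sh5), (CfsgLib.Sporadic.CosetCert.ONData.fast0, sh0), (CfsgLib.Sporadic.CosetCert.ONData.fast5, sh5), (CfsgLib.Sporadic.CosetCert.ONData.fast6, sh6), (CfsgLib.Sporadic.CosetCert.ONData.fast0, sh0), (CfsgLib.Sporadic.CosetCert.ONData.fast6, sh6), (CfsgLib.Sporadic.CosetCert.ONData.fast5, sh5), (CfsgLib.Sporadic.CosetCert.ONData.fast0, sh0), (CfsgLib.Sporadic.CosetCert.ONData.fast5, sh5), (CfsgLib.Sporadic.CosetCert.ONData.fast6, sh6), (CfsgLib.Sporadic.CosetCert.ONData.fast0, sh0)] 1 114000 6000 = true := by decide +kernel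
theorem shiftW27_20 : constK [(CfsgLib.Sporadic.CosetCert.ONData.fast5, sh5), (CfsgLib.Sporadic.CosetCert.ONData.fast0, sh0), (CfsgLib.Sporadic.CosetCert.ONData.fast5, sh5), (CfsgLib.Sporadic.CosetCert.ONData.fast6, sh6), (CfsgLib.Sporadic.CosetCert.ONData.fast0, sh0), (CfsgLib.Sporadic.CosetCert.ONData.fast6, sh6), (CfsgLib.Sporadic.CosetCert.ONData.fast5, sh5), (CfsgLib.Sporadic.CosetCert.ONData.fast0, sh0), (CfsgLib.Sporadic.CosetCert.ONData.fast5, sh5), (CfsgLib.Sporadic.CosetCert.ONData.fast6, sh6), (CfsgLib.Sporadic.CosetCert.ONData.fast0, sh0)] 1 120000 2760 = true := by decide +kernel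

theorem shiftW27 : ∀ u < 122760, Nat.mod (runS [(CfsgLib.Sporadic.CosetCert.ONData.fast5, sh5), (CfsgLib.Sporadic.CosetCert.ONData.fast0, sh0), (CfsgLib.Sporadic.CosetCert.ONData.fast5, sh5), (CfsgLib.Sporadic.CosetCert.ONData.fast6, sh6), (CfsgLib.Sporadic.CosetCert.ONData.fast0, sh0), (CfsgLib.Sporadic.CosetCert.ONData.fast6, sh6), (CfsgLib.Sporadic.CosetCert.ONData.fast5, sh5), (CfsgLib.Sporadic.CosetCert.ONData.fast0, sh0), (CfsgLib.Sporadic.CosetCert.ONData.fast5, sh5), (CfsgLib.Sporadic.CosetCert.ONData.fast6, sh6), (CfsgLib.Sporadic.CosetCert.ONData.fast0, sh0)] u) 3 = 1 := fun u hu =>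
  (range_split (range_split (range_split (range_split (constK_spec shiftW27_0) (constK_spec shiftW27_1)) (range_split (constK_spec shiftW27_2) (range_split (constK_spec shiftW27_3) (constK_spec shiftW27_4)))) (range_split (range_split (constK_spec shiftW27_5) (constK_spec shiftW27_6)) (range_split (constK_spec shiftW27_7) (range_split (constK_spec shiftW27_8) (constK_spec shiftW27_9))))) (range_split (range_split (range_split (constK_spec shiftW27_10) (constK_spec shiftW27_11)) (range_split (constK_spec shiftW27_12) (range_split (constK_spec shiftW27_13) (constK_spec shiftW27_14)))) (range_split (range_split (constK_spec shiftW27_15) (range_split (constK_spec shiftW27_16) (constK_spec shiftW27_17))) (range_split (constK_spec shiftW27_18) (range_split (constK_spec shiftW27_19) (constK_spec shiftW27_20)))))) u (Nat.zero_le _) hu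

end CfsgLib.Schur.Sporadic.ON
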