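import Cfsg.Agent.Lib.Schur.ON.Shift

/-!
Kernel checks of the triple cover of the O'Nan group: the lifted relators shift all sheets alike.
-/

set_option autoImplicit false
set_option maxRecDepth 100000
set_option maxHeartbeats 0
set_option Elab.async false

namespace CfsgLib.Schur.Sporadic.ON

open CfsgLib.Sporadic.CosetCert (range_split)

theorem shiftW14_0 : constK [(CfsgLib.Sporadic.CosetCert.ONData.fast7, sh7), (CfsgLib.Sporadic.CosetCert.ONData.fast4, sh4), (CfsgLib.Sporadic.CosetCert.ONData.fast7, sh7), (CfsgLib.Sporadic.CosetCert.ONData.fast4, sh4)] 0 0 6000 = true := by decide +kernel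
theorem shiftW14_1 : constK [(CfsgLib.Sporadic.CosetCert.ONData.fast7, sh7), (CfsgLib.Sporadic.CosetCert.ONData.fast4, sh4), (CfsgLib.Sporadic.CosetCert.ONData.fast7, sh7), (CfsgLib.Sporadic.CosetCert.ONData.fast4, sh4)] 0 6000 6000 = true := by decide +kernel
theorem shiftW14_2 : constK [(CfsgLib.Sporadic.CosetCert.ONData.fast7, sh7), (CfsgLib.Sporadic.CosetCert.ONData.fast4, sh4), (CfsgLib.Sporadic.CosetCert.ONData.fast7, sh7), (CfsgLib.Sporadic.CosetCert.ONData.fast4, sh4)] 0 12000 6000 = true := by decide +kernel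
theorem shiftW14_3 : constK [(CfsgLib.Sporadic.CosetCert.ONData.fast7, sh7), (CfsgLib.Sporadic.CosetCert.ONData.fast4, sh4), (CfsgLib.Sporadic.CosetCert.ONData.fast7, sh7), (CfsgLib.Sporadic.CosetCert.ONData.fast4, sh4)] 0 18000 6000 = true := by decide +kernel
theorem shiftW14_4 : constK [(CfsgLib.Sporadic.CosetCert.ONData.fast7, sh7), (CfsgLib.Sporadic.CosetCert.ONData.fast4, sh4), (CfsgLib.Sporadic.CosetCert.ONData.fast7, sh7), (CfsgLib.Sporadic.CosetCert.ONData.fast4, sh4)] 0 24000 6000 = true := by decide +kernel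
theorem shiftW14_5 : constK [(CfsgLib.Sporadic.CosetCert.ONData.fast7, sh7), (CfsgLib.Sporadic.CosetCert.ONData.fast4, sh4), (CfsgLib.Sporadic.CosetCert.ONData.fast7, sh7), (CfsgLib.Sporadic.CosetCert.ONData.fast4, sh4)] 0 30000 6000 = true := by decide +kernel
theorem shiftW14_6 : constK [(CfsgLib.Sporadic.CosetCert.ONData.fast7, sh7), (CfsgLib.Sporadic.CosetCert.ONData.fast4, sh4), (CfsgLib.Sporadic.CosetCert.ONData.fast7, sh7), (CfsgLib.Sporadic.CosetCert.ONData.fast4, sh4)] 0 36000 6000 = true := by decide +kernel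
theorem shiftW14_7 : constK [(CfsgLib.Sporadic.CosetCert.ONData.fast7, sh7), (CfsgLib.Sporadic.CosetCert.ONData.fast4, sh4), (CfsgLib.Sporadic.CosetCert.ONData.fast7, sh7), (CfsgLib.Sporadic.CosetCert.ONData.fast4, sh4)] 0 42000 6000 = true := by decide +kernel
theorem shiftW14_8 : constK [(CfsgLib.Sporadic.CosetCert.ONData.fast7, sh7), (CfsgLib.Sporadic.CosetCert.ONData.fast4, sh4), (CfsgLib.Sporadic.CosetCert.ONData.fast7, sh7), (CfsgLib.Sporadic.CosetCert.ONData.fast4, sh4)] 0 48000 6000 = true := by decide +kernel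
theorem shiftW14_9 : constK [(CfsgLib.Sporadic.CosetCert.ONData.fast7, sh7), (CfsgLib.Sporadic.CosetCert.ONData.fast4, sh4), (CfsgLib.Sporadic.CosetCert.ONData.fast7, sh7), (CfsgLib.Sporadic.CosetCert.ONData.fast4, sh4)] 0 54000 6000 = true := by decide +kernel
theorem shiftW14_10 : constK [(CfsgLib.Sporadic.CosetCert.ONData.fast7, sh7), (CfsgLib.Sporadic.CosetCert.ONData.fast4, sh4), (CfsgLib.Sporadic.CosetCert.ONData.fast7, sh7), (CfsgLib.Sporadic.CosetCert.ONData.fast4, sh4)] 0 60000 6000 = true := by decide +kernel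
theorem shiftW14_11 : constK [(CfsgLib.Sporadic.CosetCert.ONData.fast7, sh7), (CfsgLib.Sporadic.CosetCert.ONData.fast4, sh4), (CfsgLib.Sporadic.CosetCert.ONData.fast7, sh7), (CfsgLib.Sporadic.CosetCert.ONData.fast4, sh4)] 0 66000 6000 = true := by decide +kernel
theorem shiftW14_12 : constK [(CfsgLib.Sporadic.CosetCert.ONData.fast7, sh7), (CfsgLib.Sporadic.CosetCert.ONData.fast4, sh4), (CfsgLib.Sporadic.CosetCert.ONData.fast7, sh7), (CfsgLib.Sporadic.CosetCert.ONData.fast4, sh4)] 0 72000 6000 = true := by decide +kernel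
theorem shiftW14_13 : constK [(CfsgLib.Sporadic.CosetCert.ONData.fast7, sh7), (CfsgLib.Sporadic.CosetCert.ONData.fast4, sh4), (CfsgLib.Sporadic.CosetCert.ONData.fast7, sh7), (CfsgLib.Sporadic.CosetCert.ONData.fast4, sh4)] 0 78000 6000 = true := by decide +kernel
theorem shiftW14_14 : constK [(CfsgLib.Sporadic.CosetCert.ONData.fast7, sh7), (CfsgLib.Sporadic.CosetCert.ONData.fast4, sh4), (CfsgLib.Sporadic.CosetCert.ONData.fast7, sh7), (CfsgLib.Sporadic.CosetCert.ONData.fast4, sh4)] 0 84000 6000 = true := by decide +kernel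
theorem shiftW14_15 : constK [(CfsgLib.Sporadic.CosetCert.ONData.fast7, sh7), (CfsgLib.Sporadic.CosetCert.ONData.fast4, sh4), (CfsgLib.Sporadic.CosetCert.ONData.fast7, sh7), (CfsgLib.Sporadic.CosetCert.ONData.fast4, sh4)] 0 90000 6000 = true := by decide +kernel
theorem shiftW14_16 : constK [(CfsgLib.Sporadic.CosetCert.ONData.fast7, sh7), (CfsgLib.Sporadic.CosetCert.ONData.fast4, sh4), (CfsgLib.Sporadic.CosetCert.ONData.fast7, sh7), (CfsgLib.Sporadic.CosetCert.ONData.fast4, sh4)] 0 96000 6000 = true := by decide +kernel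
theorem shiftW14_17 : constK [(CfsgLib.Sporadic.CosetCert.ONData.fast7, sh7), (CfsgLib.Sporadic.CosetCert.ONData.fast4, sh4), (CfsgLib.Sporadic.CosetCert.ONData.fast7, sh7), (CfsgLib.Sporadic.CosetCert.ONData.fast4, sh4)] 0 102000 6000 = true := by decide +kernel
theorem shiftW14_18 : constK [(CfsgLib.Sporadic.CosetCert.ONData.fast7, sh7), (CfsgLib.Sporadic.CosetCert.ONData.fast4, sh4), (CfsgLib.Sporadic.CosetCert.ONData.fast7, sh7), (CfsgLib.Sporadic.CosetCert.ONData.fast4, sh4)] 0 108000 6000 = true := by decide +kernel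
theorem shiftW14_19 : constK [(CfsgLib.Sporadic.CosetCert.ONData.fast7, sh7), (CfsgLib.Sporadic.CosetCert.ONData.fast4, sh4), (CfsgLib.Sporadic.CosetCert.ONData.fast7, sh7), (CfsgLib.Sporadic.CosetCert.ONData.fast4, sh4)] 0 114000 6000 = true := by decide +kernel
theorem shiftW14_20 : constK [(CfsgLib.Sporadic.CosetCert.ONData.fast7, sh7), (CfsgLib.Sporadic.CosetCert.ONData.fast4, sh4), (CfsgLib.Sporadic.CosetCert.ONData.fast7, sh7), (CfsgLib.Sporadic.CosetCert.ONData.fast4, sh4)] 0 120000 2760 = true := by decide +kernel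

theorem shiftW14 : ∀ u < 122760, Nat.mod (runS [(CfsgLib.Sporadic.CosetCert.ONData.fast7, sh7), (CfsgLib.Sporadic.CosetCert.ONData.fast4, sh4), (CfsgLib.Sporadic.CosetCert.ONData.fast7, sh7), (CfsgLib.Sporadic.CosetCert.ONData.fast4, sh4)] u) 3 = 0 := fun u hu =>
  (range_split (range_split (range_split (range_split (constK_spec shiftW14_0) (constK_spec shiftW14_1)) (range_split (constK_spec shiftW14_2) (range_split (constK_spec shiftW14_3) (constK_spec shiftW14_4)))) (range_split (range_split (constK_spec shiftW14_5) (constK_spec shiftW14_6)) (range_split (constK_spec shiftW14_7) (range_split (constK_spec shiftW14_8) (constK_spec shiftW14_9))))) (range_split (range_split (range_split (constK_spec shiftW14_10) (constK_spec shiftW14_11)) (range_split (constK_spec shiftW14_12) (range_split (constK_spec shiftW14_13) (constK_spec shiftW14_14)))) (range_split (range_split (constK_spec shiftW14_15) (range_split (constK_spec shiftW14_16) (constK_spec shiftW14_17)))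 (range_split (constK_spec shiftW14_18) (range_split (constK_spec shiftW14_19) (constK_spec shiftW14_20)))))) u (Nat.zero_le _) hu

theorem shiftW16_0 : constK [(CfsgLib.Sporadic.CosetCert.ONData.fast6, sh6), (CfsgLib.Sporadic.CosetCert.ONData.fast5, sh5), (CfsgLib.Sporadic.CosetCert.ONData.fast6, sh6), (CfsgLib.Sporadic.CosetCert.ONData.fast5, sh5), (CfsgLib.Sporadic.CosetCert.ONData.fast6, sh6), (CfsgLib.Sporadic.CosetCert.ONData.fast5, sh5)] 0 0 6000 = true := by decide +kernel
theorem shiftW16_1 : constK [(CfsgLib.Sporadic.CosetCert.ONData.fast6, sh6), (CfsgLib.Sporadic.CosetCert.ONData.fast5, sh5), (CfsgLib.Sporadic.CosetCert.ONData.fast6, sh6), (CfsgLib.Sporadic.CosetCert.ONData.fast5, sh5), (CfsgLib.Sporadic.CosetCert.ONData.fast6, sh6), (CfsgLib.Sporadic.CosetCert.ONData.fast5, sh5)] 0 6000 6000 = true := by decide +kernel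
theorem shiftW16_2 : constK [(CfsgLib.Sporadic.CosetCert.ONData.fast6, sh6), (CfsgLib.Sporadic.CosetCert.ONData.fast5, sh5), (CfsgLib.Sporadic.CosetCert.ONData.fast6, sh6), (CfsgLib.Sporadic.CosetCert.ONData.fast5, sh5), (CfsgLib.Sporadic.CosetCert.ONData.fast6, sh6), (CfsgLib.Sporadic.CosetCert.ONData.fast5, sh5)] 0 12000 6000 = true := by decide +kernel
theorem shiftW16_3 : constK [(CfsgLib.Sporadic.CosetCert.ONData.fast6, sh6), (CfsgLib.Sporadic.CosetCert.ONData.fast5, sh5), (CfsgLib.Sporadic.CosetCert.ONData.fast6, sh6), (CfsgLib.Sporadic.CosetCert.ONData.fast5, sh5), (CfsgLib.Sporadic.CosetCert.ONData.fast6, sh6), (CfsgLib.Sporadic.CosetCert.ONData.fast5, sh5)] 0 18000 6000 = true := by decide +kernel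
theorem shiftW16_4 : constK [(CfsgLib.Sporadic.CosetCert.ONData.fast6, sh6), (CfsgLib.Sporadic.CosetCert.ONData.fast5, sh5), (CfsgLib.Sporadic.CosetCert.ONData.fast6, sh6), (CfsgLib.Sporadic.CosetCert.ONData.fast5, sh5), (CfsgLib.Sporadic.CosetCert.ONData.fast6, sh6), (CfsgLib.Sporadic.CosetCert.ONData.fast5, sh5)] 0 24000 6000 = true := by decide +kernel
theorem shiftW16_5 : constK [(CfsgLib.Sporadic.CosetCert.ONData.fast6, sh6), (CfsgLib.Sporadic.CosetCert.ONData.fast5, sh5), (CfsgLib.Sporadic.CosetCert.ONData.fast6, sh6), (CfsgLib.Sporadic.CosetCert.ONData.fast5, sh5), (CfsgLib.Sporadic.CosetCert.ONData.fast6, sh6), (CfsgLib.Sporadic.CosetCert.ONData.fast5, sh5)] 0 30000 6000 = true := by decide +kernel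
theorem shiftW16_6 : constK [(CfsgLib.Sporadic.CosetCert.ONData.fast6, sh6), (CfsgLib.Sporadic.CosetCert.ONData.fast5, sh5), (CfsgLib.Sporadic.CosetCert.ONData.fast6, sh6), (CfsgLib.Sporadic.CosetCert.ONData.fast5, sh5), (CfsgLib.Sporadic.CosetCert.ONData.fast6, sh6), (CfsgLib.Sporadic.CosetCert.ONData.fast5, sh5)] 0 36000 6000 = true := by decide +kernel
theorem shiftW16_7 : constK [(CfsgLib.Sporadic.CosetCert.ONData.fast6, sh6), (CfsgLib.Sporadic.CosetCert.ONData.fast5, sh5), (CfsgLib.Sporadic.CosetCert.ONData.fast6, sh6), (CfsgLib.Sporadic.CosetCert.ONData.fast5, sh5), (CfsgLib.Sporadic.CosetCert.ONData.fast6, sh6), (CfsgLib.Sporadic.CosetCert.ONData.fast5, sh5)] 0 42000 6000 = true := by decide +kernel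
theorem shiftW16_8 : constK [(CfsgLib.Sporadic.CosetCert.ONData.fast6, sh6), (CfsgLib.Sporadic.CosetCert.ONData.fast5, sh5), (CfsgLib.Sporadic.CosetCert.ONData.fast6, sh6), (CfsgLib.Sporadic.CosetCert.ONData.fast5, sh5), (CfsgLib.Sporadic.CosetCert.ONData.fast6, sh6), (CfsgLib.Sporadic.CosetCert.ONData.fast5, sh5)] 0 48000 6000 = true := by decide +kernel
theorem shiftW16_9 : constK [(CfsgLib.Sporadic.CosetCert.ONData.fast6, sh6), (CfsgLib.Sporadic.CosetCert.ONData.fast5, sh5), (CfsgLib.Sporadic.CosetCert.ONData.fast6, sh6), (CfsgLib.Sporadic.CosetCert.ONData.fast5, sh5), (CfsgLib.Sporadic.CosetCert.ONData.fast6, sh6), (CfsgLib.Sporadic.CosetCert.ONData.fast5, sh5)] 0 54000 6000 = true := by decide +kernel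
theorem shiftW16_10 : constK [(CfsgLib.Sporadic.CosetCert.ONData.fast6, sh6), (CfsgLib.Sporadic.CosetCert.ONData.fast5, sh5), (CfsgLib.Sporadic.CosetCert.ONData.fast6, sh6), (CfsgLib.Sporadic.CosetCert.ONData.fast5, sh5), (CfsgLib.Sporadic.CosetCert.ONData.fast6, sh6), (CfsgLib.Sporadic.CosetCert.ONData.fast5, sh5)] 0 60000 6000 = true := by decide +kernel
theorem shiftW16_11 : constK [(CfsgLib.Sporadic.CosetCert.ONData.fast6, sh6), (CfsgLib.Sporadic.CosetCert.ONData.fast5, sh5), (CfsgLib.Sporadic.CosetCert.ONData.fast6, sh6), (CfsgLib.Sporadic.CosetCert.ONData.fast5, sh5), (CfsgLib.Sporadic.CosetCert.ONData.fast6, sh6), (CfsgLib.Sporadic.CosetCert.ONData.fast5, sh5)] 0 66000 6000 = true := by decide +kernel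
theorem shiftW16_12 : constK [(CfsgLib.Sporadic.CosetCert.ONData.fast6, sh6), (CfsgLib.Sporadic.CosetCert.ONData.fast5, sh5), (CfsgLib.Sporadic.CosetCert.ONData.fast6, sh6), (CfsgLib.Sporadic.CosetCert.ONData.fast5, sh5), (CfsgLib.Sporadic.CosetCert.ONData.fast6, sh6), (CfsgLib.Sporadic.CosetCert.ONData.fast5, sh5)] 0 72000 6000 = true := by decide +kernel
theorem shiftW16_13 : constK [(CfsgLib.Sporadic.CosetCert.ONData.fast6, sh6), (CfsgLib.Sporadic.CosetCert.ONData.fast5, sh5), (CfsgLib.Sporadic.CosetCert.ONData.fast6, sh6), (CfsgLib.Sporadic.CosetCert.ONData.fast5, sh5), (CfsgLib.Sporadic.CosetCert.ONData.fast6, sh6), (CfsgLib.Sporadic.CosetCert.ONData.fast5, sh5)] 0 78000 6000 = true := by decide +kernel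
theorem shiftW16_14 : constK [(CfsgLib.Sporadic.CosetCert.ONData.fast6, sh6), (CfsgLib.Sporadic.CosetCert.ONData.fast5, sh5), (CfsgLib.Sporadic.CosetCert.ONData.fast6, sh6), (CfsgLib.Sporadic.CosetCert.ONData.fast5, sh5), (CfsgLib.Sporadic.CosetCert.ONData.fast6, sh6), (CfsgLib.Sporadic.CosetCert.ONData.fast5, sh5)] 0 84000 6000 = true := by decide +kernel
theorem shiftW16_15 : constK [(CfsgLib.Sporadic.CosetCert.ONData.fast6, sh6), (CfsgLib.Sporadic.CosetCert.ONData.fast5, sh5), (CfsgLib.Sporadic.CosetCert.ONData.fast6, sh6), (CfsgLib.Sporadic.CosetCert.ONData.fast5, sh5), (CfsgLib.Sporadic.CosetCert.ONData.fast6, sh6), (CfsgLib.Sporadic.CosetCert.ONData.fast5, sh5)] 0 90000 6000 = true := by decide +kernel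
theorem shiftW16_16 : constK [(CfsgLib.Sporadic.CosetCert.ONData.fast6, sh6), (CfsgLib.Sporadic.CosetCert.ONData.fast5, sh5), (CfsgLib.Sporadic.CosetCert.ONData.fast6, sh6), (CfsgLib.Sporadic.CosetCert.ONData.fast5, sh5), (CfsgLib.Sporadic.CosetCert.ONData.fast6, sh6), (CfsgLib.Sporadic.CosetCert.ONData.fast5, sh5)] 0 96000 6000 = true := by decide +kernel
theorem shiftW16_17 : constK [(CfsgLib.Sporadic.CosetCert.ONData.fast6, sh6), (CfsgLib.Sporadic.CosetCert.ONData.fast5, sh5), (CfsgLib.Sporadic.CosetCert.ONData.fast6, sh6), (CfsgLib.Sporadic.CosetCert.ONData.fast5, sh5), (CfsgLib.Sporadic.CosetCert.ONData.fast6, sh6), (CfsgLib.Sporadic.CosetCert.ONData.fast5, sh5)] 0 102000 6000 = true := by decide +kernel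
theorem shiftW16_18 : constK [(CfsgLib.Sporadic.CosetCert.ONData.fast6, sh6), (CfsgLib.Sporadic.CosetCert.ONData.fast5, sh5), (CfsgLib.Sporadic.CosetCert.ONData.fast6, sh6), (CfsgLib.Sporadic.CosetCert.ONData.fast5, sh5), (CfsgLib.Sporadic.CosetCert.ONData.fast6, sh6), (CfsgLib.Sporadic.CosetCert.ONData.fast5, sh5)] 0 108000 6000 = true := by decide +kernel
theorem shiftW16_19 : constK [(CfsgLib.Sporadic.CosetCert.ONData.fast6, sh6), (CfsgLib.Sporadic.CosetCert.ONData.fast5, sh5), (CfsgLib.Sporadic.CosetCert.ONData.fast6, sh6), (CfsgLib.Sporadic.CosetCert.ONData.fast5, sh5), (CfsgLib.Sporadic.CosetCert.ONData.fast6, sh6), (CfsgLib.Sporadic.CosetCert.ONData.fast5, sh5)] 0 114000 6000 = true := by decide +kernel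
theorem shiftW16_20 : constK [(CfsgLib.Sporadic.CosetCert.ONData.fast6, sh6), (CfsgLib.Sporadic.CosetCert.ONData.fast5, sh5), (CfsgLib.Sporadic.CosetCert.ONData.fast6, sh6), (CfsgLib.Sporadic.CosetCert.ONData.fast5, sh5), (CfsgLib.Sporadic.CosetCert.ONData.fast6, sh6), (CfsgLib.Sporadic.CosetCert.ONData.fast5, sh5)] 0 120000 2760 = true := by decide +kernel

theorem shiftW16 : ∀ u < 122760, Nat.mod (runS [(CfsgLib.Sporadic.CosetCert.ONData.fast6, sh6), (CfsgLib.Sporadic.CosetCert.ONData.fast5, sh5), (CfsgLib.Sporadic.CosetCert.ONData.fast6, sh6), (CfsgLib.Sporadic.CosetCert.ONData.fast5, sh5), (CfsgLib.Sporadic.CosetCert.ONData.fast6, sh6), (CfsgLib.Sporadic.CosetCert.ONData.fast5, sh5)] u) 3 = 0 := fun u hu =>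
  (range_split (range_split (range_split (range_split (constK_spec shiftW16_0) (constK_spec shiftW16_1)) (range_split (constK_spec shiftW16_2) (range_split (constK_spec shiftW16_3) (constK_spec shiftW16_4)))) (range_split (range_split (constK_spec shiftW16_5) (constK_spec shiftW16_6)) (range_split (constK_spec shiftW16_7) (range_split (constK_spec shiftW16_8) (constK_spec shiftW16_9))))) (range_split (range_split (range_split (constK_spec shiftW16_10) (constK_spec shiftW16_11)) (range_split (constK_spec shiftW16_12) (range_split (constK_spec shiftW16_13) (constK_spec shiftW16_14)))) (range_split (range_split (constK_spec shiftW16_15) (range_split (constK_spec shiftW16_16) (constK_spec shiftW16_17))) (range_split (constK_spec shiftW16_18) (range_split (constK_spec shiftW16_19) (constK_spec shiftW16_20)))))) u (Nat.zero_le _) hu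

theorem shiftW20_0 : constK [(CfsgLib.Sporadic.CosetCert.ONData.fast7, sh7), (CfsgLib.Sporadic.CosetCert.ONData.fast7, sh7)] 0 0 6000 = true := by decide +kernel
theorem shiftW20_1 : constK [(CfsgLib.Sporadic.CosetCert.ONData.fast7, sh7), (CfsgLib.Sporadic.CosetCert.ONData.fast7, sh7)] 0 6000 6000 = true := by decide +kernel
theorem shiftW20_2 : constK [(CfsgLib.Sporadic.CosetCert.ONData.fast7, sh7), (CfsgLib.Sporadic.CosetCert.ONData.fast7, sh7)] 0 12000 6000 = true := by decide +kernel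
theorem shiftW20_3 : constK [(CfsgLib.Sporadic.CosetCert.ONData.fast7, sh7), (CfsgLib.Sporadic.CosetCert.ONData.fast7, sh7)] 0 18000 6000 = true := by decide +kernel
theorem shiftW20_4 : constK [(CfsgLib.Sporadic.CosetCert.ONData.fast7, sh7), (CfsgLib.Sporadic.CosetCert.ONData.fast7, sh7)] 0 24000 6000 = true := by decide +kernel
theorem shiftW20_5 : constK [(CfsgLib.Sporadic.CosetCert.ONData.fast7, sh7), (CfsgLib.Sporadic.CosetCert.ONData.fast7, sh7)] 0 30000 6000 = true := by decide +kernel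
theorem shiftW20_6 : constK [(CfsgLib.Sporadic.CosetCert.ONData.fast7, sh7), (CfsgLib.Sporadic.CosetCert.ONData.fast7, sh7)] 0 36000 6000 = true := by decide +kernel
theorem shiftW20_7 : constK [(CfsgLib.Sporadic.CosetCert.ONData.fast7, sh7), (CfsgLib.Sporadic.CosetCert.ONData.fast7, sh7)] 0 42000 6000 = true := by decide +kernel
theorem shiftW20_8 : constK [(CfsgLib.Sporadic.CosetCert.ONData.fast7, sh7), (CfsgLib.Sporadic.CosetCert.ONData.fast7, sh7)] 0 48000 6000 = true := by decide +kernel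
theorem shiftW20_9 : constK [(CfsgLib.Sporadic.CosetCert.ONData.fast7, sh7), (CfsgLib.Sporadic.CosetCert.ONData.fast7, sh7)] 0 54000 6000 = true := by decide +kernel
theorem shiftW20_10 : constK [(CfsgLib.Sporadic.CosetCert.ONData.fast7, sh7), (CfsgLib.Sporadic.CosetCert.ONData.fast7, sh7)] 0 60000 6000 = true := by decide +kernel
theorem shiftW20_11 : constK [(CfsgLib.Sporadic.CosetCert.ONData.fast7, sh7), (CfsgLib.Sporadic.CosetCert.ONData.fast7, sh7)] 0 66000 6000 = true := by decide +kernel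
theorem shiftW20_12 : constK [(CfsgLib.Sporadic.CosetCert.ONData.fast7, sh7), (CfsgLib.Sporadic.CosetCert.ONData.fast7, sh7)] 0 72000 6000 = true := by decide +kernel
theorem shiftW20_13 : constK [(CfsgLib.Sporadic.CosetCert.ONData.fast7, sh7), (CfsgLib.Sporadic.CosetCert.ONData.fast7, sh7)] 0 78000 6000 = true := by decide +kernel
theorem shiftW20_14 : constK [(CfsgLib.Sporadic.CosetCert.ONData.fast7, sh7), (CfsgLib.Sporadic.CosetCert.ONData.fast7, sh7)] 0 84000 6000 = true := by decide +kernel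
theorem shiftW20_15 : constK [(CfsgLib.Sporadic.CosetCert.ONData.fast7, sh7), (CfsgLib.Sporadic.CosetCert.ONData.fast7, sh7)] 0 90000 6000 = true := by decide +kernel
theorem shiftW20_16 : constK [(CfsgLib.Sporadic.CosetCert.ONData.fast7, sh7), (CfsgLib.Sporadic.CosetCert.ONData.fast7, sh7)] 0 96000 6000 = true := by decide +kernel
theorem shiftW20_17 : constK [(CfsgLib.Sporadic.CosetCert.ONData.fast7, sh7), (CfsgLib.Sporadic.CosetCert.ONData.fast7, sh7)] 0 102000 6000 = true := by decide +kernel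
theorem shiftW20_18 : constK [(CfsgLib.Sporadic.CosetCert.ONData.fast7, sh7), (CfsgLib.Sporadic.CosetCert.ONData.fast7, sh7)] 0 108000 6000 = true := by decide +kernel
theorem shiftW20_19 : constK [(CfsgLib.Sporadic.CosetCert.ONData.fast7, sh7), (CfsgLib.Sporadic.CosetCert.ONData.fast7, sh7)] 0 114000 6000 = true := by decide +kernel
theorem shiftW20_20 : constK [(CfsgLib.Sporadic.CosetCert.ONData.fast7, sh7), (CfsgLib.Sporadic.CosetCert.ONData.fast7, sh7)] 0 120000 2760 = true := by decide +kernel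

theorem shiftW20 : ∀ u < 122760, Nat.mod (runS [(CfsgLib.Sporadic.CosetCert.ONData.fast7, sh7), (CfsgLib.Sporadic.CosetCert.ONData.fast7, sh7)] u) 3 = 0 := fun u hu =>
  (range_split (range_split (range_split (range_split (constK_spec shiftW20_0) (constK_spec shiftW20_1)) (range_split (constK_spec shiftW20_2) (range_split (constK_spec shiftW20_3) (constK_spec shiftW20_4)))) (range_split (range_split (constK_spec shiftW20_5) (constK_spec shiftW20_6)) (range_split (constK_spec shiftW20_7) (range_split (constK_spec shiftW20_8) (constK_spec shiftW20_9))))) (range_split (range_split (range_split (constK_spec shiftW20_10) (constK_spec shiftW20_11)) (range_split (constK_spec shiftW20_12) (range_split (constK_spec shiftW20_13) (constK_spec shiftW20_14)))) (range_split (range_split (constK_spec shiftW20_15) (range_split (constK_spec shiftW20_16) (constK_spec shiftW20_17))) (range_split (constK_spec shiftW20_18) (range_split (constK_spec shiftW20_19) (constK_spec shiftW20_20))))))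 u (Nat.zero_le _) hu

theorem shiftW22_0 : constK [(CfsgLib.Sporadic.CosetCert.ONData.fast4, sh4), (CfsgLib.Sporadic.CosetCert.ONData.fast5, sh5), (CfsgLib.Sporadic.CosetCert.ONData.fast4, sh4), (CfsgLib.Sporadic.CosetCert.ONData.fast5, sh5), (CfsgLib.Sporadic.CosetCert.ONData.fast4, sh4), (CfsgLib.Sporadic.CosetCert.ONData.fast5, sh5), (CfsgLib.Sporadic.CosetCert.ONData.fast4, sh4), (CfsgLib.Sporadic.CosetCert.ONData.fast5, sh5), (CfsgLib.Sporadic.CosetCert.ONData.fast7, sh7), (CfsgLib.Sporadic.CosetCert.ONData.fast2, sh2)] 0 0 6000 = true := by decide +kernel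
theorem shiftW22_1 : constK [(CfsgLib.Sporadic.CosetCert.ONData.fast4, sh4), (CfsgLib.Sporadic.CosetCert.ONData.fast5, sh5), (CfsgLib.Sporadic.CosetCert.ONData.fast4, sh4), (CfsgLib.Sporadic.CosetCert.ONData.fast5, sh5), (CfsgLib.Sporadic.CosetCert.ONData.fast4, sh4), (CfsgLib.Sporadic.CosetCert.ONData.fast5, sh5), (CfsgLib.Sporadic.CosetCert.ONData.fast4, sh4), (CfsgLib.Sporadic.CosetCert.ONData.fast5, sh5), (CfsgLib.Sporadic.CosetCert.ONData.fast7, sh7), (CfsgLib.Sporadic.CosetCert.ONData.fast2, sh2)] 0 6000 6000 = true := by decide +kernel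
theorem shiftW22_2 : constK [(CfsgLib.Sporadic.CosetCert.ONData.fast4, sh4), (CfsgLib.Sporadic.CosetCert.ONData.fast5, sh5), (CfsgLib.Sporadic.CosetCert.ONData.fast4, sh4), (CfsgLib.Sporadic.CosetCert.ONData.fast5, sh5), (CfsgLib.Sporadic.CosetCert.ONData.fast4, sh4), (CfsgLib.Sporadic.CosetCert.ONData.fast5, sh5), (CfsgLib.Sporadic.CosetCert.ONData.fast4, sh4), (CfsgLib.Sporadic.CosetCert.ONData.fast5, sh5), (CfsgLib.Sporadic.CosetCert.ONData.fast7, sh7), (CfsgLib.Sporadic.CosetCert.ONData.fast2, sh2)] 0 12000 6000 = true := by decide +kernel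
theorem shiftW22_3 : constK [(CfsgLib.Sporadic.CosetCert.ONData.fast4, sh4), (CfsgLib.Sporadic.CosetCert.ONData.fast5, sh5), (CfsgLib.Sporadic.CosetCert.ONData.fast4, sh4), (CfsgLib.Sporadic.CosetCert.ONData.fast5, sh5), (CfsgLib.Sporadic.CosetCert.ONData.fast4, sh4), (CfsgLib.Sporadic.CosetCert.ONData.fast5, sh5), (CfsgLib.Sporadic.CosetCert.ONData.fast4, sh4), (CfsgLib.Sporadic.CosetCert.ONData.fast5, sh5), (CfsgLib.Sporadic.CosetCert.ONData.fast7, sh7), (CfsgLib.Sporadic.CosetCert.ONData.fast2, sh2)] 0 18000 6000 = true := by decide +kernel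
theorem shiftW22_4 : constK [(CfsgLib.Sporadic.CosetCert.ONData.fast4, sh4), (CfsgLib.Sporadic.CosetCert.ONData.fast5, sh5), (CfsgLib.Sporadic.CosetCert.ONData.fast4, sh4), (CfsgLib.Sporadic.CosetCert.ONData.fast5, sh5), (CfsgLib.Sporadic.CosetCert.ONData.fast4, sh4), (CfsgLib.Sporadic.CosetCert.ONData.fast5, sh5), (CfsgLib.Sporadic.CosetCert.ONData.fast4, sh4), (CfsgLib.Sporadic.CosetCert.ONData.fast5, sh5), (CfsgLib.Sporadic.CosetCert.ONData.fast7, sh7), (CfsgLib.Sporadic.CosetCert.ONData.fast2, sh2)] 0 24000 6000 = true := by decide +kernel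
theorem shiftW22_5 : constK [(CfsgLib.Sporadic.CosetCert.ONData.fast4, sh4), (CfsgLib.Sporadic.CosetCert.ONData.fast5, sh5), (CfsgLib.Sporadic.CosetCert.ONData.fast4, sh4), (CfsgLib.Sporadic.CosetCert.ONData.fast5, sh5), (CfsgLib.Sporadic.CosetCert.ONData.fast4, sh4), (CfsgLib.Sporadic.CosetCert.ONData.fast5, sh5), (CfsgLib.Sporadic.CosetCert.ONData.fast4, sh4), (CfsgLib.Sporadic.CosetCert.ONData.fast5, sh5), (CfsgLib.Sporadic.CosetCert.ONData.fast7, sh7), (CfsgLib.Sporadic.CosetCert.ONData.fast2, sh2)] 0 30000 6000 = true := by decide +kernel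
theorem shiftW22_6 : constK [(CfsgLib.Sporadic.CosetCert.ONData.fast4, sh4), (CfsgLib.Sporadic.CosetCert.ONData.fast5, sh5), (CfsgLib.Sporadic.CosetCert.ONData.fast4, sh4), (CfsgLib.Sporadic.CosetCert.ONData.fast5, sh5), (CfsgLib.Sporadic.CosetCert.ONData.fast4, sh4), (CfsgLib.Sporadic.CosetCert.ONData.fast5, sh5), (CfsgLib.Sporadic.CosetCert.ONData.fast4, sh4), (CfsgLib.Sporadic.CosetCert.ONData.fast5, sh5), (CfsgLib.Sporadic.CosetCert.ONData.fast7, sh7), (CfsgLib.Sporadic.CosetCert.ONData.fast2, sh2)] 0 36000 6000 = true := by decide +kernel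
theorem shiftW22_7 : constK [(CfsgLib.Sporadic.CosetCert.ONData.fast4, sh4), (CfsgLib.Sporadic.CosetCert.ONData.fast5, sh5), (CfsgLib.Sporadic.CosetCert.ONData.fast4, sh4), (CfsgLib.Sporadic.CosetCert.ONData.fast5, sh5), (CfsgLib.Sporadic.CosetCert.ONData.fast4, sh4), (CfsgLib.Sporadic.CosetCert.ONData.fast5, sh5), (CfsgLib.Sporadic.CosetCert.ONData.fast4, sh4), (CfsgLib.Sporadic.CosetCert.ONData.fast5, sh5), (CfsgLib.Sporadic.CosetCert.ONData.fast7, sh7), (CfsgLib.Sporadic.CosetCert.ONData.fast2, sh2)] 0 42000 6000 = true := by decide +kernel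
theorem shiftW22_8 : constK [(CfsgLib.Sporadic.CosetCert.ONData.fast4, sh4), (CfsgLib.Sporadic.CosetCert.ONData.fast5, sh5), (CfsgLib.Sporadic.CosetCert.ONData.fast4, sh4), (CfsgLib.Sporadic.CosetCert.ONData.fast5, sh5), (CfsgLib.Sporadic.CosetCert.ONData.fast4, sh4), (CfsgLib.Sporadic.CosetCert.ONData.fast5, sh5), (CfsgLib.Sporadic.CosetCert.ONData.fast4, sh4), (CfsgLib.Sporadic.CosetCert.ONData.fast5, sh5), (CfsgLib.Sporadic.CosetCert.ONData.fast7, sh7), (CfsgLib.Sporadic.CosetCert.ONData.fast2, sh2)] 0 48000 6000 = true := by decide +kernel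
theorem shiftW22_9 : constK [(CfsgLib.Sporadic.CosetCert.ONData.fast4, sh4), (CfsgLib.Sporadic.CosetCert.ONData.fast5, sh5), (CfsgLib.Sporadic.CosetCert.ONData.fast4, sh4), (CfsgLib.Sporadic.CosetCert.ONData.fast5, sh5), (CfsgLib.Sporadic.CosetCert.ONData.fast4, sh4), (CfsgLib.Sporadic.CosetCert.ONData.fast5, sh5), (CfsgLib.Sporadic.CosetCert.ONData.fast4, sh4), (CfsgLib.Sporadic.CosetCert.ONData.fast5, sh5), (CfsgLib.Sporadic.CosetCert.ONData.fast7, sh7), (CfsgLib.Sporadic.CosetCert.ONData.fast2, sh2)] 0 54000 6000 = true := by decide +kernel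
theorem shiftW22_10 : constK [(CfsgLib.Sporadic.CosetCert.ONData.fast4, sh4), (CfsgLib.Sporadic.CosetCert.ONData.fast5, sh5), (CfsgLib.Sporadic.CosetCert.ONData.fast4, sh4), (CfsgLib.Sporadic.CosetCert.ONData.fast5, sh5), (CfsgLib.Sporadic.CosetCert.ONData.fast4, sh4), (CfsgLib.Sporadic.CosetCert.ONData.fast5, sh5), (CfsgLib.Sporadic.CosetCert.ONData.fast4, sh4), (CfsgLib.Sporadic.CosetCert.ONData.fast5, sh5), (CfsgLib.Sporadic.CosetCert.ONData.fast7, sh7), (CfsgLib.Sporadic.CosetCert.ONData.fast2, sh2)] 0 60000 6000 = true := by decide +kernel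
theorem shiftW22_11 : constK [(CfsgLib.Sporadic.CosetCert.ONData.fast4, sh4), (CfsgLib.Sporadic.CosetCert.ONData.fast5, sh5), (CfsgLib.Sporadic.CosetCert.ONData.fast4, sh4), (CfsgLib.Sporadic.CosetCert.ONData.fast5, sh5), (CfsgLib.Sporadic.CosetCert.ONData.fast4, sh4), (CfsgLib.Sporadic.CosetCert.ONData.fast5, sh5), (CfsgLib.Sporadic.CosetCert.ONData.fast4, sh4), (CfsgLib.Sporadic.CosetCert.ONData.fast5, sh5), (CfsgLib.Sporadic.CosetCert.ONData.fast7, sh7), (CfsgLib.Sporadic.CosetCert.ONData.fast2, sh2)] 0 66000 6000 = true := by decide +kernel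
theorem shiftW22_12 : constK [(CfsgLib.Sporadic.CosetCert.ONData.fast4, sh4), (CfsgLib.Sporadic.CosetCert.ONData.fast5, sh5), (CfsgLib.Sporadic.CosetCert.ONData.fast4, sh4), (CfsgLib.Sporadic.CosetCert.ONData.fast5, sh5), (CfsgLib.Sporadic.CosetCert.ONData.fast4, sh4), (CfsgLib.Sporadic.CosetCert.ONData.fast5, sh5), (CfsgLib.Sporadic.CosetCert.ONData.fast4, sh4), (CfsgLib.Sporadic.CosetCert.ONData.fast5, sh5), (CfsgLib.Sporadic.CosetCert.ONData.fast7, sh7), (CfsgLib.Sporadic.CosetCert.ONData.fast2, sh2)] 0 72000 6000 = true := by decide +kernel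
theorem shiftW22_13 : constK [(CfsgLib.Sporadic.CosetCert.ONData.fast4, sh4), (CfsgLib.Sporadic.CosetCert.ONData.fast5, sh5), (CfsgLib.Sporadic.CosetCert.ONData.fast4, sh4), (CfsgLib.Sporadic.CosetCert.ONData.fast5, sh5), (CfsgLib.Sporadic.CosetCert.ONData.fast4, sh4), (CfsgLib.Sporadic.CosetCert.ONData.fast5, sh5), (CfsgLib.Sporadic.CosetCert.ONData.fast4, sh4), (CfsgLib.Sporadic.CosetCert.ONData.fast5, sh5), (CfsgLib.Sporadic.CosetCert.ONData.fast7, sh7), (CfsgLib.Sporadic.CosetCert.ONData.fast2, sh2)] 0 78000 6000 = true := by decide +kernel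
theorem shiftW22_14 : constK [(CfsgLib.Sporadic.CosetCert.ONData.fast4, sh4), (CfsgLib.Sporadic.CosetCert.ONData.fast5, sh5), (CfsgLib.Sporadic.CosetCert.ONData.fast4, sh4), (CfsgLib.Sporadic.CosetCert.ONData.fast5, sh5), (CfsgLib.Sporadic.CosetCert.ONData.fast4, sh4), (CfsgLib.Sporadic.CosetCert.ONData.fast5, sh5), (CfsgLib.Sporadic.CosetCert.ONData.fast4, sh4), (CfsgLib.Sporadic.CosetCert.ONData.fast5, sh5), (CfsgLib.Sporadic.CosetCert.ONData.fast7, sh7), (CfsgLib.Sporadic.CosetCert.ONData.fast2, sh2)] 0 84000 6000 = true := by decide +kernel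
theorem shiftW22_15 : constK [(CfsgLib.Sporadic.CosetCert.ONData.fast4, sh4), (CfsgLib.Sporadic.CosetCert.ONData.fast5, sh5), (CfsgLib.Sporadic.CosetCert.ONData.fast4, sh4), (CfsgLib.Sporadic.CosetCert.ONData.fast5, sh5), (CfsgLib.Sporadic.CosetCert.ONData.fast4, sh4), (CfsgLib.Sporadic.CosetCert.ONData.fast5, sh5), (CfsgLib.Sporadic.CosetCert.ONData.fast4, sh4), (CfsgLib.Sporadic.CosetCert.ONData.fast5, sh5), (CfsgLib.Sporadic.CosetCert.ONData.fast7, sh7), (CfsgLib.Sporadic.CosetCert.ONData.fast2, sh2)] 0 90000 6000 = true := by decide +kernel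
theorem shiftW22_16 : constK [(CfsgLib.Sporadic.CosetCert.ONData.fast4, sh4), (CfsgLib.Sporadic.CosetCert.ONData.fast5, sh5), (CfsgLib.Sporadic.CosetCert.ONData.fast4, sh4), (CfsgLib.Sporadic.CosetCert.ONData.fast5, sh5), (CfsgLib.Sporadic.CosetCert.ONData.fast4, sh4), (CfsgLib.Sporadic.CosetCert.ONData.fast5, sh5), (CfsgLib.Sporadic.CosetCert.ONData.fast4, sh4), (CfsgLib.Sporadic.CosetCert.ONData.fast5, sh5), (CfsgLib.Sporadic.CosetCert.ONData.fast7, sh7), (CfsgLib.Sporadic.CosetCert.ONData.fast2, sh2)] 0 96000 6000 = true := by decide +kernel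
theorem shiftW22_17 : constK [(CfsgLib.Sporadic.CosetCert.ONData.fast4, sh4), (CfsgLib.Sporadic.CosetCert.ONData.fast5, sh5), (CfsgLib.Sporadic.CosetCert.ONData.fast4, sh4), (CfsgLib.Sporadic.CosetCert.ONData.fast5, sh5), (CfsgLib.Sporadic.CosetCert.ONData.fast4, sh4), (CfsgLib.Sporadic.CosetCert.ONData.fast5, sh5), (CfsgLib.Sporadic.CosetCert.ONData.fast4, sh4), (CfsgLib.Sporadic.CosetCert.ONData.fast5, sh5), (CfsgLib.Sporadic.CosetCert.ONData.fast7, sh7), (CfsgLib.Sporadic.CosetCert.ONData.fast2, sh2)] 0 102000 6000 = true := by decide +kernel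
theorem shiftW22_18 : constK [(CfsgLib.Sporadic.CosetCert.ONData.fast4, sh4), (CfsgLib.Sporadic.CosetCert.ONData.fast5, sh5), (CfsgLib.Sporadic.CosetCert.ONData.fast4, sh4), (CfsgLib.Sporadic.CosetCert.ONData.fast5, sh5), (CfsgLib.Sporadic.CosetCert.ONData.fast4, sh4), (CfsgLib.Sporadic.CosetCert.ONData.fast5, sh5), (CfsgLib.Sporadic.CosetCert.ONData.fast4, sh4), (CfsgLib.Sporadic.CosetCert.ONData.fast5, sh5), (CfsgLib.Sporadic.CosetCert.ONData.fast7, sh7), (CfsgLib.Sporadic.CosetCert.ONData.fast2, sh2)] 0 108000 6000 = true := by decide +kernel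
theorem shiftW22_19 : constK [(CfsgLib.Sporadic.CosetCert.ONData.fast4, sh4), (CfsgLib.Sporadic.CosetCert.ONData.fast5, sh5), (CfsgLib.Sporadic.CosetCert.ONData.fast4, sh4), (CfsgLib.Sporadic.CosetCert.ONData.fast5, sh5), (CfsgLib.Sporadic.CosetCert.ONData.fast4, sh4), (CfsgLib.Sporadic.CosetCert.ONData.fast5, sh5), (CfsgLib.Sporadic.CosetCert.ONData.fast4, sh4), (CfsgLib.Sporadic.CosetCert.ONData.fast5, sh5), (CfsgLib.Sporadic.CosetCert.ONData.fast7, sh7), (CfsgLib.Sporadic.CosetCert.ONData.fast2, sh2)] 0 114000 6000 = true := by decide +kernel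
theorem shiftW22_20 : constK [(CfsgLib.Sporadic.CosetCert.ONData.fast4, sh4), (CfsgLib.Sporadic.CosetCert.ONData.fast5, sh5), (CfsgLib.Sporadic.CosetCert.ONData.fast4, sh4), (CfsgLib.Sporadic.CosetCert.ONData.fast5, sh5), (CfsgLib.Sporadic.CosetCert.ONData.fast4, sh4), (CfsgLib.Sporadic.CosetCert.ONData.fast5, sh5), (CfsgLib.Sporadic.CosetCert.ONData.fast4, sh4), (CfsgLib.Sporadic.CosetCert.ONData.fast5, sh5), (CfsgLib.Sporadic.CosetCert.ONData.fast7, sh7), (CfsgLib.Sporadic.CosetCert.ONData.fast2, sh2)] 0 120000 2760 = true := by decide +kernel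

theorem shiftW22 : ∀ u < 122760, Nat.mod (runS [(CfsgLib.Sporadic.CosetCert.ONData.fast4, sh4), (CfsgLib.Sporadic.CosetCert.ONData.fast5, sh5), (CfsgLib.Sporadic.CosetCert.ONData.fast4, sh4), (CfsgLib.Sporadic.CosetCert.ONData.fast5, sh5), (CfsgLib.Sporadic.CosetCert.ONData.fast4, sh4), (CfsgLib.Sporadic.CosetCert.ONData.fast5, sh5), (CfsgLib.Sporadic.CosetCert.ONData.fast4, sh4), (CfsgLib.Sporadic.CosetCert.ONData.fast5, sh5), (CfsgLib.Sporadic.CosetCert.ONData.fast7, sh7), (CfsgLib.Sporadic.CosetCert.ONData.fast2, sh2)] u) 3 = 0 := fun u hu =>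
  (range_split (range_split (range_split (range_split (constK_spec shiftW22_0) (constK_spec shiftW22_1)) (range_split (constK_spec shiftW22_2) (range_split (constK_spec shiftW22_3) (constK_spec shiftW22_4)))) (range_split (range_split (constK_spec shiftW22_5) (constK_spec shiftW22_6)) (range_split (constK_spec shiftW22_7) (range_split (constK_spec shiftW22_8) (constK_spec shiftW22_9))))) (range_split (range_split (range_split (constK_spec shiftW22_10) (constK_spec shiftW22_11)) (range_split (constK_spec shiftW22_12) (range_split (constK_spec shiftW22_13) (constK_spec shiftW22_14)))) (range_split (range_split (constK_spec shiftW22_15) (range_split (constK_spec shiftW22_16) (constK_spec shiftW22_17))) (range_split (constK_spec shiftW22_18) (range_split (constK_spec shiftW22_19) (constK_spec shiftW22_20)))))) u (Nat.zero_le _) hu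

end CfsgLib.Schur.Sporadic.ON
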