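import Cfsg.Agent.Lib.Schur.ON.Shift

/-!
Kernel checks of the triple cover of the O'Nan group: the lifted relators shift all sheets alike.
-/

set_option autoImplicit false
set_option maxRecDepth 100000
set_option maxHeartbeats 0
set_option Elab.async false

namespace CfsgLib.Schur.Sporadic.ON

open CfsgLib.Sporadic.CosetCert (range_split)

theorem shiftW17_0 : constK [(CfsgLib.Sporadic.CosetCert.ONData.fast7, sh7), (CfsgLib.Sporadic.CosetCert.ONData.fast5, sh5), (CfsgLib.Sporadic.CosetCert.ONData.fast7, sh7), (CfsgLib.Sporadic.CosetCert.ONData.fast5, sh5)] 0 0 6000 = true := by decide +kernel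
theorem shiftW17_1 : constK [(CfsgLib.Sporadic.CosetCert.ONData.fast7, sh7), (CfsgLib.Sporadic.CosetCert.ONData.fast5, sh5), (CfsgLib.Sporadic.CosetCert.ONData.fast7, sh7), (CfsgLib.Sporadic.CosetCert.ONData.fast5, sh5)] 0 6000 6000 = true := by decide +kernel
theorem shiftW17_2 : constK [(CfsgLib.Sporadic.CosetCert.ONData.fast7, sh7), (CfsgLib.Sporadic.CosetCert.ONData.fast5, sh5), (CfsgLib.Sporadic.CosetCert.ONData.fast7, sh7), (CfsgLib.Sporadic.CosetCert.ONData.fast5, sh5)] 0 12000 6000 = true := by decide +kernel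
theorem shiftW17_3 : constK [(CfsgLib.Sporadic.CosetCert.ONData.fast7, sh7), (CfsgLib.Sporadic.CosetCert.ONData.fast5, sh5), (CfsgLib.Sporadic.CosetCert.ONData.fast7, sh7), (CfsgLib.Sporadic.CosetCert.ONData.fast5, sh5)] 0 18000 6000 = true := by decide +kernel
theorem shiftW17_4 : constK [(CfsgLib.Sporadic.CosetCert.ONData.fast7, sh7), (CfsgLib.Sporadic.CosetCert.ONData.fast5, sh5), (CfsgLib.Sporadic.CosetCert.ONData.fast7, sh7), (CfsgLib.Sporadic.CosetCert.ONData.fast5, sh5)] 0 24000 6000 = true := by decide +kernel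
theorem shiftW17_5 : constK [(CfsgLib.Sporadic.CosetCert.ONData.fast7, sh7), (CfsgLib.Sporadic.CosetCert.ONData.fast5, sh5), (CfsgLib.Sporadic.CosetCert.ONData.fast7, sh7), (CfsgLib.Sporadic.CosetCert.ONData.fast5, sh5)] 0 30000 6000 = true := by decide +kernel
theorem shiftW17_6 : constK [(CfsgLib.Sporadic.CosetCert.ONData.fast7, sh7), (CfsgLib.Sporadic.CosetCert.ONData.fast5, sh5), (CfsgLib.Sporadic.CosetCert.ONData.fast7, sh7), (CfsgLib.Sporadic.CosetCert.ONData.fast5, sh5)] 0 36000 6000 = true := by decide +kernel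
theorem shiftW17_7 : constK [(CfsgLib.Sporadic.CosetCert.ONData.fast7, sh7), (CfsgLib.Sporadic.CosetCert.ONData.fast5, sh5), (CfsgLib.Sporadic.CosetCert.ONData.fast7, sh7), (CfsgLib.Sporadic.CosetCert.ONData.fast5, sh5)] 0 42000 6000 = true := by decide +kernel
theorem shiftW17_8 : constK [(CfsgLib.Sporadic.CosetCert.ONData.fast7, sh7), (CfsgLib.Sporadic.CosetCert.ONData.fast5, sh5), (CfsgLib.Sporadic.CosetCert.ONData.fast7, sh7), (CfsgLib.Sporadic.CosetCert.ONData.fast5, sh5)] 0 48000 6000 = true := by decide +kernel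
theorem shiftW17_9 : constK [(CfsgLib.Sporadic.CosetCert.ONData.fast7, sh7), (CfsgLib.Sporadic.CosetCert.ONData.fast5, sh5), (CfsgLib.Sporadic.CosetCert.ONData.fast7, sh7), (CfsgLib.Sporadic.CosetCert.ONData.fast5, sh5)] 0 54000 6000 = true := by decide +kernel
theorem shiftW17_10 : constK [(CfsgLib.Sporadic.CosetCert.ONData.fast7, sh7), (CfsgLib.Sporadic.CosetCert.ONData.fast5, sh5), (CfsgLib.Sporadic.CosetCert.ONData.fast7, sh7), (CfsgLib.Sporadic.CosetCert.ONData.fast5, sh5)] 0 60000 6000 = true := by decide +kernel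
theorem shiftW17_11 : constK [(CfsgLib.Sporadic.CosetCert.ONData.fast7, sh7), (CfsgLib.Sporadic.CosetCert.ONData.fast5, sh5), (CfsgLib.Sporadic.CosetCert.ONData.fast7, sh7), (CfsgLib.Sporadic.CosetCert.ONData.fast5, sh5)] 0 66000 6000 = true := by decide +kernel
theorem shiftW17_12 : constK [(CfsgLib.Sporadic.CosetCert.ONData.fast7, sh7), (CfsgLib.Sporadic.CosetCert.ONData.fast5, sh5), (CfsgLib.Sporadic.CosetCert.ONData.fast7, sh7), (CfsgLib.Sporadic.CosetCert.ONData.fast5, sh5)] 0 72000 6000 = true := by decide +kernel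
theorem shiftW17_13 : constK [(CfsgLib.Sporadic.CosetCert.ONData.fast7, sh7), (CfsgLib.Sporadic.CosetCert.ONData.fast5, sh5), (CfsgLib.Sporadic.CosetCert.ONData.fast7, sh7), (CfsgLib.Sporadic.CosetCert.ONData.fast5, sh5)] 0 78000 6000 = true := by decide +kernel
theorem shiftW17_14 : constK [(CfsgLib.Sporadic.CosetCert.ONData.fast7, sh7), (CfsgLib.Sporadic.CosetCert.ONData.fast5, sh5), (CfsgLib.Sporadic.CosetCert.ONData.fast7, sh7), (CfsgLib.Sporadic.CosetCert.ONData.fast5, sh5)] 0 84000 6000 = true := by decide +kernel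
theorem shiftW17_15 : constK [(CfsgLib.Sporadic.CosetCert.ONData.fast7, sh7), (CfsgLib.Sporadic.CosetCert.ONData.fast5, sh5), (CfsgLib.Sporadic.CosetCert.ONData.fast7, sh7), (CfsgLib.Sporadic.CosetCert.ONData.fast5, sh5)] 0 90000 6000 = true := by decide +kernel
theorem shiftW17_16 : constK [(CfsgLib.Sporadic.CosetCert.ONData.fast7, sh7), (CfsgLib.Sporadic.CosetCert.ONData.fast5, sh5), (CfsgLib.Sporadic.CosetCert.ONData.fast7, sh7), (CfsgLib.Sporadic.CosetCert.ONData.fast5, sh5)] 0 96000 6000 = true := by decide +kernel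
theorem shiftW17_17 : constK [(CfsgLib.Sporadic.CosetCert.ONData.fast7, sh7), (CfsgLib.Sporadic.CosetCert.ONData.fast5, sh5), (CfsgLib.Sporadic.CosetCert.ONData.fast7, sh7), (CfsgLib.Sporadic.CosetCert.ONData.fast5, sh5)] 0 102000 6000 = true := by decide +kernel
theorem shiftW17_18 : constK [(CfsgLib.Sporadic.CosetCert.ONData.fast7, sh7), (CfsgLib.Sporadic.CosetCert.ONData.fast5, sh5), (CfsgLib.Sporadic.CosetCert.ONData.fast7, sh7), (CfsgLib.Sporadic.CosetCert.ONData.fast5, sh5)] 0 108000 6000 = true := by decide +kernel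
theorem shiftW17_19 : constK [(CfsgLib.Sporadic.CosetCert.ONData.fast7, sh7), (CfsgLib.Sporadic.CosetCert.ONData.fast5, sh5), (CfsgLib.Sporadic.CosetCert.ONData.fast7, sh7), (CfsgLib.Sporadic.CosetCert.ONData.fast5, sh5)] 0 114000 6000 = true := by decide +kernel
theorem shiftW17_20 : constK [(CfsgLib.Sporadic.CosetCert.ONData.fast7, sh7), (CfsgLib.Sporadic.CosetCert.ONData.fast5, sh5), (CfsgLib.Sporadic.CosetCert.ONData.fast7, sh7), (CfsgLib.Sporadic.CosetCert.ONData.fast5, sh5)] 0 120000 2760 = true := by decide +kernel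

theorem shiftW17 : ∀ u < 122760, Nat.mod (runS [(CfsgLib.Sporadic.CosetCert.ONData.fast7, sh7), (CfsgLib.Sporadic.CosetCert.ONData.fast5, sh5), (CfsgLib.Sporadic.CosetCert.ONData.fast7, sh7), (CfsgLib.Sporadic.CosetCert.ONData.fast5, sh5)] u) 3 = 0 := fun u hu =>
  (range_split (range_split (range_split (range_split (constK_spec shiftW17_0) (constK_spec shiftW17_1)) (range_split (constK_spec shiftW17_2) (range_split (constK_spec shiftW17_3) (constK_spec shiftW17_4)))) (range_split (range_split (constK_spec shiftW17_5) (constK_spec shiftW17_6)) (range_split (constK_spec shiftW17_7) (range_split (constK_spec shiftW17_8) (constK_spec shiftW17_9))))) (range_split (range_split (range_split (constK_spec shiftW17_10) (constK_spec shiftW17_11)) (range_split (constK_spec shiftW17_12) (range_split (constK_spec shiftW17_13) (constK_spec shiftW17_14)))) (range_split (range_split (constK_spec shiftW17_15) (range_split (constK_spec shiftW17_16) (constK_spec shiftW17_17)))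 (range_split (constK_spec shiftW17_18) (range_split (constK_spec shiftW17_19) (constK_spec shiftW17_20)))))) u (Nat.zero_le _) hu

theorem shiftW19_0 : constK [(CfsgLib.Sporadic.CosetCert.ONData.fast7, sh7), (CfsgLib.Sporadic.CosetCert.ONData.fast6, sh6), (CfsgLib.Sporadic.CosetCert.ONData.fast7, sh7), (CfsgLib.Sporadic.CosetCert.ONData.fast6, sh6), (CfsgLib.Sporadic.CosetCert.ONData.fast7, sh7), (CfsgLib.Sporadic.CosetCert.ONData.fast6, sh6)] 0 0 6000 = true := by decide +kernel
theorem shiftW19_1 : constK [(CfsgLib.Sporadic.CosetCert.ONData.fast7, sh7), (CfsgLib.Sporadic.CosetCert.ONData.fast6, sh6), (CfsgLib.Sporadic.CosetCert.ONData.fast7, sh7), (CfsgLib.Sporadic.CosetCert.ONData.fast6, sh6), (CfsgLib.Sporadic.CosetCert.ONData.fast7, sh7), (CfsgLib.Sporadic.CosetCert.ONData.fast6, sh6)] 0 6000 6000 = true := by decide +kernel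
theorem shiftW19_2 : constK [(CfsgLib.Sporadic.CosetCert.ONData.fast7, sh7), (CfsgLib.Sporadic.CosetCert.ONData.fast6, sh6), (CfsgLib.Sporadic.CosetCert.ONData.fast7, sh7), (CfsgLib.Sporadic.CosetCert.ONData.fast6, sh6), (CfsgLib.Sporadic.CosetCert.ONData.fast7, sh7), (CfsgLib.Sporadic.CosetCert.ONData.fast6, sh6)] 0 12000 6000 = true := by decide +kernel
theorem shiftW19_3 : constK [(CfsgLib.Sporadic.CosetCert.ONData.fast7, sh7), (CfsgLib.Sporadic.CosetCert.ONData.fast6, sh6), (CfsgLib.Sporadic.CosetCert.ONData.fast7, sh7), (CfsgLib.Sporadic.CosetCert.ONData.fast6, sh6), (CfsgLib.Sporadic.CosetCert.ONData.fast7, sh7), (CfsgLib.Sporadic.CosetCert.ONData.fast6, sh6)] 0 18000 6000 = true := by decide +kernel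
theorem shiftW19_4 : constK [(CfsgLib.Sporadic.CosetCert.ONData.fast7, sh7), (CfsgLib.Sporadic.CosetCert.ONData.fast6, sh6), (CfsgLib.Sporadic.CosetCert.ONData.fast7, sh7), (CfsgLib.Sporadic.CosetCert.ONData.fast6, sh6), (CfsgLib.Sporadic.CosetCert.ONData.fast7, sh7), (CfsgLib.Sporadic.CosetCert.ONData.fast6, sh6)] 0 24000 6000 = true := by decide +kernel
theorem shiftW19_5 : constK [(CfsgLib.Sporadic.CosetCert.ONData.fast7, sh7), (CfsgLib.Sporadic.CosetCert.ONData.fast6, sh6), (CfsgLib.Sporadic.CosetCert.ONData.fast7, sh7), (CfsgLib.Sporadic.CosetCert.ONData.fast6, sh6), (CfsgLib.Sporadic.CosetCert.ONData.fast7, sh7), (CfsgLib.Sporadic.CosetCert.ONData.fast6, sh6)] 0 30000 6000 = true := by decide +kernel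
theorem shiftW19_6 : constK [(CfsgLib.Sporadic.CosetCert.ONData.fast7, sh7), (CfsgLib.Sporadic.CosetCert.ONData.fast6, sh6), (CfsgLib.Sporadic.CosetCert.ONData.fast7, sh7), (CfsgLib.Sporadic.CosetCert.ONData.fast6, sh6), (CfsgLib.Sporadic.CosetCert.ONData.fast7, sh7), (CfsgLib.Sporadic.CosetCert.ONData.fast6, sh6)] 0 36000 6000 = true := by decide +kernel
theorem shiftW19_7 : constK [(CfsgLib.Sporadic.CosetCert.ONData.fast7, sh7), (CfsgLib.Sporadic.CosetCert.ONData.fast6, sh6), (CfsgLib.Sporadic.CosetCert.ONData.fast7, sh7), (CfsgLib.Sporadic.CosetCert.ONData.fast6, sh6), (CfsgLib.Sporadic.CosetCert.ONData.fast7, sh7), (CfsgLib.Sporadic.CosetCert.ONData.fast6, sh6)] 0 42000 6000 = true := by decide +kernel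
theorem shiftW19_8 : constK [(CfsgLib.Sporadic.CosetCert.ONData.fast7, sh7), (CfsgLib.Sporadic.CosetCert.ONData.fast6, sh6), (CfsgLib.Sporadic.CosetCert.ONData.fast7, sh7), (CfsgLib.Sporadic.CosetCert.ONData.fast6, sh6), (CfsgLib.Sporadic.CosetCert.ONData.fast7, sh7), (CfsgLib.Sporadic.CosetCert.ONData.fast6, sh6)] 0 48000 6000 = true := by decide +kernel
theorem shiftW19_9 : constK [(CfsgLib.Sporadic.CosetCert.ONData.fast7, sh7), (CfsgLib.Sporadic.CosetCert.ONData.fast6, sh6), (CfsgLib.Sporadic.CosetCert.ONData.fast7, sh7), (CfsgLib.Sporadic.CosetCert.ONData.fast6, sh6), (CfsgLib.Sporadic.CosetCert.ONData.fast7, sh7), (CfsgLib.Sporadic.CosetCert.ONData.fast6, sh6)] 0 54000 6000 = true := by decide +kernel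
theorem shiftW19_10 : constK [(CfsgLib.Sporadic.CosetCert.ONData.fast7, sh7), (CfsgLib.Sporadic.CosetCert.ONData.fast6, sh6), (CfsgLib.Sporadic.CosetCert.ONData.fast7, sh7), (CfsgLib.Sporadic.CosetCert.ONData.fast6, sh6), (CfsgLib.Sporadic.CosetCert.ONData.fast7, sh7), (CfsgLib.Sporadic.CosetCert.ONData.fast6, sh6)] 0 60000 6000 = true := by decide +kernel
theorem shiftW19_11 : constK [(CfsgLib.Sporadic.CosetCert.ONData.fast7, sh7), (CfsgLib.Sporadic.CosetCert.ONData.fast6, sh6), (CfsgLib.Sporadic.CosetCert.ONData.fast7, sh7), (CfsgLib.Sporadic.CosetCert.ONData.fast6, sh6), (CfsgLib.Sporadic.CosetCert.ONData.fast7, sh7), (CfsgLib.Sporadic.CosetCert.ONData.fast6, sh6)] 0 66000 6000 = true := by decide +kernel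
theorem shiftW19_12 : constK [(CfsgLib.Sporadic.CosetCert.ONData.fast7, sh7), (CfsgLib.Sporadic.CosetCert.ONData.fast6, sh6), (CfsgLib.Sporadic.CosetCert.ONData.fast7, sh7), (CfsgLib.Sporadic.CosetCert.ONData.fast6, sh6), (CfsgLib.Sporadic.CosetCert.ONData.fast7, sh7), (CfsgLib.Sporadic.CosetCert.ONData.fast6, sh6)] 0 72000 6000 = true := by decide +kernel
theorem shiftW19_13 : constK [(CfsgLib.Sporadic.CosetCert.ONData.fast7, sh7), (CfsgLib.Sporadic.CosetCert.ONData.fast6, sh6), (CfsgLib.Sporadic.CosetCert.ONData.fast7, sh7), (CfsgLib.Sporadic.CosetCert.ONData.fast6, sh6), (CfsgLib.Sporadic.CosetCert.ONData.fast7, sh7), (CfsgLib.Sporadic.CosetCert.ONData.fast6, sh6)] 0 78000 6000 = true := by decide +kernel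
theorem shiftW19_14 : constK [(CfsgLib.Sporadic.CosetCert.ONData.fast7, sh7), (CfsgLib.Sporadic.CosetCert.ONData.fast6, sh6), (CfsgLib.Sporadic.CosetCert.ONData.fast7, sh7), (CfsgLib.Sporadic.CosetCert.ONData.fast6, sh6), (CfsgLib.Sporadic.CosetCert.ONData.fast7, sh7), (CfsgLib.Sporadic.CosetCert.ONData.fast6, sh6)] 0 84000 6000 = true := by decide +kernel
theorem shiftW19_15 : constK [(CfsgLib.Sporadic.CosetCert.ONData.fast7, sh7), (CfsgLib.Sporadic.CosetCert.ONData.fast6, sh6), (CfsgLib.Sporadic.CosetCert.ONData.fast7, sh7), (CfsgLib.Sporadic.CosetCert.ONData.fast6, sh6), (CfsgLib.Sporadic.CosetCert.ONData.fast7, sh7), (CfsgLib.Sporadic.CosetCert.ONData.fast6, sh6)] 0 90000 6000 = true := by decide +kernel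
theorem shiftW19_16 : constK [(CfsgLib.Sporadic.CosetCert.ONData.fast7, sh7), (CfsgLib.Sporadic.CosetCert.ONData.fast6, sh6), (CfsgLib.Sporadic.CosetCert.ONData.fast7, sh7), (CfsgLib.Sporadic.CosetCert.ONData.fast6, sh6), (CfsgLib.Sporadic.CosetCert.ONData.fast7, sh7), (CfsgLib.Sporadic.CosetCert.ONData.fast6, sh6)] 0 96000 6000 = true := by decide +kernel
theorem shiftW19_17 : constK [(CfsgLib.Sporadic.CosetCert.ONData.fast7, sh7), (CfsgLib.Sporadic.CosetCert.ONData.fast6, sh6), (CfsgLib.Sporadic.CosetCert.ONData.fast7, sh7), (CfsgLib.Sporadic.CosetCert.ONData.fast6, sh6), (CfsgLib.Sporadic.CosetCert.ONData.fast7, sh7), (CfsgLib.Sporadic.CosetCert.ONData.fast6, sh6)] 0 102000 6000 = true := by decide +kernel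
theorem shiftW19_18 : constK [(CfsgLib.Sporadic.CosetCert.ONData.fast7, sh7), (CfsgLib.Sporadic.CosetCert.ONData.fast6, sh6), (CfsgLib.Sporadic.CosetCert.ONData.fast7, sh7), (CfsgLib.Sporadic.CosetCert.ONData.fast6, sh6), (CfsgLib.Sporadic.CosetCert.ONData.fast7, sh7), (CfsgLib.Sporadic.CosetCert.ONData.fast6, sh6)] 0 108000 6000 = true := by decide +kernel
theorem shiftW19_19 : constK [(CfsgLib.Sporadic.CosetCert.ONData.fast7, sh7), (CfsgLib.Sporadic.CosetCert.ONData.fast6, sh6), (CfsgLib.Sporadic.CosetCert.ONData.fast7, sh7), (CfsgLib.Sporadic.CosetCert.ONData.fast6, sh6), (CfsgLib.Sporadic.CosetCert.ONData.fast7, sh7), (CfsgLib.Sporadic.CosetCert.ONData.fast6, sh6)] 0 114000 6000 = true := by decide +kernel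
theorem shiftW19_20 : constK [(CfsgLib.Sporadic.CosetCert.ONData.fast7, sh7), (CfsgLib.Sporadic.CosetCert.ONData.fast6, sh6), (CfsgLib.Sporadic.CosetCert.ONData.fast7, sh7), (CfsgLib.Sporadic.CosetCert.ONData.fast6, sh6), (CfsgLib.Sporadic.CosetCert.ONData.fast7, sh7), (CfsgLib.Sporadic.CosetCert.ONData.fast6, sh6)] 0 120000 2760 = true := by decide +kernel

theorem shiftW19 : ∀ u < 122760, Nat.mod (runS [(CfsgLib.Sporadic.CosetCert.ONData.fast7, sh7), (CfsgLib.Sporadic.CosetCert.ONData.fast6, sh6), (CfsgLib.Sporadic.CosetCert.ONData.fast7, sh7), (CfsgLib.Sporadic.CosetCert.ONData.fast6, sh6), (CfsgLib.Sporadic.CosetCert.ONData.fast7, sh7), (CfsgLib.Sporadic.CosetCert.ONData.fast6, sh6)] u) 3 = 0 := fun u hu =>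
  (range_split (range_split (range_split (range_split (constK_spec shiftW19_0) (constK_spec shiftW19_1)) (range_split (constK_spec shiftW19_2) (range_split (constK_spec shiftW19_3) (constK_spec shiftW19_4)))) (range_split (range_split (constK_spec shiftW19_5) (constK_spec shiftW19_6)) (range_split (constK_spec shiftW19_7) (range_split (constK_spec shiftW19_8) (constK_spec shiftW19_9))))) (range_split (range_split (range_split (constK_spec shiftW19_10) (constK_spec shiftW19_11)) (range_split (constK_spec shiftW19_12) (range_split (constK_spec shiftW19_13) (constK_spec shiftW19_14)))) (range_split (range_split (constK_spec shiftW19_15) (range_split (constK_spec shiftW19_16) (constK_spec shiftW19_17))) (range_split (constK_spec shiftW19_18) (range_split (constK_spec shiftW19_19) (constK_spec shiftW19_20)))))) u (Nat.zero_le _) hu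

theorem shiftW23_0 : constK [(CfsgLib.Sporadic.CosetCert.ONData.fast0, sh0), (CfsgLib.Sporadic.CosetCert.ONData.fast5, sh5), (CfsgLib.Sporadic.CosetCert.ONData.fast0, sh0), (CfsgLib.Sporadic.CosetCert.ONData.fast5, sh5), (CfsgLib.Sporadic.CosetCert.ONData.fast4, sh4), (CfsgLib.Sporadic.CosetCert.ONData.fast5, sh5), (CfsgLib.Sporadic.CosetCert.ONData.fast1, sh1), (CfsgLib.Sporadic.CosetCert.ONData.fast5, sh5), (CfsgLib.Sporadic.CosetCert.ONData.fast1, sh1), (CfsgLib.Sporadic.CosetCert.ONData.fast4, sh4)] 0 0 6000 = true := by decide +kernel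
theorem shiftW23_1 : constK [(CfsgLib.Sporadic.CosetCert.ONData.fast0, sh0), (CfsgLib.Sporadic.CosetCert.ONData.fast5, sh5), (CfsgLib.Sporadic.CosetCert.ONData.fast0, sh0), (CfsgLib.Sporadic.CosetCert.ONData.fast5, sh5), (CfsgLib.Sporadic.CosetCert.ONData.fast4, sh4), (CfsgLib.Sporadic.CosetCert.ONData.fast5, sh5), (CfsgLib.Sporadic.CosetCert.ONData.fast1, sh1), (CfsgLib.Sporadic.CosetCert.ONData.fast5, sh5), (CfsgLib.Sporadic.CosetCert.ONData.fast1, sh1), (CfsgLib.Sporadic.CosetCert.ONData.fast4, sh4)] 0 6000 6000 = true := by decide +kernel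
theorem shiftW23_2 : constK [(CfsgLib.Sporadic.CosetCert.ONData.fast0, sh0), (CfsgLib.Sporadic.CosetCert.ONData.fast5, sh5), (CfsgLib.Sporadic.CosetCert.ONData.fast0, sh0), (CfsgLib.Sporadic.CosetCert.ONData.fast5, sh5), (CfsgLib.Sporadic.CosetCert.ONData.fast4, sh4), (CfsgLib.Sporadic.CosetCert.ONData.fast5, sh5), (CfsgLib.Sporadic.CosetCert.ONData.fast1, sh1), (CfsgLib.Sporadic.CosetCert.ONData.fast5, sh5), (CfsgLib.Sporadic.CosetCert.ONData.fast1, sh1), (CfsgLib.Sporadic.CosetCert.ONData.fast4, sh4)] 0 12000 6000 = true := by decide +kernel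
theorem shiftW23_3 : constK [(CfsgLib.Sporadic.CosetCert.ONData.fast0, sh0), (CfsgLib.Sporadic.CosetCert.ONData.fast5, sh5), (CfsgLib.Sporadic.CosetCert.ONData.fast0, sh0), (CfsgLib.Sporadic.CosetCert.ONData.fast5, sh5), (CfsgLib.Sporadic.CosetCert.ONData.fast4, sh4), (CfsgLib.Sporadic.CosetCert.ONData.fast5, sh5), (CfsgLib.Sporadic.CosetCert.ONData.fast1, sh1), (CfsgLib.Sporadic.CosetCert.ONData.fast5, sh5), (CfsgLib.Sporadic.CosetCert.ONData.fast1, sh1), (CfsgLib.Sporadic.CosetCert.ONData.fast4, sh4)] 0 18000 6000 = true := by decide +kernel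
theorem shiftW23_4 : constK [(CfsgLib.Sporadic.CosetCert.ONData.fast0, sh0), (CfsgLib.Sporadic.CosetCert.ONData.fast5, sh5), (CfsgLib.Sporadic.CosetCert.ONData.fast0, sh0), (CfsgLib.Sporadic.CosetCert.ONData.fast5, sh5), (CfsgLib.Sporadic.CosetCert.ONData.fast4, sh4), (CfsgLib.Sporadic.CosetCert.ONData.fast5, sh5), (CfsgLib.Sporadic.CosetCert.ONData.fast1, sh1), (CfsgLib.Sporadic.CosetCert.ONData.fast5, sh5), (CfsgLib.Sporadic.CosetCert.ONData.fast1, sh1), (CfsgLib.Sporadic.CosetCert.ONData.fast4, sh4)] 0 24000 6000 = true := by decide +kernel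
theorem shiftW23_5 : constK [(CfsgLib.Sporadic.CosetCert.ONData.fast0, sh0), (CfsgLib.Sporadic.CosetCert.ONData.fast5, sh5), (CfsgLib.Sporadic.CosetCert.ONData.fast0, sh0), (CfsgLib.Sporadic.CosetCert.ONData.fast5, sh5), (CfsgLib.Sporadic.CosetCert.ONData.fast4, sh4), (CfsgLib.Sporadic.CosetCert.ONData.fast5, sh5), (CfsgLib.Sporadic.CosetCert.ONData.fast1, sh1), (CfsgLib.Sporadic.CosetCert.ONData.fast5, sh5), (CfsgLib.Sporadic.CosetCert.ONData.fast1, sh1), (CfsgLib.Sporadic.CosetCert.ONData.fast4, sh4)] 0 30000 6000 = true := by decide +kernel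
theorem shiftW23_6 : constK [(CfsgLib.Sporadic.CosetCert.ONData.fast0, sh0), (CfsgLib.Sporadic.CosetCert.ONData.fast5, sh5), (CfsgLib.Sporadic.CosetCert.ONData.fast0, sh0), (CfsgLib.Sporadic.CosetCert.ONData.fast5, sh5), (CfsgLib.Sporadic.CosetCert.ONData.fast4, sh4), (CfsgLib.Sporadic.CosetCert.ONData.fast5, sh5), (CfsgLib.Sporadic.CosetCert.ONData.fast1, sh1), (CfsgLib.Sporadic.CosetCert.ONData.fast5, sh5), (CfsgLib.Sporadic.CosetCert.ONData.fast1, sh1), (CfsgLib.Sporadic.CosetCert.ONData.fast4, sh4)] 0 36000 6000 = true := by decide +kernel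
theorem shiftW23_7 : constK [(CfsgLib.Sporadic.CosetCert.ONData.fast0, sh0), (CfsgLib.Sporadic.CosetCert.ONData.fast5, sh5), (CfsgLib.Sporadic.CosetCert.ONData.fast0, sh0), (CfsgLib.Sporadic.CosetCert.ONData.fast5, sh5), (CfsgLib.Sporadic.CosetCert.ONData.fast4, sh4), (CfsgLib.Sporadic.CosetCert.ONData.fast5, sh5), (CfsgLib.Sporadic.CosetCert.ONData.fast1, sh1), (CfsgLib.Sporadic.CosetCert.ONData.fast5, sh5), (CfsgLib.Sporadic.CosetCert.ONData.fast1, sh1), (CfsgLib.Sporadic.CosetCert.ONData.fast4, sh4)] 0 42000 6000 = true := by decide +kernel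
theorem shiftW23_8 : constK [(CfsgLib.Sporadic.CosetCert.ONData.fast0, sh0), (CfsgLib.Sporadic.CosetCert.ONData.fast5, sh5), (CfsgLib.Sporadic.CosetCert.ONData.fast0, sh0), (CfsgLib.Sporadic.CosetCert.ONData.fast5, sh5), (CfsgLib.Sporadic.CosetCert.ONData.fast4, sh4), (CfsgLib.Sporadic.CosetCert.ONData.fast5, sh5), (CfsgLib.Sporadic.CosetCert.ONData.fast1, sh1), (CfsgLib.Sporadic.CosetCert.ONData.fast5, sh5), (CfsgLib.Sporadic.CosetCert.ONData.fast1, sh1), (CfsgLib.Sporadic.CosetCert.ONData.fast4, sh4)] 0 48000 6000 = true := by decide +kernel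
theorem shiftW23_9 : constK [(CfsgLib.Sporadic.CosetCert.ONData.fast0, sh0), (CfsgLib.Sporadic.CosetCert.ONData.fast5, sh5), (CfsgLib.Sporadic.CosetCert.ONData.fast0, sh0), (CfsgLib.Sporadic.CosetCert.ONData.fast5, sh5), (CfsgLib.Sporadic.CosetCert.ONData.fast4, sh4), (CfsgLib.Sporadic.CosetCert.ONData.fast5, sh5), (CfsgLib.Sporadic.CosetCert.ONData.fast1, sh1), (CfsgLib.Sporadic.CosetCert.ONData.fast5, sh5), (CfsgLib.Sporadic.CosetCert.ONData.fast1, sh1), (CfsgLib.Sporadic.CosetCert.ONData.fast4, sh4)] 0 54000 6000 = true := by decide +kernel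
theorem shiftW23_10 : constK [(CfsgLib.Sporadic.CosetCert.ONData.fast0, sh0), (CfsgLib.Sporadic.CosetCert.ONData.fast5, sh5), (CfsgLib.Sporadic.CosetCert.ONData.fast0, sh0), (CfsgLib.Sporadic.CosetCert.ONData.fast5, sh5), (CfsgLib.Sporadic.CosetCert.ONData.fast4, sh4), (CfsgLib.Sporadic.CosetCert.ONData.fast5, sh5), (CfsgLib.Sporadic.CosetCert.ONData.fast1, sh1), (CfsgLib.Sporadic.CosetCert.ONData.fast5, sh5), (CfsgLib.Sporadic.CosetCert.ONData.fast1, sh1), (CfsgLib.Sporadic.CosetCert.ONData.fast4, sh4)] 0 60000 6000 = true := by decide +kernel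
theorem shiftW23_11 : constK [(CfsgLib.Sporadic.CosetCert.ONData.fast0, sh0), (CfsgLib.Sporadic.CosetCert.ONData.fast5, sh5), (CfsgLib.Sporadic.CosetCert.ONData.fast0, sh0), (CfsgLib.Sporadic.CosetCert.ONData.fast5, sh5), (CfsgLib.Sporadic.CosetCert.ONData.fast4, sh4), (CfsgLib.Sporadic.CosetCert.ONData.fast5, sh5), (CfsgLib.Sporadic.CosetCert.ONData.fast1, sh1), (CfsgLib.Sporadic.CosetCert.ONData.fast5, sh5), (CfsgLib.Sporadic.CosetCert.ONData.fast1, sh1), (CfsgLib.Sporadic.CosetCert.ONData.fast4, sh4)] 0 66000 6000 = true := by decide +kernel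
theorem shiftW23_12 : constK [(CfsgLib.Sporadic.CosetCert.ONData.fast0, sh0), (CfsgLib.Sporadic.CosetCert.ONData.fast5, sh5), (CfsgLib.Sporadic.CosetCert.ONData.fast0, sh0), (CfsgLib.Sporadic.CosetCert.ONData.fast5, sh5), (CfsgLib.Sporadic.CosetCert.ONData.fast4, sh4), (CfsgLib.Sporadic.CosetCert.ONData.fast5, sh5), (CfsgLib.Sporadic.CosetCert.ONData.fast1, sh1), (CfsgLib.Sporadic.CosetCert.ONData.fast5, sh5), (CfsgLib.Sporadic.CosetCert.ONData.fast1, sh1), (CfsgLib.Sporadic.CosetCert.ONData.fast4, sh4)] 0 72000 6000 = true := by decide +kernel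
theorem shiftW23_13 : constK [(CfsgLib.Sporadic.CosetCert.ONData.fast0, sh0), (CfsgLib.Sporadic.CosetCert.ONData.fast5, sh5), (CfsgLib.Sporadic.CosetCert.ONData.fast0, sh0), (CfsgLib.Sporadic.CosetCert.ONData.fast5, sh5), (CfsgLib.Sporadic.CosetCert.ONData.fast4, sh4), (CfsgLib.Sporadic.CosetCert.ONData.fast5, sh5), (CfsgLib.Sporadic.CosetCert.ONData.fast1, sh1), (CfsgLib.Sporadic.CosetCert.ONData.fast5, sh5), (CfsgLib.Sporadic.CosetCert.ONData.fast1, sh1), (CfsgLib.Sporadic.CosetCert.ONData.fast4, sh4)] 0 78000 6000 = true := by decide +kernel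
theorem shiftW23_14 : constK [(CfsgLib.Sporadic.CosetCert.ONData.fast0, sh0), (CfsgLib.Sporadic.CosetCert.ONData.fast5, sh5), (CfsgLib.Sporadic.CosetCert.ONData.fast0, sh0), (CfsgLib.Sporadic.CosetCert.ONData.fast5, sh5), (CfsgLib.Sporadic.CosetCert.ONData.fast4, sh4), (CfsgLib.Sporadic.CosetCert.ONData.fast5, sh5), (CfsgLib.Sporadic.CosetCert.ONData.fast1, sh1), (CfsgLib.Sporadic.CosetCert.ONData.fast5, sh5), (CfsgLib.Sporadic.CosetCert.ONData.fast1, sh1), (CfsgLib.Sporadic.CosetCert.ONData.fast4, sh4)] 0 84000 6000 = true := by decide +kernel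
theorem shiftW23_15 : constK [(CfsgLib.Sporadic.CosetCert.ONData.fast0, sh0), (CfsgLib.Sporadic.CosetCert.ONData.fast5, sh5), (CfsgLib.Sporadic.CosetCert.ONData.fast0, sh0), (CfsgLib.Sporadic.CosetCert.ONData.fast5, sh5), (CfsgLib.Sporadic.CosetCert.ONData.fast4, sh4), (CfsgLib.Sporadic.CosetCert.ONData.fast5, sh5), (CfsgLib.Sporadic.CosetCert.ONData.fast1, sh1), (CfsgLib.Sporadic.CosetCert.ONData.fast5, sh5), (CfsgLib.Sporadic.CosetCert.ONData.fast1, sh1), (CfsgLib.Sporadic.CosetCert.ONData.fast4, sh4)] 0 90000 6000 = true := by decide +kernel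
theorem shiftW23_16 : constK [(CfsgLib.Sporadic.CosetCert.ONData.fast0, sh0), (CfsgLib.Sporadic.CosetCert.ONData.fast5, sh5), (CfsgLib.Sporadic.CosetCert.ONData.fast0, sh0), (CfsgLib.Sporadic.CosetCert.ONData.fast5, sh5), (CfsgLib.Sporadic.CosetCert.ONData.fast4, sh4), (CfsgLib.Sporadic.CosetCert.ONData.fast5, sh5), (CfsgLib.Sporadic.CosetCert.ONData.fast1, sh1), (CfsgLib.Sporadic.CosetCert.ONData.fast5, sh5), (CfsgLib.Sporadic.CosetCert.ONData.fast1, sh1), (CfsgLib.Sporadic.CosetCert.ONData.fast4, sh4)] 0 96000 6000 = true := by decide +kernel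
theorem shiftW23_17 : constK [(CfsgLib.Sporadic.CosetCert.ONData.fast0, sh0), (CfsgLib.Sporadic.CosetCert.ONData.fast5, sh5), (CfsgLib.Sporadic.CosetCert.ONData.fast0, sh0), (CfsgLib.Sporadic.CosetCert.ONData.fast5, sh5), (CfsgLib.Sporadic.CosetCert.ONData.fast4, sh4), (CfsgLib.Sporadic.CosetCert.ONData.fast5, sh5), (CfsgLib.Sporadic.CosetCert.ONData.fast1, sh1), (CfsgLib.Sporadic.CosetCert.ONData.fast5, sh5), (CfsgLib.Sporadic.CosetCert.ONData.fast1, sh1), (CfsgLib.Sporadic.CosetCert.ONData.fast4, sh4)] 0 102000 6000 = true := by decide +kernel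
theorem shiftW23_18 : constK [(CfsgLib.Sporadic.CosetCert.ONData.fast0, sh0), (CfsgLib.Sporadic.CosetCert.ONData.fast5, sh5), (CfsgLib.Sporadic.CosetCert.ONData.fast0, sh0), (CfsgLib.Sporadic.CosetCert.ONData.fast5, sh5), (CfsgLib.Sporadic.CosetCert.ONData.fast4, sh4), (CfsgLib.Sporadic.CosetCert.ONData.fast5, sh5), (CfsgLib.Sporadic.CosetCert.ONData.fast1, sh1), (CfsgLib.Sporadic.CosetCert.ONData.fast5, sh5), (CfsgLib.Sporadic.CosetCert.ONData.fast1, sh1), (CfsgLib.Sporadic.CosetCert.ONData.fast4, sh4)] 0 108000 6000 = true := by decide +kernel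
theorem shiftW23_19 : constK [(CfsgLib.Sporadic.CosetCert.ONData.fast0, sh0), (CfsgLib.Sporadic.CosetCert.ONData.fast5, sh5), (CfsgLib.Sporadic.CosetCert.ONData.fast0, sh0), (CfsgLib.Sporadic.CosetCert.ONData.fast5, sh5), (CfsgLib.Sporadic.CosetCert.ONData.fast4, sh4), (CfsgLib.Sporadic.CosetCert.ONData.fast5, sh5), (CfsgLib.Sporadic.CosetCert.ONData.fast1, sh1), (CfsgLib.Sporadic.CosetCert.ONData.fast5, sh5), (CfsgLib.Sporadic.CosetCert.ONData.fast1, sh1), (CfsgLib.Sporadic.CosetCert.ONData.fast4, sh4)] 0 114000 6000 = true := by decide +kernel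
theorem shiftW23_20 : constK [(CfsgLib.Sporadic.CosetCert.ONData.fast0, sh0), (CfsgLib.Sporadic.CosetCert.ONData.fast5, sh5), (CfsgLib.Sporadic.CosetCert.ONData.fast0, sh0), (CfsgLib.Sporadic.CosetCert.ONData.fast5, sh5), (CfsgLib.Sporadic.CosetCert.ONData.fast4, sh4), (CfsgLib.Sporadic.CosetCert.ONData.fast5, sh5), (CfsgLib.Sporadic.CosetCert.ONData.fast1, sh1), (CfsgLib.Sporadic.CosetCert.ONData.fast5, sh5), (CfsgLib.Sporadic.CosetCert.ONData.fast1, sh1), (CfsgLib.Sporadic.CosetCert.ONData.fast4, sh4)] 0 120000 2760 = true := by decide +kernel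

theorem shiftW23 : ∀ u < 122760, Nat.mod (runS [(CfsgLib.Sporadic.CosetCert.ONData.fast0, sh0), (CfsgLib.Sporadic.CosetCert.ONData.fast5, sh5), (CfsgLib.Sporadic.CosetCert.ONData.fast0, sh0), (CfsgLib.Sporadic.CosetCert.ONData.fast5, sh5), (CfsgLib.Sporadic.CosetCert.ONData.fast4, sh4), (CfsgLib.Sporadic.CosetCert.ONData.fast5, sh5), (CfsgLib.Sporadic.CosetCert.ONData.fast1, sh1), (CfsgLib.Sporadic.CosetCert.ONData.fast5, sh5), (CfsgLib.Sporadic.CosetCert.ONData.fast1, sh1), (CfsgLib.Sporadic.CosetCert.ONData.fast4, sh4)] u) 3 = 0 := fun u hu =>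
  (range_split (range_split (range_split (range_split (constK_spec shiftW23_0) (constK_spec shiftW23_1)) (range_split (constK_spec shiftW23_2) (range_split (constK_spec shiftW23_3) (constK_spec shiftW23_4)))) (range_split (range_split (constK_spec shiftW23_5) (constK_spec shiftW23_6)) (range_split (constK_spec shiftW23_7) (range_split (constK_spec shiftW23_8) (constK_spec shiftW23_9))))) (range_split (range_split (range_split (constK_spec shiftW23_10) (constK_spec shiftW23_11)) (range_split (constK_spec shiftW23_12) (range_split (constK_spec shiftW23_13) (constK_spec shiftW23_14)))) (range_split (range_split (constK_spec shiftW23_15) (range_split (constK_spec shiftW23_16) (constK_spec shiftW23_17))) (range_split (constK_spec shiftW23_18) (range_split (constK_spec shiftW23_19) (constK_spec shiftW23_20)))))) u (Nat.zero_le _) hu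

theorem shiftW28_0 : constK [(CfsgLib.Sporadic.CosetCert.ONData.fast0, sh0), (CfsgLib.Sporadic.CosetCert.ONData.fast1, sh1)] 0 0 6000 = true := by decide +kernel
theorem shiftW28_1 : constK [(CfsgLib.Sporadic.CosetCert.ONData.fast0, sh0), (CfsgLib.Sporadic.CosetCert.ONData.fast1, sh1)] 0 6000 6000 = true := by decide +kernel
theorem shiftW28_2 : constK [(CfsgLib.Sporadic.CosetCert.ONData.fast0, sh0), (CfsgLib.Sporadic.CosetCert.ONData.fast1, sh1)] 0 12000 6000 = true := by decide +kernel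
theorem shiftW28_3 : constK [(CfsgLib.Sporadic.CosetCert.ONData.fast0, sh0), (CfsgLib.Sporadic.CosetCert.ONData.fast1, sh1)] 0 18000 6000 = true := by decide +kernel
theorem shiftW28_4 : constK [(CfsgLib.Sporadic.CosetCert.ONData.fast0, sh0), (CfsgLib.Sporadic.CosetCert.ONData.fast1, sh1)] 0 24000 6000 = true := by decide +kernel
theorem shiftW28_5 : constK [(CfsgLib.Sporadic.CosetCert.ONData.fast0, sh0), (CfsgLib.Sporadic.CosetCert.ONData.fast1, sh1)] 0 30000 6000 = true := by decide +kernel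
theorem shiftW28_6 : constK [(CfsgLib.Sporadic.CosetCert.ONData.fast0, sh0), (CfsgLib.Sporadic.CosetCert.ONData.fast1, sh1)] 0 36000 6000 = true := by decide +kernel
theorem shiftW28_7 : constK [(CfsgLib.Sporadic.CosetCert.ONData.fast0, sh0), (CfsgLib.Sporadic.CosetCert.ONData.fast1, sh1)] 0 42000 6000 = true := by decide +kernel
theorem shiftW28_8 : constK [(CfsgLib.Sporadic.CosetCert.ONData.fast0, sh0), (CfsgLib.Sporadic.CosetCert.ONData.fast1, sh1)] 0 48000 6000 = true := by decide +kernel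
theorem shiftW28_9 : constK [(CfsgLib.Sporadic.CosetCert.ONData.fast0, sh0), (CfsgLib.Sporadic.CosetCert.ONData.fast1, sh1)] 0 54000 6000 = true := by decide +kernel
theorem shiftW28_10 : constK [(CfsgLib.Sporadic.CosetCert.ONData.fast0, sh0), (CfsgLib.Sporadic.CosetCert.ONData.fast1, sh1)] 0 60000 6000 = true := by decide +kernel
theorem shiftW28_11 : constK [(CfsgLib.Sporadic.CosetCert.ONData.fast0, sh0), (CfsgLib.Sporadic.CosetCert.ONData.fast1, sh1)] 0 66000 6000 = true := by decide +kernel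
theorem shiftW28_12 : constK [(CfsgLib.Sporadic.CosetCert.ONData.fast0, sh0), (CfsgLib.Sporadic.CosetCert.ONData.fast1, sh1)] 0 72000 6000 = true := by decide +kernel
theorem shiftW28_13 : constK [(CfsgLib.Sporadic.CosetCert.ONData.fast0, sh0), (CfsgLib.Sporadic.CosetCert.ONData.fast1, sh1)] 0 78000 6000 = true := by decide +kernel
theorem shiftW28_14 : constK [(CfsgLib.Sporadic.CosetCert.ONData.fast0, sh0), (CfsgLib.Sporadic.CosetCert.ONData.fast1, sh1)] 0 84000 6000 = true := by decide +kernel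
theorem shiftW28_15 : constK [(CfsgLib.Sporadic.CosetCert.ONData.fast0, sh0), (CfsgLib.Sporadic.CosetCert.ONData.fast1, sh1)] 0 90000 6000 = true := by decide +kernel
theorem shiftW28_16 : constK [(CfsgLib.Sporadic.CosetCert.ONData.fast0, sh0), (CfsgLib.Sporadic.CosetCert.ONData.fast1, sh1)] 0 96000 6000 = true := by decide +kernel
theorem shiftW28_17 : constK [(CfsgLib.Sporadic.CosetCert.ONData.fast0, sh0), (CfsgLib.Sporadic.CosetCert.ONData.fast1, sh1)] 0 102000 6000 = true := by decide +kernel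
theorem shiftW28_18 : constK [(CfsgLib.Sporadic.CosetCert.ONData.fast0, sh0), (CfsgLib.Sporadic.CosetCert.ONData.fast1, sh1)] 0 108000 6000 = true := by decide +kernel
theorem shiftW28_19 : constK [(CfsgLib.Sporadic.CosetCert.ONData.fast0, sh0), (CfsgLib.Sporadic.CosetCert.ONData.fast1, sh1)] 0 114000 6000 = true := by decide +kernel
theorem shiftW28_20 : constK [(CfsgLib.Sporadic.CosetCert.ONData.fast0, sh0), (CfsgLib.Sporadic.CosetCert.ONData.fast1, sh1)] 0 120000 2760 = true := by decide +kernel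

theorem shiftW28 : ∀ u < 122760, Nat.mod (runS [(CfsgLib.Sporadic.CosetCert.ONData.fast0, sh0), (CfsgLib.Sporadic.CosetCert.ONData.fast1, sh1)] u) 3 = 0 := fun u hu =>
  (range_split (range_split (range_split (range_split (constK_spec shiftW28_0) (constK_spec shiftW28_1)) (range_split (constK_spec shiftW28_2) (range_split (constK_spec shiftW28_3) (constK_spec shiftW28_4)))) (range_split (range_split (constK_spec shiftW28_5) (constK_spec shiftW28_6)) (range_split (constK_spec shiftW28_7) (range_split (constK_spec shiftW28_8) (constK_spec shiftW28_9))))) (range_split (range_split (range_split (constK_spec shiftW28_10) (constK_spec shiftW28_11)) (range_split (constK_spec shiftW28_12) (range_split (constK_spec shiftW28_13) (constK_spec shiftW28_14)))) (range_split (range_split (constK_spec shiftW28_15) (range_split (constK_spec shiftW28_16) (constK_spec shiftW28_17))) (range_split (constK_spec shiftW28_18) (range_split (constK_spec shiftW28_19) (constK_spec shiftW28_20))))))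 u (Nat.zero_le _) hu

end CfsgLib.Schur.Sporadic.ON
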