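import Cfsg.Agent.Lib.Schur.ON.Shift

/-!
Kernel checks of the triple cover of the O'Nan group: the lifted relators shift all sheets alike.
-/

set_option autoImplicit false
set_option maxRecDepth 100000
set_option maxHeartbeats 0
set_option Elab.async false

namespace CfsgLib.Schur.Sporadic.ON

open CfsgLib.Sporadic.CosetCert (range_split)

theorem shiftW0_0 : constK [(CfsgLib.Sporadic.CosetCert.ONData.fast2, sh2), (CfsgLib.Sporadic.CosetCert.ONData.fast2, sh2)] 0 0 6000 = true := by decide +kernel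
theorem shiftW0_1 : constK [(CfsgLib.Sporadic.CosetCert.ONData.fast2, sh2), (CfsgLib.Sporadic.CosetCert.ONData.fast2, sh2)] 0 6000 6000 = true := by decide +kernel
theorem shiftW0_2 : constK [(CfsgLib.Sporadic.CosetCert.ONData.fast2, sh2), (CfsgLib.Sporadic.CosetCert.ONData.fast2, sh2)] 0 12000 6000 = true := by decide +kernel
theorem shiftW0_3 : constK [(CfsgLib.Sporadic.CosetCert.ONData.fast2, sh2), (CfsgLib.Sporadic.CosetCert.ONData.fast2, sh2)] 0 18000 6000 = true := by decide +kernel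
theorem shiftW0_4 : constK [(CfsgLib.Sporadic.CosetCert.ONData.fast2, sh2), (CfsgLib.Sporadic.CosetCert.ONData.fast2, sh2)] 0 24000 6000 = true := by decide +kernel
theorem shiftW0_5 : constK [(CfsgLib.Sporadic.CosetCert.ONData.fast2, sh2), (CfsgLib.Sporadic.CosetCert.ONData.fast2, sh2)] 0 30000 6000 = true := by decide +kernel
theorem shiftW0_6 : constK [(CfsgLib.Sporadic.CosetCert.ONData.fast2, sh2), (CfsgLib.Sporadic.CosetCert.ONData.fast2, sh2)] 0 36000 6000 = true := by decide +kernel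
theorem shiftW0_7 : constK [(CfsgLib.Sporadic.CosetCert.ONData.fast2, sh2), (CfsgLib.Sporadic.CosetCert.ONData.fast2, sh2)] 0 42000 6000 = true := by decide +kernel
theorem shiftW0_8 : constK [(CfsgLib.Sporadic.CosetCert.ONData.fast2, sh2), (CfsgLib.Sporadic.CosetCert.ONData.fast2, sh2)] 0 48000 6000 = true := by decide +kernel
theorem shiftW0_9 : constK [(CfsgLib.Sporadic.CosetCert.ONData.fast2, sh2), (CfsgLib.Sporadic.CosetCert.ONData.fast2, sh2)] 0 54000 6000 = true := by decide +kernel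
theorem shiftW0_10 : constK [(CfsgLib.Sporadic.CosetCert.ONData.fast2, sh2), (CfsgLib.Sporadic.CosetCert.ONData.fast2, sh2)] 0 60000 6000 = true := by decide +kernel
theorem shiftW0_11 : constK [(CfsgLib.Sporadic.CosetCert.ONData.fast2, sh2), (CfsgLib.Sporadic.CosetCert.ONData.fast2, sh2)] 0 66000 6000 = true := by decide +kernel
theorem shiftW0_12 : constK [(CfsgLib.Sporadic.CosetCert.ONData.fast2, sh2), (CfsgLib.Sporadic.CosetCert.ONData.fast2, sh2)] 0 72000 6000 = true := by decide +kernel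
theorem shiftW0_13 : constK [(CfsgLib.Sporadic.CosetCert.ONData.fast2, sh2), (CfsgLib.Sporadic.CosetCert.ONData.fast2, sh2)] 0 78000 6000 = true := by decide +kernel
theorem shiftW0_14 : constK [(CfsgLib.Sporadic.CosetCert.ONData.fast2, sh2), (CfsgLib.Sporadic.CosetCert.ONData.fast2, sh2)] 0 84000 6000 = true := by decide +kernel
theorem shiftW0_15 : constK [(CfsgLib.Sporadic.CosetCert.ONData.fast2, sh2), (CfsgLib.Sporadic.CosetCert.ONData.fast2, sh2)] 0 90000 6000 = true := by decide +kernel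
theorem shiftW0_16 : constK [(CfsgLib.Sporadic.CosetCert.ONData.fast2, sh2), (CfsgLib.Sporadic.CosetCert.ONData.fast2, sh2)] 0 96000 6000 = true := by decide +kernel
theorem shiftW0_17 : constK [(CfsgLib.Sporadic.CosetCert.ONData.fast2, sh2), (CfsgLib.Sporadic.CosetCert.ONData.fast2, sh2)] 0 102000 6000 = true := by decide +kernel
theorem shiftW0_18 : constK [(CfsgLib.Sporadic.CosetCert.ONData.fast2, sh2), (CfsgLib.Sporadic.CosetCert.ONData.fast2, sh2)] 0 108000 6000 = true := by decide +kernel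
theorem shiftW0_19 : constK [(CfsgLib.Sporadic.CosetCert.ONData.fast2, sh2), (CfsgLib.Sporadic.CosetCert.ONData.fast2, sh2)] 0 114000 6000 = true := by decide +kernel
theorem shiftW0_20 : constK [(CfsgLib.Sporadic.CosetCert.ONData.fast2, sh2), (CfsgLib.Sporadic.CosetCert.ONData.fast2, sh2)] 0 120000 2760 = true := by decide +kernel

theorem shiftW0 : ∀ u < 122760, Nat.mod (runS [(CfsgLib.Sporadic.CosetCert.ONData.fast2, sh2), (CfsgLib.Sporadic.CosetCert.ONData.fast2, sh2)] u) 3 = 0 := fun u hu =>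
  (range_split (range_split (range_split (range_split (constK_spec shiftW0_0) (constK_spec shiftW0_1)) (range_split (constK_spec shiftW0_2) (range_split (constK_spec shiftW0_3) (constK_spec shiftW0_4)))) (range_split (range_split (constK_spec shiftW0_5) (constK_spec shiftW0_6)) (range_split (constK_spec shiftW0_7) (range_split (constK_spec shiftW0_8) (constK_spec shiftW0_9))))) (range_split (range_split (range_split (constK_spec shiftW0_10) (constK_spec shiftW0_11)) (range_split (constK_spec shiftW0_12) (range_split (constK_spec shiftW0_13) (constK_spec shiftW0_14)))) (range_split (range_split (constK_spec shiftW0_15) (range_split (constK_spec shiftW0_16) (constK_spec shiftW0_17))) (range_split (constK_spec shiftW0_18) (range_split (constK_spec shiftW0_19) (constK_spec shiftW0_20)))))) u (Nat.zero_le _) hu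

theorem shiftW2_0 : constK [(CfsgLib.Sporadic.CosetCert.ONData.fast4, sh4), (CfsgLib.Sporadic.CosetCert.ONData.fast2, sh2), (CfsgLib.Sporadic.CosetCert.ONData.fast4, sh4), (CfsgLib.Sporadic.CosetCert.ONData.fast2, sh2)] 0 0 6000 = true := by decide +kernel
theorem shiftW2_1 : constK [(CfsgLib.Sporadic.CosetCert.ONData.fast4, sh4), (CfsgLib.Sporadic.CosetCert.ONData.fast2, sh2), (CfsgLib.Sporadic.CosetCert.ONData.fast4, sh4), (CfsgLib.Sporadic.CosetCert.ONData.fast2, sh2)] 0 6000 6000 = true := by decide +kernel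
theorem shiftW2_2 : constK [(CfsgLib.Sporadic.CosetCert.ONData.fast4, sh4), (CfsgLib.Sporadic.CosetCert.ONData.fast2, sh2), (CfsgLib.Sporadic.CosetCert.ONData.fast4, sh4), (CfsgLib.Sporadic.CosetCert.ONData.fast2, sh2)] 0 12000 6000 = true := by decide +kernel
theorem shiftW2_3 : constK [(CfsgLib.Sporadic.CosetCert.ONData.fast4, sh4), (CfsgLib.Sporadic.CosetCert.ONData.fast2, sh2), (CfsgLib.Sporadic.CosetCert.ONData.fast4, sh4), (CfsgLib.Sporadic.CosetCert.ONData.fast2, sh2)] 0 18000 6000 = true := by decide +kernel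
theorem shiftW2_4 : constK [(CfsgLib.Sporadic.CosetCert.ONData.fast4, sh4), (CfsgLib.Sporadic.CosetCert.ONData.fast2, sh2), (CfsgLib.Sporadic.CosetCert.ONData.fast4, sh4), (CfsgLib.Sporadic.CosetCert.ONData.fast2, sh2)] 0 24000 6000 = true := by decide +kernel
theorem shiftW2_5 : constK [(CfsgLib.Sporadic.CosetCert.ONData.fast4, sh4), (CfsgLib.Sporadic.CosetCert.ONData.fast2, sh2), (CfsgLib.Sporadic.CosetCert.ONData.fast4, sh4), (CfsgLib.Sporadic.CosetCert.ONData.fast2, sh2)] 0 30000 6000 = true := by decide +kernel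
theorem shiftW2_6 : constK [(CfsgLib.Sporadic.CosetCert.ONData.fast4, sh4), (CfsgLib.Sporadic.CosetCert.ONData.fast2, sh2), (CfsgLib.Sporadic.CosetCert.ONData.fast4, sh4), (CfsgLib.Sporadic.CosetCert.ONData.fast2, sh2)] 0 36000 6000 = true := by decide +kernel
theorem shiftW2_7 : constK [(CfsgLib.Sporadic.CosetCert.ONData.fast4, sh4), (CfsgLib.Sporadic.CosetCert.ONData.fast2, sh2), (CfsgLib.Sporadic.CosetCert.ONData.fast4, sh4), (CfsgLib.Sporadic.CosetCert.ONData.fast2, sh2)] 0 42000 6000 = true := by decide +kernel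
theorem shiftW2_8 : constK [(CfsgLib.Sporadic.CosetCert.ONData.fast4, sh4), (CfsgLib.Sporadic.CosetCert.ONData.fast2, sh2), (CfsgLib.Sporadic.CosetCert.ONData.fast4, sh4), (CfsgLib.Sporadic.CosetCert.ONData.fast2, sh2)] 0 48000 6000 = true := by decide +kernel
theorem shiftW2_9 : constK [(CfsgLib.Sporadic.CosetCert.ONData.fast4, sh4), (CfsgLib.Sporadic.CosetCert.ONData.fast2, sh2), (CfsgLib.Sporadic.CosetCert.ONData.fast4, sh4), (CfsgLib.Sporadic.CosetCert.ONData.fast2, sh2)] 0 54000 6000 = true := by decide +kernel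
theorem shiftW2_10 : constK [(CfsgLib.Sporadic.CosetCert.ONData.fast4, sh4), (CfsgLib.Sporadic.CosetCert.ONData.fast2, sh2), (CfsgLib.Sporadic.CosetCert.ONData.fast4, sh4), (CfsgLib.Sporadic.CosetCert.ONData.fast2, sh2)] 0 60000 6000 = true := by decide +kernel
theorem shiftW2_11 : constK [(CfsgLib.Sporadic.CosetCert.ONData.fast4, sh4), (CfsgLib.Sporadic.CosetCert.ONData.fast2, sh2), (CfsgLib.Sporadic.CosetCert.ONData.fast4, sh4), (CfsgLib.Sporadic.CosetCert.ONData.fast2, sh2)] 0 66000 6000 = true := by decide +kernel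
theorem shiftW2_12 : constK [(CfsgLib.Sporadic.CosetCert.ONData.fast4, sh4), (CfsgLib.Sporadic.CosetCert.ONData.fast2, sh2), (CfsgLib.Sporadic.CosetCert.ONData.fast4, sh4), (CfsgLib.Sporadic.CosetCert.ONData.fast2, sh2)] 0 72000 6000 = true := by decide +kernel
theorem shiftW2_13 : constK [(CfsgLib.Sporadic.CosetCert.ONData.fast4, sh4), (CfsgLib.Sporadic.CosetCert.ONData.fast2, sh2), (CfsgLib.Sporadic.CosetCert.ONData.fast4, sh4), (CfsgLib.Sporadic.CosetCert.ONData.fast2, sh2)] 0 78000 6000 = true := by decide +kernel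
theorem shiftW2_14 : constK [(CfsgLib.Sporadic.CosetCert.ONData.fast4, sh4), (CfsgLib.Sporadic.CosetCert.ONData.fast2, sh2), (CfsgLib.Sporadic.CosetCert.ONData.fast4, sh4), (CfsgLib.Sporadic.CosetCert.ONData.fast2, sh2)] 0 84000 6000 = true := by decide +kernel
theorem shiftW2_15 : constK [(CfsgLib.Sporadic.CosetCert.ONData.fast4, sh4), (CfsgLib.Sporadic.CosetCert.ONData.fast2, sh2), (CfsgLib.Sporadic.CosetCert.ONData.fast4, sh4), (CfsgLib.Sporadic.CosetCert.ONData.fast2, sh2)] 0 90000 6000 = true := by decide +kernel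
theorem shiftW2_16 : constK [(CfsgLib.Sporadic.CosetCert.ONData.fast4, sh4), (CfsgLib.Sporadic.CosetCert.ONData.fast2, sh2), (CfsgLib.Sporadic.CosetCert.ONData.fast4, sh4), (CfsgLib.Sporadic.CosetCert.ONData.fast2, sh2)] 0 96000 6000 = true := by decide +kernel
theorem shiftW2_17 : constK [(CfsgLib.Sporadic.CosetCert.ONData.fast4, sh4), (CfsgLib.Sporadic.CosetCert.ONData.fast2, sh2), (CfsgLib.Sporadic.CosetCert.ONData.fast4, sh4), (CfsgLib.Sporadic.CosetCert.ONData.fast2, sh2)] 0 102000 6000 = true := by decide +kernel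
theorem shiftW2_18 : constK [(CfsgLib.Sporadic.CosetCert.ONData.fast4, sh4), (CfsgLib.Sporadic.CosetCert.ONData.fast2, sh2), (CfsgLib.Sporadic.CosetCert.ONData.fast4, sh4), (CfsgLib.Sporadic.CosetCert.ONData.fast2, sh2)] 0 108000 6000 = true := by decide +kernel
theorem shiftW2_19 : constK [(CfsgLib.Sporadic.CosetCert.ONData.fast4, sh4), (CfsgLib.Sporadic.CosetCert.ONData.fast2, sh2), (CfsgLib.Sporadic.CosetCert.ONData.fast4, sh4), (CfsgLib.Sporadic.CosetCert.ONData.fast2, sh2)] 0 114000 6000 = true := by decide +kernel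
theorem shiftW2_20 : constK [(CfsgLib.Sporadic.CosetCert.ONData.fast4, sh4), (CfsgLib.Sporadic.CosetCert.ONData.fast2, sh2), (CfsgLib.Sporadic.CosetCert.ONData.fast4, sh4), (CfsgLib.Sporadic.CosetCert.ONData.fast2, sh2)] 0 120000 2760 = true := by decide +kernel

theorem shiftW2 : ∀ u < 122760, Nat.mod (runS [(CfsgLib.Sporadic.CosetCert.ONData.fast4, sh4), (CfsgLib.Sporadic.CosetCert.ONData.fast2, sh2), (CfsgLib.Sporadic.CosetCert.ONData.fast4, sh4), (CfsgLib.Sporadic.CosetCert.ONData.fast2, sh2)] u) 3 = 0 := fun u hu =>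
  (range_split (range_split (range_split (range_split (constK_spec shiftW2_0) (constK_spec shiftW2_1)) (range_split (constK_spec shiftW2_2) (range_split (constK_spec shiftW2_3) (constK_spec shiftW2_4)))) (range_split (range_split (constK_spec shiftW2_5) (constK_spec shiftW2_6)) (range_split (constK_spec shiftW2_7) (range_split (constK_spec shiftW2_8) (constK_spec shiftW2_9))))) (range_split (range_split (range_split (constK_spec shiftW2_10) (constK_spec shiftW2_11)) (range_split (constK_spec shiftW2_12) (range_split (constK_spec shiftW2_13) (constK_spec shiftW2_14)))) (range_split (range_split (constK_spec shiftW2_15) (range_split (constK_spec shiftW2_16) (constK_spec shiftW2_17))) (range_split (constK_spec shiftW2_18) (range_split (constK_spec shiftW2_19) (constK_spec shiftW2_20)))))) u (Nat.zero_le _) hu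

theorem shiftW8_0 : constK [(CfsgLib.Sporadic.CosetCert.ONData.fast5, sh5), (CfsgLib.Sporadic.CosetCert.ONData.fast3, sh3), (CfsgLib.Sporadic.CosetCert.ONData.fast5, sh5), (CfsgLib.Sporadic.CosetCert.ONData.fast3, sh3)] 0 0 6000 = true := by decide +kernel
theorem shiftW8_1 : constK [(CfsgLib.Sporadic.CosetCert.ONData.fast5, sh5), (CfsgLib.Sporadic.CosetCert.ONData.fast3, sh3), (CfsgLib.Sporadic.CosetCert.ONData.fast5, sh5), (CfsgLib.Sporadic.CosetCert.ONData.fast3, sh3)] 0 6000 6000 = true := by decide +kernel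
theorem shiftW8_2 : constK [(CfsgLib.Sporadic.CosetCert.ONData.fast5, sh5), (CfsgLib.Sporadic.CosetCert.ONData.fast3, sh3), (CfsgLib.Sporadic.CosetCert.ONData.fast5, sh5), (CfsgLib.Sporadic.CosetCert.ONData.fast3, sh3)] 0 12000 6000 = true := by decide +kernel
theorem shiftW8_3 : constK [(CfsgLib.Sporadic.CosetCert.ONData.fast5, sh5), (CfsgLib.Sporadic.CosetCert.ONData.fast3, sh3), (CfsgLib.Sporadic.CosetCert.ONData.fast5, sh5), (CfsgLib.Sporadic.CosetCert.ONData.fast3, sh3)] 0 18000 6000 = true := by decide +kernel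
theorem shiftW8_4 : constK [(CfsgLib.Sporadic.CosetCert.ONData.fast5, sh5), (CfsgLib.Sporadic.CosetCert.ONData.fast3, sh3), (CfsgLib.Sporadic.CosetCert.ONData.fast5, sh5), (CfsgLib.Sporadic.CosetCert.ONData.fast3, sh3)] 0 24000 6000 = true := by decide +kernel
theorem shiftW8_5 : constK [(CfsgLib.Sporadic.CosetCert.ONData.fast5, sh5), (CfsgLib.Sporadic.CosetCert.ONData.fast3, sh3), (CfsgLib.Sporadic.CosetCert.ONData.fast5, sh5), (CfsgLib.Sporadic.CosetCert.ONData.fast3, sh3)] 0 30000 6000 = true := by decide +kernel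
theorem shiftW8_6 : constK [(CfsgLib.Sporadic.CosetCert.ONData.fast5, sh5), (CfsgLib.Sporadic.CosetCert.ONData.fast3, sh3), (CfsgLib.Sporadic.CosetCert.ONData.fast5, sh5), (CfsgLib.Sporadic.CosetCert.ONData.fast3, sh3)] 0 36000 6000 = true := by decide +kernel
theorem shiftW8_7 : constK [(CfsgLib.Sporadic.CosetCert.ONData.fast5, sh5), (CfsgLib.Sporadic.CosetCert.ONData.fast3, sh3), (CfsgLib.Sporadic.CosetCert.ONData.fast5, sh5), (CfsgLib.Sporadic.CosetCert.ONData.fast3, sh3)] 0 42000 6000 = true := by decide +kernel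
theorem shiftW8_8 : constK [(CfsgLib.Sporadic.CosetCert.ONData.fast5, sh5), (CfsgLib.Sporadic.CosetCert.ONData.fast3, sh3), (CfsgLib.Sporadic.CosetCert.ONData.fast5, sh5), (CfsgLib.Sporadic.CosetCert.ONData.fast3, sh3)] 0 48000 6000 = true := by decide +kernel
theorem shiftW8_9 : constK [(CfsgLib.Sporadic.CosetCert.ONData.fast5, sh5), (CfsgLib.Sporadic.CosetCert.ONData.fast3, sh3), (CfsgLib.Sporadic.CosetCert.ONData.fast5, sh5), (CfsgLib.Sporadic.CosetCert.ONData.fast3, sh3)] 0 54000 6000 = true := by decide +kernel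
theorem shiftW8_10 : constK [(CfsgLib.Sporadic.CosetCert.ONData.fast5, sh5), (CfsgLib.Sporadic.CosetCert.ONData.fast3, sh3), (CfsgLib.Sporadic.CosetCert.ONData.fast5, sh5), (CfsgLib.Sporadic.CosetCert.ONData.fast3, sh3)] 0 60000 6000 = true := by decide +kernel
theorem shiftW8_11 : constK [(CfsgLib.Sporadic.CosetCert.ONData.fast5, sh5), (CfsgLib.Sporadic.CosetCert.ONData.fast3, sh3), (CfsgLib.Sporadic.CosetCert.ONData.fast5, sh5), (CfsgLib.Sporadic.CosetCert.ONData.fast3, sh3)] 0 66000 6000 = true := by decide +kernel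
theorem shiftW8_12 : constK [(CfsgLib.Sporadic.CosetCert.ONData.fast5, sh5), (CfsgLib.Sporadic.CosetCert.ONData.fast3, sh3), (CfsgLib.Sporadic.CosetCert.ONData.fast5, sh5), (CfsgLib.Sporadic.CosetCert.ONData.fast3, sh3)] 0 72000 6000 = true := by decide +kernel
theorem shiftW8_13 : constK [(CfsgLib.Sporadic.CosetCert.ONData.fast5, sh5), (CfsgLib.Sporadic.CosetCert.ONData.fast3, sh3), (CfsgLib.Sporadic.CosetCert.ONData.fast5, sh5), (CfsgLib.Sporadic.CosetCert.ONData.fast3, sh3)] 0 78000 6000 = true := by decide +kernel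
theorem shiftW8_14 : constK [(CfsgLib.Sporadic.CosetCert.ONData.fast5, sh5), (CfsgLib.Sporadic.CosetCert.ONData.fast3, sh3), (CfsgLib.Sporadic.CosetCert.ONData.fast5, sh5), (CfsgLib.Sporadic.CosetCert.ONData.fast3, sh3)] 0 84000 6000 = true := by decide +kernel
theorem shiftW8_15 : constK [(CfsgLib.Sporadic.CosetCert.ONData.fast5, sh5), (CfsgLib.Sporadic.CosetCert.ONData.fast3, sh3), (CfsgLib.Sporadic.CosetCert.ONData.fast5, sh5), (CfsgLib.Sporadic.CosetCert.ONData.fast3, sh3)] 0 90000 6000 = true := by decide +kernel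
theorem shiftW8_16 : constK [(CfsgLib.Sporadic.CosetCert.ONData.fast5, sh5), (CfsgLib.Sporadic.CosetCert.ONData.fast3, sh3), (CfsgLib.Sporadic.CosetCert.ONData.fast5, sh5), (CfsgLib.Sporadic.CosetCert.ONData.fast3, sh3)] 0 96000 6000 = true := by decide +kernel
theorem shiftW8_17 : constK [(CfsgLib.Sporadic.CosetCert.ONData.fast5, sh5), (CfsgLib.Sporadic.CosetCert.ONData.fast3, sh3), (CfsgLib.Sporadic.CosetCert.ONData.fast5, sh5), (CfsgLib.Sporadic.CosetCert.ONData.fast3, sh3)] 0 102000 6000 = true := by decide +kernel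
theorem shiftW8_18 : constK [(CfsgLib.Sporadic.CosetCert.ONData.fast5, sh5), (CfsgLib.Sporadic.CosetCert.ONData.fast3, sh3), (CfsgLib.Sporadic.CosetCert.ONData.fast5, sh5), (CfsgLib.Sporadic.CosetCert.ONData.fast3, sh3)] 0 108000 6000 = true := by decide +kernel
theorem shiftW8_19 : constK [(CfsgLib.Sporadic.CosetCert.ONData.fast5, sh5), (CfsgLib.Sporadic.CosetCert.ONData.fast3, sh3), (CfsgLib.Sporadic.CosetCert.ONData.fast5, sh5), (CfsgLib.Sporadic.CosetCert.ONData.fast3, sh3)] 0 114000 6000 = true := by decide +kernel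
theorem shiftW8_20 : constK [(CfsgLib.Sporadic.CosetCert.ONData.fast5, sh5), (CfsgLib.Sporadic.CosetCert.ONData.fast3, sh3), (CfsgLib.Sporadic.CosetCert.ONData.fast5, sh5), (CfsgLib.Sporadic.CosetCert.ONData.fast3, sh3)] 0 120000 2760 = true := by decide +kernel

theorem shiftW8 : ∀ u < 122760, Nat.mod (runS [(CfsgLib.Sporadic.CosetCert.ONData.fast5, sh5), (CfsgLib.Sporadic.CosetCert.ONData.fast3, sh3), (CfsgLib.Sporadic.CosetCert.ONData.fast5, sh5), (CfsgLib.Sporadic.CosetCert.ONData.fast3, sh3)] u) 3 = 0 := fun u hu =>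
  (range_split (range_split (range_split (range_split (constK_spec shiftW8_0) (constK_spec shiftW8_1)) (range_split (constK_spec shiftW8_2) (range_split (constK_spec shiftW8_3) (constK_spec shiftW8_4)))) (range_split (range_split (constK_spec shiftW8_5) (constK_spec shiftW8_6)) (range_split (constK_spec shiftW8_7) (range_split (constK_spec shiftW8_8) (constK_spec shiftW8_9))))) (range_split (range_split (range_split (constK_spec shiftW8_10) (constK_spec shiftW8_11)) (range_split (constK_spec shiftW8_12) (range_split (constK_spec shiftW8_13) (constK_spec shiftW8_14)))) (range_split (range_split (constK_spec shiftW8_15) (range_split (constK_spec shiftW8_16) (constK_spec shiftW8_17))) (range_split (constK_spec shiftW8_18) (range_split (constK_spec shiftW8_19) (constK_spec shiftW8_20)))))) u (Nat.zero_le _) hu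

theorem shiftW24_0 : constK [(CfsgLib.Sporadic.CosetCert.ONData.fast0, sh0), (CfsgLib.Sporadic.CosetCert.ONData.fast4, sh4), (CfsgLib.Sporadic.CosetCert.ONData.fast0, sh0), (CfsgLib.Sporadic.CosetCert.ONData.fast4, sh4), (CfsgLib.Sporadic.CosetCert.ONData.fast5, sh5), (CfsgLib.Sporadic.CosetCert.ONData.fast4, sh4), (CfsgLib.Sporadic.CosetCert.ONData.fast1, sh1), (CfsgLib.Sporadic.CosetCert.ONData.fast4, sh4), (CfsgLib.Sporadic.CosetCert.ONData.fast1, sh1), (CfsgLib.Sporadic.CosetCert.ONData.fast5, sh5)] 0 0 6000 = true := by decide +kernel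
theorem shiftW24_1 : constK [(CfsgLib.Sporadic.CosetCert.ONData.fast0, sh0), (CfsgLib.Sporadic.CosetCert.ONData.fast4, sh4), (CfsgLib.Sporadic.CosetCert.ONData.fast0, sh0), (CfsgLib.Sporadic.CosetCert.ONData.fast4, sh4), (CfsgLib.Sporadic.CosetCert.ONData.fast5, sh5), (CfsgLib.Sporadic.CosetCert.ONData.fast4, sh4), (CfsgLib.Sporadic.CosetCert.ONData.fast1, sh1), (CfsgLib.Sporadic.CosetCert.ONData.fast4, sh4), (CfsgLib.Sporadic.CosetCert.ONData.fast1, sh1), (CfsgLib.Sporadic.CosetCert.ONData.fast5, sh5)] 0 6000 6000 = true := by decide +kernel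
theorem shiftW24_2 : constK [(CfsgLib.Sporadic.CosetCert.ONData.fast0, sh0), (CfsgLib.Sporadic.CosetCert.ONData.fast4, sh4), (CfsgLib.Sporadic.CosetCert.ONData.fast0, sh0), (CfsgLib.Sporadic.CosetCert.ONData.fast4, sh4), (CfsgLib.Sporadic.CosetCert.ONData.fast5, sh5), (CfsgLib.Sporadic.CosetCert.ONData.fast4, sh4), (CfsgLib.Sporadic.CosetCert.ONData.fast1, sh1), (CfsgLib.Sporadic.CosetCert.ONData.fast4, sh4), (CfsgLib.Sporadic.CosetCert.ONData.fast1, sh1), (CfsgLib.Sporadic.CosetCert.ONData.fast5, sh5)] 0 12000 6000 = true := by decide +kernel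
theorem shiftW24_3 : constK [(CfsgLib.Sporadic.CosetCert.ONData.fast0, sh0), (CfsgLib.Sporadic.CosetCert.ONData.fast4, sh4), (CfsgLib.Sporadic.CosetCert.ONData.fast0, sh0), (CfsgLib.Sporadic.CosetCert.ONData.fast4, sh4), (CfsgLib.Sporadic.CosetCert.ONData.fast5, sh5), (CfsgLib.Sporadic.CosetCert.ONData.fast4, sh4), (CfsgLib.Sporadic.CosetCert.ONData.fast1, sh1), (CfsgLib.Sporadic.CosetCert.ONData.fast4, sh4), (CfsgLib.Sporadic.CosetCert.ONData.fast1, sh1), (CfsgLib.Sporadic.CosetCert.ONData.fast5, sh5)] 0 18000 6000 = true := by decide +kernel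
theorem shiftW24_4 : constK [(CfsgLib.Sporadic.CosetCert.ONData.fast0, sh0), (CfsgLib.Sporadic.CosetCert.ONData.fast4, sh4), (CfsgLib.Sporadic.CosetCert.ONData.fast0, sh0), (CfsgLib.Sporadic.CosetCert.ONData.fast4, sh4), (CfsgLib.Sporadic.CosetCert.ONData.fast5, sh5), (CfsgLib.Sporadic.CosetCert.ONData.fast4, sh4), (CfsgLib.Sporadic.CosetCert.ONData.fast1, sh1), (CfsgLib.Sporadic.CosetCert.ONData.fast4, sh4), (CfsgLib.Sporadic.CosetCert.ONData.fast1, sh1), (CfsgLib.Sporadic.CosetCert.ONData.fast5, sh5)] 0 24000 6000 = true := by decide +kernel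
theorem shiftW24_5 : constK [(CfsgLib.Sporadic.CosetCert.ONData.fast0, sh0), (CfsgLib.Sporadic.CosetCert.ONData.fast4, sh4), (CfsgLib.Sporadic.CosetCert.ONData.fast0, sh0), (CfsgLib.Sporadic.CosetCert.ONData.fast4, sh4), (CfsgLib.Sporadic.CosetCert.ONData.fast5, sh5), (CfsgLib.Sporadic.CosetCert.ONData.fast4, sh4), (CfsgLib.Sporadic.CosetCert.ONData.fast1, sh1), (CfsgLib.Sporadic.CosetCert.ONData.fast4, sh4), (CfsgLib.Sporadic.CosetCert.ONData.fast1, sh1), (CfsgLib.Sporadic.CosetCert.ONData.fast5, sh5)] 0 30000 6000 = true := by decide +kernel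
theorem shiftW24_6 : constK [(CfsgLib.Sporadic.CosetCert.ONData.fast0, sh0), (CfsgLib.Sporadic.CosetCert.ONData.fast4, sh4), (CfsgLib.Sporadic.CosetCert.ONData.fast0, sh0), (CfsgLib.Sporadic.CosetCert.ONData.fast4, sh4), (CfsgLib.Sporadic.CosetCert.ONData.fast5, sh5), (CfsgLib.Sporadic.CosetCert.ONData.fast4, sh4), (CfsgLib.Sporadic.CosetCert.ONData.fast1, sh1), (CfsgLib.Sporadic.CosetCert.ONData.fast4, sh4), (CfsgLib.Sporadic.CosetCert.ONData.fast1, sh1), (CfsgLib.Sporadic.CosetCert.ONData.fast5, sh5)] 0 36000 6000 = true := by decide +kernel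
theorem shiftW24_7 : constK [(CfsgLib.Sporadic.CosetCert.ONData.fast0, sh0), (CfsgLib.Sporadic.CosetCert.ONData.fast4, sh4), (CfsgLib.Sporadic.CosetCert.ONData.fast0, sh0), (CfsgLib.Sporadic.CosetCert.ONData.fast4, sh4), (CfsgLib.Sporadic.CosetCert.ONData.fast5, sh5), (CfsgLib.Sporadic.CosetCert.ONData.fast4, sh4), (CfsgLib.Sporadic.CosetCert.ONData.fast1, sh1), (CfsgLib.Sporadic.CosetCert.ONData.fast4, sh4), (CfsgLib.Sporadic.CosetCert.ONData.fast1, sh1), (CfsgLib.Sporadic.CosetCert.ONData.fast5, sh5)] 0 42000 6000 = true := by decide +kernel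
theorem shiftW24_8 : constK [(CfsgLib.Sporadic.CosetCert.ONData.fast0, sh0), (CfsgLib.Sporadic.CosetCert.ONData.fast4, sh4), (CfsgLib.Sporadic.CosetCert.ONData.fast0, sh0), (CfsgLib.Sporadic.CosetCert.ONData.fast4, sh4), (CfsgLib.Sporadic.CosetCert.ONData.fast5, sh5), (CfsgLib.Sporadic.CosetCert.ONData.fast4, sh4), (CfsgLib.Sporadic.CosetCert.ONData.fast1, sh1), (CfsgLib.Sporadic.CosetCert.ONData.fast4, sh4), (CfsgLib.Sporadic.CosetCert.ONData.fast1, sh1), (CfsgLib.Sporadic.CosetCert.ONData.fast5, sh5)] 0 48000 6000 = true := by decide +kernel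
theorem shiftW24_9 : constK [(CfsgLib.Sporadic.CosetCert.ONData.fast0, sh0), (CfsgLib.Sporadic.CosetCert.ONData.fast4, sh4), (CfsgLib.Sporadic.CosetCert.ONData.fast0, sh0), (CfsgLib.Sporadic.CosetCert.ONData.fast4, sh4), (CfsgLib.Sporadic.CosetCert.ONData.fast5, sh5), (CfsgLib.Sporadic.CosetCert.ONData.fast4, sh4), (CfsgLib.Sporadic.CosetCert.ONData.fast1, sh1), (CfsgLib.Sporadic.CosetCert.ONData.fast4, sh4), (CfsgLib.Sporadic.CosetCert.ONData.fast1, sh1), (CfsgLib.Sporadic.CosetCert.ONData.fast5, sh5)] 0 54000 6000 = true := by decide +kernel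
theorem shiftW24_10 : constK [(CfsgLib.Sporadic.CosetCert.ONData.fast0, sh0), (CfsgLib.Sporadic.CosetCert.ONData.fast4, sh4), (CfsgLib.Sporadic.CosetCert.ONData.fast0, sh0), (CfsgLib.Sporadic.CosetCert.ONData.fast4, sh4), (CfsgLib.Sporadic.CosetCert.ONData.fast5, sh5), (CfsgLib.Sporadic.CosetCert.ONData.fast4, sh4), (CfsgLib.Sporadic.CosetCert.ONData.fast1, sh1), (CfsgLib.Sporadic.CosetCert.ONData.fast4, sh4), (CfsgLib.Sporadic.CosetCert.ONData.fast1, sh1), (CfsgLib.Sporadic.CosetCert.ONData.fast5, sh5)] 0 60000 6000 = true := by decide +kernel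
theorem shiftW24_11 : constK [(CfsgLib.Sporadic.CosetCert.ONData.fast0, sh0), (CfsgLib.Sporadic.CosetCert.ONData.fast4, sh4), (CfsgLib.Sporadic.CosetCert.ONData.fast0, sh0), (CfsgLib.Sporadic.CosetCert.ONData.fast4, sh4), (CfsgLib.Sporadic.CosetCert.ONData.fast5, sh5), (CfsgLib.Sporadic.CosetCert.ONData.fast4, sh4), (CfsgLib.Sporadic.CosetCert.ONData.fast1, sh1), (CfsgLib.Sporadic.CosetCert.ONData.fast4, sh4), (CfsgLib.Sporadic.CosetCert.ONData.fast1, sh1), (CfsgLib.Sporadic.CosetCert.ONData.fast5, sh5)] 0 66000 6000 = true := by decide +kernel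
theorem shiftW24_12 : constK [(CfsgLib.Sporadic.CosetCert.ONData.fast0, sh0), (CfsgLib.Sporadic.CosetCert.ONData.fast4, sh4), (CfsgLib.Sporadic.CosetCert.ONData.fast0, sh0), (CfsgLib.Sporadic.CosetCert.ONData.fast4, sh4), (CfsgLib.Sporadic.CosetCert.ONData.fast5, sh5), (CfsgLib.Sporadic.CosetCert.ONData.fast4, sh4), (CfsgLib.Sporadic.CosetCert.ONData.fast1, sh1), (CfsgLib.Sporadic.CosetCert.ONData.fast4, sh4), (CfsgLib.Sporadic.CosetCert.ONData.fast1, sh1), (CfsgLib.Sporadic.CosetCert.ONData.fast5, sh5)] 0 72000 6000 = true := by decide +kernel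
theorem shiftW24_13 : constK [(CfsgLib.Sporadic.CosetCert.ONData.fast0, sh0), (CfsgLib.Sporadic.CosetCert.ONData.fast4, sh4), (CfsgLib.Sporadic.CosetCert.ONData.fast0, sh0), (CfsgLib.Sporadic.CosetCert.ONData.fast4, sh4), (CfsgLib.Sporadic.CosetCert.ONData.fast5, sh5), (CfsgLib.Sporadic.CosetCert.ONData.fast4, sh4), (CfsgLib.Sporadic.CosetCert.ONData.fast1, sh1), (CfsgLib.Sporadic.CosetCert.ONData.fast4, sh4), (CfsgLib.Sporadic.CosetCert.ONData.fast1, sh1), (CfsgLib.Sporadic.CosetCert.ONData.fast5, sh5)] 0 78000 6000 = true := by decide +kernel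
theorem shiftW24_14 : constK [(CfsgLib.Sporadic.CosetCert.ONData.fast0, sh0), (CfsgLib.Sporadic.CosetCert.ONData.fast4, sh4), (CfsgLib.Sporadic.CosetCert.ONData.fast0, sh0), (CfsgLib.Sporadic.CosetCert.ONData.fast4, sh4), (CfsgLib.Sporadic.CosetCert.ONData.fast5, sh5), (CfsgLib.Sporadic.CosetCert.ONData.fast4, sh4), (CfsgLib.Sporadic.CosetCert.ONData.fast1, sh1), (CfsgLib.Sporadic.CosetCert.ONData.fast4, sh4), (CfsgLib.Sporadic.CosetCert.ONData.fast1, sh1), (CfsgLib.Sporadic.CosetCert.ONData.fast5, sh5)] 0 84000 6000 = true := by decide +kernel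
theorem shiftW24_15 : constK [(CfsgLib.Sporadic.CosetCert.ONData.fast0, sh0), (CfsgLib.Sporadic.CosetCert.ONData.fast4, sh4), (CfsgLib.Sporadic.CosetCert.ONData.fast0, sh0), (CfsgLib.Sporadic.CosetCert.ONData.fast4, sh4), (CfsgLib.Sporadic.CosetCert.ONData.fast5, sh5), (CfsgLib.Sporadic.CosetCert.ONData.fast4, sh4), (CfsgLib.Sporadic.CosetCert.ONData.fast1, sh1), (CfsgLib.Sporadic.CosetCert.ONData.fast4, sh4), (CfsgLib.Sporadic.CosetCert.ONData.fast1, sh1), (CfsgLib.Sporadic.CosetCert.ONData.fast5, sh5)] 0 90000 6000 = true := by decide +kernel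
theorem shiftW24_16 : constK [(CfsgLib.Sporadic.CosetCert.ONData.fast0, sh0), (CfsgLib.Sporadic.CosetCert.ONData.fast4, sh4), (CfsgLib.Sporadic.CosetCert.ONData.fast0, sh0), (CfsgLib.Sporadic.CosetCert.ONData.fast4, sh4), (CfsgLib.Sporadic.CosetCert.ONData.fast5, sh5), (CfsgLib.Sporadic.CosetCert.ONData.fast4, sh4), (CfsgLib.Sporadic.CosetCert.ONData.fast1, sh1), (CfsgLib.Sporadic.CosetCert.ONData.fast4, sh4), (CfsgLib.Sporadic.CosetCert.ONData.fast1, sh1), (CfsgLib.Sporadic.CosetCert.ONData.fast5, sh5)] 0 96000 6000 = true := by decide +kernel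
theorem shiftW24_17 : constK [(CfsgLib.Sporadic.CosetCert.ONData.fast0, sh0), (CfsgLib.Sporadic.CosetCert.ONData.fast4, sh4), (CfsgLib.Sporadic.CosetCert.ONData.fast0, sh0), (CfsgLib.Sporadic.CosetCert.ONData.fast4, sh4), (CfsgLib.Sporadic.CosetCert.ONData.fast5, sh5), (CfsgLib.Sporadic.CosetCert.ONData.fast4, sh4), (CfsgLib.Sporadic.CosetCert.ONData.fast1, sh1), (CfsgLib.Sporadic.CosetCert.ONData.fast4, sh4), (CfsgLib.Sporadic.CosetCert.ONData.fast1, sh1), (CfsgLib.Sporadic.CosetCert.ONData.fast5, sh5)] 0 102000 6000 = true := by decide +kernel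
theorem shiftW24_18 : constK [(CfsgLib.Sporadic.CosetCert.ONData.fast0, sh0), (CfsgLib.Sporadic.CosetCert.ONData.fast4, sh4), (CfsgLib.Sporadic.CosetCert.ONData.fast0, sh0), (CfsgLib.Sporadic.CosetCert.ONData.fast4, sh4), (CfsgLib.Sporadic.CosetCert.ONData.fast5, sh5), (CfsgLib.Sporadic.CosetCert.ONData.fast4, sh4), (CfsgLib.Sporadic.CosetCert.ONData.fast1, sh1), (CfsgLib.Sporadic.CosetCert.ONData.fast4, sh4), (CfsgLib.Sporadic.CosetCert.ONData.fast1, sh1), (CfsgLib.Sporadic.CosetCert.ONData.fast5, sh5)] 0 108000 6000 = true := by decide +kernel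
theorem shiftW24_19 : constK [(CfsgLib.Sporadic.CosetCert.ONData.fast0, sh0), (CfsgLib.Sporadic.CosetCert.ONData.fast4, sh4), (CfsgLib.Sporadic.CosetCert.ONData.fast0, sh0), (CfsgLib.Sporadic.CosetCert.ONData.fast4, sh4), (CfsgLib.Sporadic.CosetCert.ONData.fast5, sh5), (CfsgLib.Sporadic.CosetCert.ONData.fast4, sh4), (CfsgLib.Sporadic.CosetCert.ONData.fast1, sh1), (CfsgLib.Sporadic.CosetCert.ONData.fast4, sh4), (CfsgLib.Sporadic.CosetCert.ONData.fast1, sh1), (CfsgLib.Sporadic.CosetCert.ONData.fast5, sh5)] 0 114000 6000 = true := by decide +kernel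
theorem shiftW24_20 : constK [(CfsgLib.Sporadic.CosetCert.ONData.fast0, sh0), (CfsgLib.Sporadic.CosetCert.ONData.fast4, sh4), (CfsgLib.Sporadic.CosetCert.ONData.fast0, sh0), (CfsgLib.Sporadic.CosetCert.ONData.fast4, sh4), (CfsgLib.Sporadic.CosetCert.ONData.fast5, sh5), (CfsgLib.Sporadic.CosetCert.ONData.fast4, sh4), (CfsgLib.Sporadic.CosetCert.ONData.fast1, sh1), (CfsgLib.Sporadic.CosetCert.ONData.fast4, sh4), (CfsgLib.Sporadic.CosetCert.ONData.fast1, sh1), (CfsgLib.Sporadic.CosetCert.ONData.fast5, sh5)] 0 120000 2760 = true := by decide +kernel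

theorem shiftW24 : ∀ u < 122760, Nat.mod (runS [(CfsgLib.Sporadic.CosetCert.ONData.fast0, sh0), (CfsgLib.Sporadic.CosetCert.ONData.fast4, sh4), (CfsgLib.Sporadic.CosetCert.ONData.fast0, sh0), (CfsgLib.Sporadic.CosetCert.ONData.fast4, sh4), (CfsgLib.Sporadic.CosetCert.ONData.fast5, sh5), (CfsgLib.Sporadic.CosetCert.ONData.fast4, sh4), (CfsgLib.Sporadic.CosetCert.ONData.fast1, sh1), (CfsgLib.Sporadic.CosetCert.ONData.fast4, sh4), (CfsgLib.Sporadic.CosetCert.ONData.fast1, sh1), (CfsgLib.Sporadic.CosetCert.ONData.fast5, sh5)] u) 3 = 0 := fun u hu =>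
  (range_split (range_split (range_split (range_split (constK_spec shiftW24_0) (constK_spec shiftW24_1)) (range_split (constK_spec shiftW24_2) (range_split (constK_spec shiftW24_3) (constK_spec shiftW24_4)))) (range_split (range_split (constK_spec shiftW24_5) (constK_spec shiftW24_6)) (range_split (constK_spec shiftW24_7) (range_split (constK_spec shiftW24_8) (constK_spec shiftW24_9))))) (range_split (range_split (range_split (constK_spec shiftW24_10) (constK_spec shiftW24_11)) (range_split (constK_spec shiftW24_12) (range_split (constK_spec shiftW24_13) (constK_spec shiftW24_14)))) (range_split (range_split (constK_spec shiftW24_15) (range_split (constK_spec shiftW24_16) (constK_spec shiftW24_17))) (range_split (constK_spec shiftW24_18) (range_split (constK_spec shiftW24_19) (constK_spec shiftW24_20)))))) u (Nat.zero_le _) hu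

theorem shiftW29_0 : constK [(CfsgLib.Sporadic.CosetCert.ONData.fast1, sh1), (CfsgLib.Sporadic.CosetCert.ONData.fast0, sh0)] 0 0 6000 = true := by decide +kernel
theorem shiftW29_1 : constK [(CfsgLib.Sporadic.CosetCert.ONData.fast1, sh1), (CfsgLib.Sporadic.CosetCert.ONData.fast0, sh0)] 0 6000 6000 = true := by decide +kernel
theorem shiftW29_2 : constK [(CfsgLib.Sporadic.CosetCert.ONData.fast1, sh1), (CfsgLib.Sporadic.CosetCert.ONData.fast0, sh0)] 0 12000 6000 = true := by decide +kernel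
theorem shiftW29_3 : constK [(CfsgLib.Sporadic.CosetCert.ONData.fast1, sh1), (CfsgLib.Sporadic.CosetCert.ONData.fast0, sh0)] 0 18000 6000 = true := by decide +kernel
theorem shiftW29_4 : constK [(CfsgLib.Sporadic.CosetCert.ONData.fast1, sh1), (CfsgLib.Sporadic.CosetCert.ONData.fast0, sh0)] 0 24000 6000 = true := by decide +kernel
theorem shiftW29_5 : constK [(CfsgLib.Sporadic.CosetCert.ONData.fast1, sh1), (CfsgLib.Sporadic.CosetCert.ONData.fast0, sh0)] 0 30000 6000 = true := by decide +kernel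
theorem shiftW29_6 : constK [(CfsgLib.Sporadic.CosetCert.ONData.fast1, sh1), (CfsgLib.Sporadic.CosetCert.ONData.fast0, sh0)] 0 36000 6000 = true := by decide +kernel
theorem shiftW29_7 : constK [(CfsgLib.Sporadic.CosetCert.ONData.fast1, sh1), (CfsgLib.Sporadic.CosetCert.ONData.fast0, sh0)] 0 42000 6000 = true := by decide +kernel
theorem shiftW29_8 : constK [(CfsgLib.Sporadic.CosetCert.ONData.fast1, sh1), (CfsgLib.Sporadic.CosetCert.ONData.fast0, sh0)] 0 48000 6000 = true := by decide +kernel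
theorem shiftW29_9 : constK [(CfsgLib.Sporadic.CosetCert.ONData.fast1, sh1), (CfsgLib.Sporadic.CosetCert.ONData.fast0, sh0)] 0 54000 6000 = true := by decide +kernel
theorem shiftW29_10 : constK [(CfsgLib.Sporadic.CosetCert.ONData.fast1, sh1), (CfsgLib.Sporadic.CosetCert.ONData.fast0, sh0)] 0 60000 6000 = true := by decide +kernel
theorem shiftW29_11 : constK [(CfsgLib.Sporadic.CosetCert.ONData.fast1, sh1), (CfsgLib.Sporadic.CosetCert.ONData.fast0, sh0)] 0 66000 6000 = true := by decide +kernel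
theorem shiftW29_12 : constK [(CfsgLib.Sporadic.CosetCert.ONData.fast1, sh1), (CfsgLib.Sporadic.CosetCert.ONData.fast0, sh0)] 0 72000 6000 = true := by decide +kernel
theorem shiftW29_13 : constK [(CfsgLib.Sporadic.CosetCert.ONData.fast1, sh1), (CfsgLib.Sporadic.CosetCert.ONData.fast0, sh0)] 0 78000 6000 = true := by decide +kernel
theorem shiftW29_14 : constK [(CfsgLib.Sporadic.CosetCert.ONData.fast1, sh1), (CfsgLib.Sporadic.CosetCert.ONData.fast0, sh0)] 0 84000 6000 = true := by decide +kernel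
theorem shiftW29_15 : constK [(CfsgLib.Sporadic.CosetCert.ONData.fast1, sh1), (CfsgLib.Sporadic.CosetCert.ONData.fast0, sh0)] 0 90000 6000 = true := by decide +kernel
theorem shiftW29_16 : constK [(CfsgLib.Sporadic.CosetCert.ONData.fast1, sh1), (CfsgLib.Sporadic.CosetCert.ONData.fast0, sh0)] 0 96000 6000 = true := by decide +kernel
theorem shiftW29_17 : constK [(CfsgLib.Sporadic.CosetCert.ONData.fast1, sh1), (CfsgLib.Sporadic.CosetCert.ONData.fast0, sh0)] 0 102000 6000 = true := by decide +kernel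
theorem shiftW29_18 : constK [(CfsgLib.Sporadic.CosetCert.ONData.fast1, sh1), (CfsgLib.Sporadic.CosetCert.ONData.fast0, sh0)] 0 108000 6000 = true := by decide +kernel
theorem shiftW29_19 : constK [(CfsgLib.Sporadic.CosetCert.ONData.fast1, sh1), (CfsgLib.Sporadic.CosetCert.ONData.fast0, sh0)] 0 114000 6000 = true := by decide +kernel
theorem shiftW29_20 : constK [(CfsgLib.Sporadic.CosetCert.ONData.fast1, sh1), (CfsgLib.Sporadic.CosetCert.ONData.fast0, sh0)] 0 120000 2760 = true := by decide +kernel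

theorem shiftW29 : ∀ u < 122760, Nat.mod (runS [(CfsgLib.Sporadic.CosetCert.ONData.fast1, sh1), (CfsgLib.Sporadic.CosetCert.ONData.fast0, sh0)] u) 3 = 0 := fun u hu =>
  (range_split (range_split (range_split (range_split (constK_spec shiftW29_0) (constK_spec shiftW29_1)) (range_split (constK_spec shiftW29_2) (range_split (constK_spec shiftW29_3) (constK_spec shiftW29_4)))) (range_split (range_split (constK_spec shiftW29_5) (constK_spec shiftW29_6)) (range_split (constK_spec shiftW29_7) (range_split (constK_spec shiftW29_8) (constK_spec shiftW29_9))))) (range_split (range_split (range_split (constK_spec shiftW29_10) (constK_spec shiftW29_11)) (range_split (constK_spec shiftW29_12) (range_split (constK_spec shiftW29_13) (constK_spec shiftW29_14)))) (range_split (range_split (constK_spec shiftW29_15) (range_split (constK_spec shiftW29_16) (constK_spec shiftW29_17))) (range_split (constK_spec shiftW29_18) (range_split (constK_spec shiftW29_19) (constK_spec shiftW29_20))))))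 u (Nat.zero_le _) hu

end CfsgLib.Schur.Sporadic.ON
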