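import Cfsg.Agent.Lib.Schur.ON.Shift

/-!
Kernel checks of the triple cover of the O'Nan group: the lifted relators shift all sheets alike.
-/

set_option autoImplicit false
set_option maxRecDepth 100000
set_option maxHeartbeats 0
set_option Elab.async false

namespace CfsgLib.Schur.Sporadic.ON

open CfsgLib.Sporadic.CosetCert (range_split)

theorem shiftW1_0 : constK [(CfsgLib.Sporadic.CosetCert.ONData.fast3, sh3), (CfsgLib.Sporadic.CosetCert.ONData.fast2, sh2), (CfsgLib.Sporadic.CosetCert.ONData.fast3, sh3), (CfsgLib.Sporadic.CosetCert.ONData.fast2, sh2), (CfsgLib.Sporadic.CosetCert.ONData.fast3, sh3), (CfsgLib.Sporadic.CosetCert.ONData.fast2, sh2)] 0 0 6000 = true := by decide +kernel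
theorem shiftW1_1 : constK [(CfsgLib.Sporadic.CosetCert.ONData.fast3, sh3), (CfsgLib.Sporadic.CosetCert.ONData.fast2, sh2), (CfsgLib.Sporadic.CosetCert.ONData.fast3, sh3), (CfsgLib.Sporadic.CosetCert.ONData.fast2, sh2), (CfsgLib.Sporadic.CosetCert.ONData.fast3, sh3), (CfsgLib.Sporadic.CosetCert.ONData.fast2, sh2)] 0 6000 6000 = true := by decide +kernel
theorem shiftW1_2 : constK [(CfsgLib.Sporadic.CosetCert.ONData.fast3, sh3), (CfsgLib.Sporadic.CosetCert.ONData.fast2, sh2), (CfsgLib.Sporadic.CosetCert.ONData.fast3, sh3), (CfsgLib.Sporadic.CosetCert.ONData.fast2, sh2), (CfsgLib.Sporadic.CosetCert.ONData.fast3, sh3), (CfsgLib.Sporadic.CosetCert.ONData.fast2, sh2)] 0 12000 6000 = true := by decide +kernel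
theorem shiftW1_3 : constK [(CfsgLib.Sporadic.CosetCert.ONData.fast3, sh3), (CfsgLib.Sporadic.CosetCert.ONData.fast2, sh2), (CfsgLib.Sporadic.CosetCert.ONData.fast3, sh3), (CfsgLib.Sporadic.CosetCert.ONData.fast2, sh2), (CfsgLib.Sporadic.CosetCert.ONData.fast3, sh3), (CfsgLib.Sporadic.CosetCert.ONData.fast2, sh2)] 0 18000 6000 = true := by decide +kernel
theorem shiftW1_4 : constK [(CfsgLib.Sporadic.CosetCert.ONData.fast3, sh3), (CfsgLib.Sporadic.CosetCert.ONData.fast2, sh2), (CfsgLib.Sporadic.CosetCert.ONData.fast3, sh3), (CfsgLib.Sporadic.CosetCert.ONData.fast2, sh2), (CfsgLib.Sporadic.CosetCert.ONData.fast3, sh3), (CfsgLib.Sporadic.CosetCert.ONData.fast2, sh2)] 0 24000 6000 = true := by decide +kernel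
theorem shiftW1_5 : constK [(CfsgLib.Sporadic.CosetCert.ONData.fast3, sh3), (CfsgLib.Sporadic.CosetCert.ONData.fast2, sh2), (CfsgLib.Sporadic.CosetCert.ONData.fast3, sh3), (CfsgLib.Sporadic.CosetCert.ONData.fast2, sh2), (CfsgLib.Sporadic.CosetCert.ONData.fast3, sh3), (CfsgLib.Sporadic.CosetCert.ONData.fast2, sh2)] 0 30000 6000 = true := by decide +kernel
theorem shiftW1_6 : constK [(CfsgLib.Sporadic.CosetCert.ONData.fast3, sh3), (CfsgLib.Sporadic.CosetCert.ONData.fast2, sh2), (CfsgLib.Sporadic.CosetCert.ONData.fast3, sh3), (CfsgLib.Sporadic.CosetCert.ONData.fast2, sh2), (CfsgLib.Sporadic.CosetCert.ONData.fast3, sh3), (CfsgLib.Sporadic.CosetCert.ONData.fast2, sh2)] 0 36000 6000 = true := by decide +kernel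
theorem shiftW1_7 : constK [(CfsgLib.Sporadic.CosetCert.ONData.fast3, sh3), (CfsgLib.Sporadic.CosetCert.ONData.fast2, sh2), (CfsgLib.Sporadic.CosetCert.ONData.fast3, sh3), (CfsgLib.Sporadic.CosetCert.ONData.fast2, sh2), (CfsgLib.Sporadic.CosetCert.ONData.fast3, sh3), (CfsgLib.Sporadic.CosetCert.ONData.fast2, sh2)] 0 42000 6000 = true := by decide +kernel
theorem shiftW1_8 : constK [(CfsgLib.Sporadic.CosetCert.ONData.fast3, sh3), (CfsgLib.Sporadic.CosetCert.ONData.fast2, sh2), (CfsgLib.Sporadic.CosetCert.ONData.fast3, sh3), (CfsgLib.Sporadic.CosetCert.ONData.fast2, sh2), (CfsgLib.Sporadic.CosetCert.ONData.fast3, sh3), (CfsgLib.Sporadic.CosetCert.ONData.fast2, sh2)] 0 48000 6000 = true := by decide +kernel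
theorem shiftW1_9 : constK [(CfsgLib.Sporadic.CosetCert.ONData.fast3, sh3), (CfsgLib.Sporadic.CosetCert.ONData.fast2, sh2), (CfsgLib.Sporadic.CosetCert.ONData.fast3, sh3), (CfsgLib.Sporadic.CosetCert.ONData.fast2, sh2), (CfsgLib.Sporadic.CosetCert.ONData.fast3, sh3), (CfsgLib.Sporadic.CosetCert.ONData.fast2, sh2)] 0 54000 6000 = true := by decide +kernel
theorem shiftW1_10 : constK [(CfsgLib.Sporadic.CosetCert.ONData.fast3, sh3), (CfsgLib.Sporadic.CosetCert.ONData.fast2, sh2), (CfsgLib.Sporadic.CosetCert.ONData.fast3, sh3), (CfsgLib.Sporadic.CosetCert.ONData.fast2, sh2), (CfsgLib.Sporadic.CosetCert.ONData.fast3, sh3), (CfsgLib.Sporadic.CosetCert.ONData.fast2, sh2)] 0 60000 6000 = true := by decide +kernel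
theorem shiftW1_11 : constK [(CfsgLib.Sporadic.CosetCert.ONData.fast3, sh3), (CfsgLib.Sporadic.CosetCert.ONData.fast2, sh2), (CfsgLib.Sporadic.CosetCert.ONData.fast3, sh3), (CfsgLib.Sporadic.CosetCert.ONData.fast2, sh2), (CfsgLib.Sporadic.CosetCert.ONData.fast3, sh3), (CfsgLib.Sporadic.CosetCert.ONData.fast2, sh2)] 0 66000 6000 = true := by decide +kernel
theorem shiftW1_12 : constK [(CfsgLib.Sporadic.CosetCert.ONData.fast3, sh3), (CfsgLib.Sporadic.CosetCert.ONData.fast2, sh2), (CfsgLib.Sporadic.CosetCert.ONData.fast3, sh3), (CfsgLib.Sporadic.CosetCert.ONData.fast2, sh2), (CfsgLib.Sporadic.CosetCert.ONData.fast3, sh3), (CfsgLib.Sporadic.CosetCert.ONData.fast2, sh2)] 0 72000 6000 = true := by decide +kernel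
theorem shiftW1_13 : constK [(CfsgLib.Sporadic.CosetCert.ONData.fast3, sh3), (CfsgLib.Sporadic.CosetCert.ONData.fast2, sh2), (CfsgLib.Sporadic.CosetCert.ONData.fast3, sh3), (CfsgLib.Sporadic.CosetCert.ONData.fast2, sh2), (CfsgLib.Sporadic.CosetCert.ONData.fast3, sh3), (CfsgLib.Sporadic.CosetCert.ONData.fast2, sh2)] 0 78000 6000 = true := by decide +kernel
theorem shiftW1_14 : constK [(CfsgLib.Sporadic.CosetCert.ONData.fast3, sh3), (CfsgLib.Sporadic.CosetCert.ONData.fast2, sh2), (CfsgLib.Sporadic.CosetCert.ONData.fast3, sh3), (CfsgLib.Sporadic.CosetCert.ONData.fast2, sh2), (CfsgLib.Sporadic.CosetCert.ONData.fast3, sh3), (CfsgLib.Sporadic.CosetCert.ONData.fast2, sh2)] 0 84000 6000 = true := by decide +kernel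
theorem shiftW1_15 : constK [(CfsgLib.Sporadic.CosetCert.ONData.fast3, sh3), (CfsgLib.Sporadic.CosetCert.ONData.fast2, sh2), (CfsgLib.Sporadic.CosetCert.ONData.fast3, sh3), (CfsgLib.Sporadic.CosetCert.ONData.fast2, sh2), (CfsgLib.Sporadic.CosetCert.ONData.fast3, sh3), (CfsgLib.Sporadic.CosetCert.ONData.fast2, sh2)] 0 90000 6000 = true := by decide +kernel
theorem shiftW1_16 : constK [(CfsgLib.Sporadic.CosetCert.ONData.fast3, sh3), (CfsgLib.Sporadic.CosetCert.ONData.fast2, sh2), (CfsgLib.Sporadic.CosetCert.ONData.fast3, sh3), (CfsgLib.Sporadic.CosetCert.ONData.fast2, sh2), (CfsgLib.Sporadic.CosetCert.ONData.fast3, sh3), (CfsgLib.Sporadic.CosetCert.ONData.fast2, sh2)] 0 96000 6000 = true := by decide +kernel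
theorem shiftW1_17 : constK [(CfsgLib.Sporadic.CosetCert.ONData.fast3, sh3), (CfsgLib.Sporadic.CosetCert.ONData.fast2, sh2), (CfsgLib.Sporadic.CosetCert.ONData.fast3, sh3), (CfsgLib.Sporadic.CosetCert.ONData.fast2, sh2), (CfsgLib.Sporadic.CosetCert.ONData.fast3, sh3), (CfsgLib.Sporadic.CosetCert.ONData.fast2, sh2)] 0 102000 6000 = true := by decide +kernel
theorem shiftW1_18 : constK [(CfsgLib.Sporadic.CosetCert.ONData.fast3, sh3), (CfsgLib.Sporadic.CosetCert.ONData.fast2, sh2), (CfsgLib.Sporadic.CosetCert.ONData.fast3, sh3), (CfsgLib.Sporadic.CosetCert.ONData.fast2, sh2), (CfsgLib.Sporadic.CosetCert.ONData.fast3, sh3), (CfsgLib.Sporadic.CosetCert.ONData.fast2, sh2)] 0 108000 6000 = true := by decide +kernel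
theorem shiftW1_19 : constK [(CfsgLib.Sporadic.CosetCert.ONData.fast3, sh3), (CfsgLib.Sporadic.CosetCert.ONData.fast2, sh2), (CfsgLib.Sporadic.CosetCert.ONData.fast3, sh3), (CfsgLib.Sporadic.CosetCert.ONData.fast2, sh2), (CfsgLib.Sporadic.CosetCert.ONData.fast3, sh3), (CfsgLib.Sporadic.CosetCert.ONData.fast2, sh2)] 0 114000 6000 = true := by decide +kernel
theorem shiftW1_20 : constK [(CfsgLib.Sporadic.CosetCert.ONData.fast3, sh3), (CfsgLib.Sporadic.CosetCert.ONData.fast2, sh2), (CfsgLib.Sporadic.CosetCert.ONData.fast3, sh3), (CfsgLib.Sporadic.CosetCert.ONData.fast2, sh2), (CfsgLib.Sporadic.CosetCert.ONData.fast3, sh3), (CfsgLib.Sporadic.CosetCert.ONData.fast2, sh2)] 0 120000 2760 = true := by decide +kernel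

theorem shiftW1 : ∀ u < 122760, Nat.mod (runS [(CfsgLib.Sporadic.CosetCert.ONData.fast3, sh3), (CfsgLib.Sporadic.CosetCert.ONData.fast2, sh2), (CfsgLib.Sporadic.CosetCert.ONData.fast3, sh3), (CfsgLib.Sporadic.CosetCert.ONData.fast2, sh2), (CfsgLib.Sporadic.CosetCert.ONData.fast3, sh3), (CfsgLib.Sporadic.CosetCert.ONData.fast2, sh2)] u) 3 = 0 := fun u hu =>
  (range_split (range_split (range_split (range_split (constK_spec shiftW1_0) (constK_spec shiftW1_1)) (range_split (constK_spec shiftW1_2) (range_split (constK_spec shiftW1_3) (constK_spec shiftW1_4)))) (range_split (range_split (constK_spec shiftW1_5) (constK_spec shiftW1_6)) (range_split (constK_spec shiftW1_7) (range_split (constK_spec shiftW1_8) (constK_spec shiftW1_9))))) (range_split (range_split (range_split (constK_spec shiftW1_10) (constK_spec shiftW1_11)) (range_split (constK_spec shiftW1_12) (range_split (constK_spec shiftW1_13) (constK_spec shiftW1_14)))) (range_split (range_split (constK_spec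 shiftW1_15) (range_split (constK_spec shiftW1_16) (constK_spec shiftW1_17))) (range_split (constK_spec shiftW1_18) (range_split (constK_spec shiftW1_19) (constK_spec shiftW1_20)))))) u (Nat.zero_le _) hu

theorem shiftW5_0 : constK [(CfsgLib.Sporadic.CosetCert.ONData.fast7, sh7), (CfsgLib.Sporadic.CosetCert.ONData.fast2, sh2), (CfsgLib.Sporadic.CosetCert.ONData.fast7, sh7), (CfsgLib.Sporadic.CosetCert.ONData.fast2, sh2)] 0 0 6000 = true := by decide +kernel
theorem shiftW5_1 : constK [(CfsgLib.Sporadic.CosetCert.ONData.fast7, sh7), (CfsgLib.Sporadic.CosetCert.ONData.fast2, sh2), (CfsgLib.Sporadic.CosetCert.ONData.fast7, sh7), (CfsgLib.Sporadic.CosetCert.ONData.fast2, sh2)] 0 6000 6000 = true := by decide +kernel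
theorem shiftW5_2 : constK [(CfsgLib.Sporadic.CosetCert.ONData.fast7, sh7), (CfsgLib.Sporadic.CosetCert.ONData.fast2, sh2), (CfsgLib.Sporadic.CosetCert.ONData.fast7, sh7), (CfsgLib.Sporadic.CosetCert.ONData.fast2, sh2)] 0 12000 6000 = true := by decide +kernel
theorem shiftW5_3 : constK [(CfsgLib.Sporadic.CosetCert.ONData.fast7, sh7), (CfsgLib.Sporadic.CosetCert.ONData.fast2, sh2), (CfsgLib.Sporadic.CosetCert.ONData.fast7, sh7), (CfsgLib.Sporadic.CosetCert.ONData.fast2, sh2)] 0 18000 6000 = true := by decide +kernel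
theorem shiftW5_4 : constK [(CfsgLib.Sporadic.CosetCert.ONData.fast7, sh7), (CfsgLib.Sporadic.CosetCert.ONData.fast2, sh2), (CfsgLib.Sporadic.CosetCert.ONData.fast7, sh7), (CfsgLib.Sporadic.CosetCert.ONData.fast2, sh2)] 0 24000 6000 = true := by decide +kernel
theorem shiftW5_5 : constK [(CfsgLib.Sporadic.CosetCert.ONData.fast7, sh7), (CfsgLib.Sporadic.CosetCert.ONData.fast2, sh2), (CfsgLib.Sporadic.CosetCert.ONData.fast7, sh7), (CfsgLib.Sporadic.CosetCert.ONData.fast2, sh2)] 0 30000 6000 = true := by decide +kernel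
theorem shiftW5_6 : constK [(CfsgLib.Sporadic.CosetCert.ONData.fast7, sh7), (CfsgLib.Sporadic.CosetCert.ONData.fast2, sh2), (CfsgLib.Sporadic.CosetCert.ONData.fast7, sh7), (CfsgLib.Sporadic.CosetCert.ONData.fast2, sh2)] 0 36000 6000 = true := by decide +kernel
theorem shiftW5_7 : constK [(CfsgLib.Sporadic.CosetCert.ONData.fast7, sh7), (CfsgLib.Sporadic.CosetCert.ONData.fast2, sh2), (CfsgLib.Sporadic.CosetCert.ONData.fast7, sh7), (CfsgLib.Sporadic.CosetCert.ONData.fast2, sh2)] 0 42000 6000 = true := by decide +kernel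
theorem shiftW5_8 : constK [(CfsgLib.Sporadic.CosetCert.ONData.fast7, sh7), (CfsgLib.Sporadic.CosetCert.ONData.fast2, sh2), (CfsgLib.Sporadic.CosetCert.ONData.fast7, sh7), (CfsgLib.Sporadic.CosetCert.ONData.fast2, sh2)] 0 48000 6000 = true := by decide +kernel
theorem shiftW5_9 : constK [(CfsgLib.Sporadic.CosetCert.ONData.fast7, sh7), (CfsgLib.Sporadic.CosetCert.ONData.fast2, sh2), (CfsgLib.Sporadic.CosetCert.ONData.fast7, sh7), (CfsgLib.Sporadic.CosetCert.ONData.fast2, sh2)] 0 54000 6000 = true := by decide +kernel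
theorem shiftW5_10 : constK [(CfsgLib.Sporadic.CosetCert.ONData.fast7, sh7), (CfsgLib.Sporadic.CosetCert.ONData.fast2, sh2), (CfsgLib.Sporadic.CosetCert.ONData.fast7, sh7), (CfsgLib.Sporadic.CosetCert.ONData.fast2, sh2)] 0 60000 6000 = true := by decide +kernel
theorem shiftW5_11 : constK [(CfsgLib.Sporadic.CosetCert.ONData.fast7, sh7), (CfsgLib.Sporadic.CosetCert.ONData.fast2, sh2), (CfsgLib.Sporadic.CosetCert.ONData.fast7, sh7), (CfsgLib.Sporadic.CosetCert.ONData.fast2, sh2)] 0 66000 6000 = true := by decide +kernel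
theorem shiftW5_12 : constK [(CfsgLib.Sporadic.CosetCert.ONData.fast7, sh7), (CfsgLib.Sporadic.CosetCert.ONData.fast2, sh2), (CfsgLib.Sporadic.CosetCert.ONData.fast7, sh7), (CfsgLib.Sporadic.CosetCert.ONData.fast2, sh2)] 0 72000 6000 = true := by decide +kernel
theorem shiftW5_13 : constK [(CfsgLib.Sporadic.CosetCert.ONData.fast7, sh7), (CfsgLib.Sporadic.CosetCert.ONData.fast2, sh2), (CfsgLib.Sporadic.CosetCert.ONData.fast7, sh7), (CfsgLib.Sporadic.CosetCert.ONData.fast2, sh2)] 0 78000 6000 = true := by decide +kernel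
theorem shiftW5_14 : constK [(CfsgLib.Sporadic.CosetCert.ONData.fast7, sh7), (CfsgLib.Sporadic.CosetCert.ONData.fast2, sh2), (CfsgLib.Sporadic.CosetCert.ONData.fast7, sh7), (CfsgLib.Sporadic.CosetCert.ONData.fast2, sh2)] 0 84000 6000 = true := by decide +kernel
theorem shiftW5_15 : constK [(CfsgLib.Sporadic.CosetCert.ONData.fast7, sh7), (CfsgLib.Sporadic.CosetCert.ONData.fast2, sh2), (CfsgLib.Sporadic.CosetCert.ONData.fast7, sh7), (CfsgLib.Sporadic.CosetCert.ONData.fast2, sh2)] 0 90000 6000 = true := by decide +kernel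
theorem shiftW5_16 : constK [(CfsgLib.Sporadic.CosetCert.ONData.fast7, sh7), (CfsgLib.Sporadic.CosetCert.ONData.fast2, sh2), (CfsgLib.Sporadic.CosetCert.ONData.fast7, sh7), (CfsgLib.Sporadic.CosetCert.ONData.fast2, sh2)] 0 96000 6000 = true := by decide +kernel
theorem shiftW5_17 : constK [(CfsgLib.Sporadic.CosetCert.ONData.fast7, sh7), (CfsgLib.Sporadic.CosetCert.ONData.fast2, sh2), (CfsgLib.Sporadic.CosetCert.ONData.fast7, sh7), (CfsgLib.Sporadic.CosetCert.ONData.fast2, sh2)] 0 102000 6000 = true := by decide +kernel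
theorem shiftW5_18 : constK [(CfsgLib.Sporadic.CosetCert.ONData.fast7, sh7), (CfsgLib.Sporadic.CosetCert.ONData.fast2, sh2), (CfsgLib.Sporadic.CosetCert.ONData.fast7, sh7), (CfsgLib.Sporadic.CosetCert.ONData.fast2, sh2)] 0 108000 6000 = true := by decide +kernel
theorem shiftW5_19 : constK [(CfsgLib.Sporadic.CosetCert.ONData.fast7, sh7), (CfsgLib.Sporadic.CosetCert.ONData.fast2, sh2), (CfsgLib.Sporadic.CosetCert.ONData.fast7, sh7), (CfsgLib.Sporadic.CosetCert.ONData.fast2, sh2)] 0 114000 6000 = true := by decide +kernel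
theorem shiftW5_20 : constK [(CfsgLib.Sporadic.CosetCert.ONData.fast7, sh7), (CfsgLib.Sporadic.CosetCert.ONData.fast2, sh2), (CfsgLib.Sporadic.CosetCert.ONData.fast7, sh7), (CfsgLib.Sporadic.CosetCert.ONData.fast2, sh2)] 0 120000 2760 = true := by decide +kernel

theorem shiftW5 : ∀ u < 122760, Nat.mod (runS [(CfsgLib.Sporadic.CosetCert.ONData.fast7, sh7), (CfsgLib.Sporadic.CosetCert.ONData.fast2, sh2), (CfsgLib.Sporadic.CosetCert.ONData.fast7, sh7), (CfsgLib.Sporadic.CosetCert.ONData.fast2, sh2)] u) 3 = 0 := fun u hu =>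
  (range_split (range_split (range_split (range_split (constK_spec shiftW5_0) (constK_spec shiftW5_1)) (range_split (constK_spec shiftW5_2) (range_split (constK_spec shiftW5_3) (constK_spec shiftW5_4)))) (range_split (range_split (constK_spec shiftW5_5) (constK_spec shiftW5_6)) (range_split (constK_spec shiftW5_7) (range_split (constK_spec shiftW5_8) (constK_spec shiftW5_9))))) (range_split (range_split (range_split (constK_spec shiftW5_10) (constK_spec shiftW5_11)) (range_split (constK_spec shiftW5_12) (range_split (constK_spec shiftW5_13) (constK_spec shiftW5_14)))) (range_split (range_split (constK_spec shiftW5_15) (range_split (constK_spec shiftW5_16) (constK_spec shiftW5_17))) (range_split (constK_spec shiftW5_18) (range_split (constK_spec shiftW5_19) (constK_spec shiftW5_20)))))) u (Nat.zero_le _) hu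

theorem shiftW7_0 : constK [(CfsgLib.Sporadic.CosetCert.ONData.fast4, sh4), (CfsgLib.Sporadic.CosetCert.ONData.fast3, sh3), (CfsgLib.Sporadic.CosetCert.ONData.fast4, sh4), (CfsgLib.Sporadic.CosetCert.ONData.fast3, sh3), (CfsgLib.Sporadic.CosetCert.ONData.fast4, sh4), (CfsgLib.Sporadic.CosetCert.ONData.fast3, sh3)] 0 0 6000 = true := by decide +kernel
theorem shiftW7_1 : constK [(CfsgLib.Sporadic.CosetCert.ONData.fast4, sh4), (CfsgLib.Sporadic.CosetCert.ONData.fast3, sh3), (CfsgLib.Sporadic.CosetCert.ONData.fast4, sh4), (CfsgLib.Sporadic.CosetCert.ONData.fast3, sh3), (CfsgLib.Sporadic.CosetCert.ONData.fast4, sh4), (CfsgLib.Sporadic.CosetCert.ONData.fast3, sh3)] 0 6000 6000 = true := by decide +kernel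
theorem shiftW7_2 : constK [(CfsgLib.Sporadic.CosetCert.ONData.fast4, sh4), (CfsgLib.Sporadic.CosetCert.ONData.fast3, sh3), (CfsgLib.Sporadic.CosetCert.ONData.fast4, sh4), (CfsgLib.Sporadic.CosetCert.ONData.fast3, sh3), (CfsgLib.Sporadic.CosetCert.ONData.fast4, sh4), (CfsgLib.Sporadic.CosetCert.ONData.fast3, sh3)] 0 12000 6000 = true := by decide +kernel
theorem shiftW7_3 : constK [(CfsgLib.Sporadic.CosetCert.ONData.fast4, sh4), (CfsgLib.Sporadic.CosetCert.ONData.fast3, sh3), (CfsgLib.Sporadic.CosetCert.ONData.fast4, sh4), (CfsgLib.Sporadic.CosetCert.ONData.fast3, sh3), (CfsgLib.Sporadic.CosetCert.ONData.fast4, sh4), (CfsgLib.Sporadic.CosetCert.ONData.fast3, sh3)] 0 18000 6000 = true := by decide +kernel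
theorem shiftW7_4 : constK [(CfsgLib.Sporadic.CosetCert.ONData.fast4, sh4), (CfsgLib.Sporadic.CosetCert.ONData.fast3, sh3), (CfsgLib.Sporadic.CosetCert.ONData.fast4, sh4), (CfsgLib.Sporadic.CosetCert.ONData.fast3, sh3), (CfsgLib.Sporadic.CosetCert.ONData.fast4, sh4), (CfsgLib.Sporadic.CosetCert.ONData.fast3, sh3)] 0 24000 6000 = true := by decide +kernel
theorem shiftW7_5 : constK [(CfsgLib.Sporadic.CosetCert.ONData.fast4, sh4), (CfsgLib.Sporadic.CosetCert.ONData.fast3, sh3), (CfsgLib.Sporadic.CosetCert.ONData.fast4, sh4), (CfsgLib.Sporadic.CosetCert.ONData.fast3, sh3), (CfsgLib.Sporadic.CosetCert.ONData.fast4, sh4), (CfsgLib.Sporadic.CosetCert.ONData.fast3, sh3)] 0 30000 6000 = true := by decide +kernel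
theorem shiftW7_6 : constK [(CfsgLib.Sporadic.CosetCert.ONData.fast4, sh4), (CfsgLib.Sporadic.CosetCert.ONData.fast3, sh3), (CfsgLib.Sporadic.CosetCert.ONData.fast4, sh4), (CfsgLib.Sporadic.CosetCert.ONData.fast3, sh3), (CfsgLib.Sporadic.CosetCert.ONData.fast4, sh4), (CfsgLib.Sporadic.CosetCert.ONData.fast3, sh3)] 0 36000 6000 = true := by decide +kernel
theorem shiftW7_7 : constK [(CfsgLib.Sporadic.CosetCert.ONData.fast4, sh4), (CfsgLib.Sporadic.CosetCert.ONData.fast3, sh3), (CfsgLib.Sporadic.CosetCert.ONData.fast4, sh4), (CfsgLib.Sporadic.CosetCert.ONData.fast3, sh3), (CfsgLib.Sporadic.CosetCert.ONData.fast4, sh4), (CfsgLib.Sporadic.CosetCert.ONData.fast3, sh3)] 0 42000 6000 = true := by decide +kernel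
theorem shiftW7_8 : constK [(CfsgLib.Sporadic.CosetCert.ONData.fast4, sh4), (CfsgLib.Sporadic.CosetCert.ONData.fast3, sh3), (CfsgLib.Sporadic.CosetCert.ONData.fast4, sh4), (CfsgLib.Sporadic.CosetCert.ONData.fast3, sh3), (CfsgLib.Sporadic.CosetCert.ONData.fast4, sh4), (CfsgLib.Sporadic.CosetCert.ONData.fast3, sh3)] 0 48000 6000 = true := by decide +kernel
theorem shiftW7_9 : constK [(CfsgLib.Sporadic.CosetCert.ONData.fast4, sh4), (CfsgLib.Sporadic.CosetCert.ONData.fast3, sh3), (CfsgLib.Sporadic.CosetCert.ONData.fast4, sh4), (CfsgLib.Sporadic.CosetCert.ONData.fast3, sh3), (CfsgLib.Sporadic.CosetCert.ONData.fast4, sh4), (CfsgLib.Sporadic.CosetCert.ONData.fast3, sh3)] 0 54000 6000 = true := by decide +kernel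
theorem shiftW7_10 : constK [(CfsgLib.Sporadic.CosetCert.ONData.fast4, sh4), (CfsgLib.Sporadic.CosetCert.ONData.fast3, sh3), (CfsgLib.Sporadic.CosetCert.ONData.fast4, sh4), (CfsgLib.Sporadic.CosetCert.ONData.fast3, sh3), (CfsgLib.Sporadic.CosetCert.ONData.fast4, sh4), (CfsgLib.Sporadic.CosetCert.ONData.fast3, sh3)] 0 60000 6000 = true := by decide +kernel
theorem shiftW7_11 : constK [(CfsgLib.Sporadic.CosetCert.ONData.fast4, sh4), (CfsgLib.Sporadic.CosetCert.ONData.fast3, sh3), (CfsgLib.Sporadic.CosetCert.ONData.fast4, sh4), (CfsgLib.Sporadic.CosetCert.ONData.fast3, sh3), (CfsgLib.Sporadic.CosetCert.ONData.fast4, sh4), (CfsgLib.Sporadic.CosetCert.ONData.fast3, sh3)] 0 66000 6000 = true := by decide +kernel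
theorem shiftW7_12 : constK [(CfsgLib.Sporadic.CosetCert.ONData.fast4, sh4), (CfsgLib.Sporadic.CosetCert.ONData.fast3, sh3), (CfsgLib.Sporadic.CosetCert.ONData.fast4, sh4), (CfsgLib.Sporadic.CosetCert.ONData.fast3, sh3), (CfsgLib.Sporadic.CosetCert.ONData.fast4, sh4), (CfsgLib.Sporadic.CosetCert.ONData.fast3, sh3)] 0 72000 6000 = true := by decide +kernel
theorem shiftW7_13 : constK [(CfsgLib.Sporadic.CosetCert.ONData.fast4, sh4), (CfsgLib.Sporadic.CosetCert.ONData.fast3, sh3), (CfsgLib.Sporadic.CosetCert.ONData.fast4, sh4), (CfsgLib.Sporadic.CosetCert.ONData.fast3, sh3), (CfsgLib.Sporadic.CosetCert.ONData.fast4, sh4), (CfsgLib.Sporadic.CosetCert.ONData.fast3, sh3)] 0 78000 6000 = true := by decide +kernel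
theorem shiftW7_14 : constK [(CfsgLib.Sporadic.CosetCert.ONData.fast4, sh4), (CfsgLib.Sporadic.CosetCert.ONData.fast3, sh3), (CfsgLib.Sporadic.CosetCert.ONData.fast4, sh4), (CfsgLib.Sporadic.CosetCert.ONData.fast3, sh3), (CfsgLib.Sporadic.CosetCert.ONData.fast4, sh4), (CfsgLib.Sporadic.CosetCert.ONData.fast3, sh3)] 0 84000 6000 = true := by decide +kernel
theorem shiftW7_15 : constK [(CfsgLib.Sporadic.CosetCert.ONData.fast4, sh4), (CfsgLib.Sporadic.CosetCert.ONData.fast3, sh3), (CfsgLib.Sporadic.CosetCert.ONData.fast4, sh4), (CfsgLib.Sporadic.CosetCert.ONData.fast3, sh3), (CfsgLib.Sporadic.CosetCert.ONData.fast4, sh4), (CfsgLib.Sporadic.CosetCert.ONData.fast3, sh3)] 0 90000 6000 = true := by decide +kernel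
theorem shiftW7_16 : constK [(CfsgLib.Sporadic.CosetCert.ONData.fast4, sh4), (CfsgLib.Sporadic.CosetCert.ONData.fast3, sh3), (CfsgLib.Sporadic.CosetCert.ONData.fast4, sh4), (CfsgLib.Sporadic.CosetCert.ONData.fast3, sh3), (CfsgLib.Sporadic.CosetCert.ONData.fast4, sh4), (CfsgLib.Sporadic.CosetCert.ONData.fast3, sh3)] 0 96000 6000 = true := by decide +kernel
theorem shiftW7_17 : constK [(CfsgLib.Sporadic.CosetCert.ONData.fast4, sh4), (CfsgLib.Sporadic.CosetCert.ONData.fast3, sh3), (CfsgLib.Sporadic.CosetCert.ONData.fast4, sh4), (CfsgLib.Sporadic.CosetCert.ONData.fast3, sh3), (CfsgLib.Sporadic.CosetCert.ONData.fast4, sh4), (CfsgLib.Sporadic.CosetCert.ONData.fast3, sh3)] 0 102000 6000 = true := by decide +kernel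
theorem shiftW7_18 : constK [(CfsgLib.Sporadic.CosetCert.ONData.fast4, sh4), (CfsgLib.Sporadic.CosetCert.ONData.fast3, sh3), (CfsgLib.Sporadic.CosetCert.ONData.fast4, sh4), (CfsgLib.Sporadic.CosetCert.ONData.fast3, sh3), (CfsgLib.Sporadic.CosetCert.ONData.fast4, sh4), (CfsgLib.Sporadic.CosetCert.ONData.fast3, sh3)] 0 108000 6000 = true := by decide +kernel
theorem shiftW7_19 : constK [(CfsgLib.Sporadic.CosetCert.ONData.fast4, sh4), (CfsgLib.Sporadic.CosetCert.ONData.fast3, sh3), (CfsgLib.Sporadic.CosetCert.ONData.fast4, sh4), (CfsgLib.Sporadic.CosetCert.ONData.fast3, sh3), (CfsgLib.Sporadic.CosetCert.ONData.fast4, sh4), (CfsgLib.Sporadic.CosetCert.ONData.fast3, sh3)] 0 114000 6000 = true := by decide +kernel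
theorem shiftW7_20 : constK [(CfsgLib.Sporadic.CosetCert.ONData.fast4, sh4), (CfsgLib.Sporadic.CosetCert.ONData.fast3, sh3), (CfsgLib.Sporadic.CosetCert.ONData.fast4, sh4), (CfsgLib.Sporadic.CosetCert.ONData.fast3, sh3), (CfsgLib.Sporadic.CosetCert.ONData.fast4, sh4), (CfsgLib.Sporadic.CosetCert.ONData.fast3, sh3)] 0 120000 2760 = true := by decide +kernel

theorem shiftW7 : ∀ u < 122760, Nat.mod (runS [(CfsgLib.Sporadic.CosetCert.ONData.fast4, sh4), (CfsgLib.Sporadic.CosetCert.ONData.fast3, sh3), (CfsgLib.Sporadic.CosetCert.ONData.fast4, sh4), (CfsgLib.Sporadic.CosetCert.ONData.fast3, sh3), (CfsgLib.Sporadic.CosetCert.ONData.fast4, sh4), (CfsgLib.Sporadic.CosetCert.ONData.fast3, sh3)] u) 3 = 0 := fun u hu =>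
  (range_split (range_split (range_split (range_split (constK_spec shiftW7_0) (constK_spec shiftW7_1)) (range_split (constK_spec shiftW7_2) (range_split (constK_spec shiftW7_3) (constK_spec shiftW7_4)))) (range_split (range_split (constK_spec shiftW7_5) (constK_spec shiftW7_6)) (range_split (constK_spec shiftW7_7) (range_split (constK_spec shiftW7_8) (constK_spec shiftW7_9))))) (range_split (range_split (range_split (constK_spec shiftW7_10) (constK_spec shiftW7_11)) (range_split (constK_spec shiftW7_12) (range_split (constK_spec shiftW7_13) (constK_spec shiftW7_14)))) (range_split (range_split (constK_spec shiftW7_15) (range_split (constK_spec shiftW7_16) (constK_spec shiftW7_17))) (range_split (constK_spec shiftW7_18) (range_split (constK_spec shiftW7_19) (constK_spec shiftW7_20)))))) u (Nat.zero_le _) hu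

theorem shiftW21_0 : constK [(CfsgLib.Sporadic.CosetCert.ONData.fast1, sh1), (CfsgLib.Sporadic.CosetCert.ONData.fast1, sh1), (CfsgLib.Sporadic.CosetCert.ONData.fast7, sh7), (CfsgLib.Sporadic.CosetCert.ONData.fast2, sh2)] 0 0 6000 = true := by decide +kernel
theorem shiftW21_1 : constK [(CfsgLib.Sporadic.CosetCert.ONData.fast1, sh1), (CfsgLib.Sporadic.CosetCert.ONData.fast1, sh1), (CfsgLib.Sporadic.CosetCert.ONData.fast7, sh7), (CfsgLib.Sporadic.CosetCert.ONData.fast2, sh2)] 0 6000 6000 = true := by decide +kernel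
theorem shiftW21_2 : constK [(CfsgLib.Sporadic.CosetCert.ONData.fast1, sh1), (CfsgLib.Sporadic.CosetCert.ONData.fast1, sh1), (CfsgLib.Sporadic.CosetCert.ONData.fast7, sh7), (CfsgLib.Sporadic.CosetCert.ONData.fast2, sh2)] 0 12000 6000 = true := by decide +kernel
theorem shiftW21_3 : constK [(CfsgLib.Sporadic.CosetCert.ONData.fast1, sh1), (CfsgLib.Sporadic.CosetCert.ONData.fast1, sh1), (CfsgLib.Sporadic.CosetCert.ONData.fast7, sh7), (CfsgLib.Sporadic.CosetCert.ONData.fast2, sh2)] 0 18000 6000 = true := by decide +kernel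
theorem shiftW21_4 : constK [(CfsgLib.Sporadic.CosetCert.ONData.fast1, sh1), (CfsgLib.Sporadic.CosetCert.ONData.fast1, sh1), (CfsgLib.Sporadic.CosetCert.ONData.fast7, sh7), (CfsgLib.Sporadic.CosetCert.ONData.fast2, sh2)] 0 24000 6000 = true := by decide +kernel
theorem shiftW21_5 : constK [(CfsgLib.Sporadic.CosetCert.ONData.fast1, sh1), (CfsgLib.Sporadic.CosetCert.ONData.fast1, sh1), (CfsgLib.Sporadic.CosetCert.ONData.fast7, sh7), (CfsgLib.Sporadic.CosetCert.ONData.fast2, sh2)] 0 30000 6000 = true := by decide +kernel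
theorem shiftW21_6 : constK [(CfsgLib.Sporadic.CosetCert.ONData.fast1, sh1), (CfsgLib.Sporadic.CosetCert.ONData.fast1, sh1), (CfsgLib.Sporadic.CosetCert.ONData.fast7, sh7), (CfsgLib.Sporadic.CosetCert.ONData.fast2, sh2)] 0 36000 6000 = true := by decide +kernel
theorem shiftW21_7 : constK [(CfsgLib.Sporadic.CosetCert.ONData.fast1, sh1), (CfsgLib.Sporadic.CosetCert.ONData.fast1, sh1), (CfsgLib.Sporadic.CosetCert.ONData.fast7, sh7), (CfsgLib.Sporadic.CosetCert.ONData.fast2, sh2)] 0 42000 6000 = true := by decide +kernel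
theorem shiftW21_8 : constK [(CfsgLib.Sporadic.CosetCert.ONData.fast1, sh1), (CfsgLib.Sporadic.CosetCert.ONData.fast1, sh1), (CfsgLib.Sporadic.CosetCert.ONData.fast7, sh7), (CfsgLib.Sporadic.CosetCert.ONData.fast2, sh2)] 0 48000 6000 = true := by decide +kernel
theorem shiftW21_9 : constK [(CfsgLib.Sporadic.CosetCert.ONData.fast1, sh1), (CfsgLib.Sporadic.CosetCert.ONData.fast1, sh1), (CfsgLib.Sporadic.CosetCert.ONData.fast7, sh7), (CfsgLib.Sporadic.CosetCert.ONData.fast2, sh2)] 0 54000 6000 = true := by decide +kernel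
theorem shiftW21_10 : constK [(CfsgLib.Sporadic.CosetCert.ONData.fast1, sh1), (CfsgLib.Sporadic.CosetCert.ONData.fast1, sh1), (CfsgLib.Sporadic.CosetCert.ONData.fast7, sh7), (CfsgLib.Sporadic.CosetCert.ONData.fast2, sh2)] 0 60000 6000 = true := by decide +kernel
theorem shiftW21_11 : constK [(CfsgLib.Sporadic.CosetCert.ONData.fast1, sh1), (CfsgLib.Sporadic.CosetCert.ONData.fast1, sh1), (CfsgLib.Sporadic.CosetCert.ONData.fast7, sh7), (CfsgLib.Sporadic.CosetCert.ONData.fast2, sh2)] 0 66000 6000 = true := by decide +kernel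
theorem shiftW21_12 : constK [(CfsgLib.Sporadic.CosetCert.ONData.fast1, sh1), (CfsgLib.Sporadic.CosetCert.ONData.fast1, sh1), (CfsgLib.Sporadic.CosetCert.ONData.fast7, sh7), (CfsgLib.Sporadic.CosetCert.ONData.fast2, sh2)] 0 72000 6000 = true := by decide +kernel
theorem shiftW21_13 : constK [(CfsgLib.Sporadic.CosetCert.ONData.fast1, sh1), (CfsgLib.Sporadic.CosetCert.ONData.fast1, sh1), (CfsgLib.Sporadic.CosetCert.ONData.fast7, sh7), (CfsgLib.Sporadic.CosetCert.ONData.fast2, sh2)] 0 78000 6000 = true := by decide +kernel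
theorem shiftW21_14 : constK [(CfsgLib.Sporadic.CosetCert.ONData.fast1, sh1), (CfsgLib.Sporadic.CosetCert.ONData.fast1, sh1), (CfsgLib.Sporadic.CosetCert.ONData.fast7, sh7), (CfsgLib.Sporadic.CosetCert.ONData.fast2, sh2)] 0 84000 6000 = true := by decide +kernel
theorem shiftW21_15 : constK [(CfsgLib.Sporadic.CosetCert.ONData.fast1, sh1), (CfsgLib.Sporadic.CosetCert.ONData.fast1, sh1), (CfsgLib.Sporadic.CosetCert.ONData.fast7, sh7), (CfsgLib.Sporadic.CosetCert.ONData.fast2, sh2)] 0 90000 6000 = true := by decide +kernel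
theorem shiftW21_16 : constK [(CfsgLib.Sporadic.CosetCert.ONData.fast1, sh1), (CfsgLib.Sporadic.CosetCert.ONData.fast1, sh1), (CfsgLib.Sporadic.CosetCert.ONData.fast7, sh7), (CfsgLib.Sporadic.CosetCert.ONData.fast2, sh2)] 0 96000 6000 = true := by decide +kernel
theorem shiftW21_17 : constK [(CfsgLib.Sporadic.CosetCert.ONData.fast1, sh1), (CfsgLib.Sporadic.CosetCert.ONData.fast1, sh1), (CfsgLib.Sporadic.CosetCert.ONData.fast7, sh7), (CfsgLib.Sporadic.CosetCert.ONData.fast2, sh2)] 0 102000 6000 = true := by decide +kernel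
theorem shiftW21_18 : constK [(CfsgLib.Sporadic.CosetCert.ONData.fast1, sh1), (CfsgLib.Sporadic.CosetCert.ONData.fast1, sh1), (CfsgLib.Sporadic.CosetCert.ONData.fast7, sh7), (CfsgLib.Sporadic.CosetCert.ONData.fast2, sh2)] 0 108000 6000 = true := by decide +kernel
theorem shiftW21_19 : constK [(CfsgLib.Sporadic.CosetCert.ONData.fast1, sh1), (CfsgLib.Sporadic.CosetCert.ONData.fast1, sh1), (CfsgLib.Sporadic.CosetCert.ONData.fast7, sh7), (CfsgLib.Sporadic.CosetCert.ONData.fast2, sh2)] 0 114000 6000 = true := by decide +kernel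
theorem shiftW21_20 : constK [(CfsgLib.Sporadic.CosetCert.ONData.fast1, sh1), (CfsgLib.Sporadic.CosetCert.ONData.fast1, sh1), (CfsgLib.Sporadic.CosetCert.ONData.fast7, sh7), (CfsgLib.Sporadic.CosetCert.ONData.fast2, sh2)] 0 120000 2760 = true := by decide +kernel

theorem shiftW21 : ∀ u < 122760, Nat.mod (runS [(CfsgLib.Sporadic.CosetCert.ONData.fast1, sh1), (CfsgLib.Sporadic.CosetCert.ONData.fast1, sh1), (CfsgLib.Sporadic.CosetCert.ONData.fast7, sh7), (CfsgLib.Sporadic.CosetCert.ONData.fast2, sh2)] u) 3 = 0 := fun u hu =>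
  (range_split (range_split (range_split (range_split (constK_spec shiftW21_0) (constK_spec shiftW21_1)) (range_split (constK_spec shiftW21_2) (range_split (constK_spec shiftW21_3) (constK_spec shiftW21_4)))) (range_split (range_split (constK_spec shiftW21_5) (constK_spec shiftW21_6)) (range_split (constK_spec shiftW21_7) (range_split (constK_spec shiftW21_8) (constK_spec shiftW21_9))))) (range_split (range_split (range_split (constK_spec shiftW21_10) (constK_spec shiftW21_11)) (range_split (constK_spec shiftW21_12) (range_split (constK_spec shiftW21_13) (constK_spec shiftW21_14)))) (range_split (range_split (constK_spec shiftW21_15) (range_split (constK_spec shiftW21_16) (constK_spec shiftW21_17))) (range_split (constK_spec shiftW21_18) (range_split (constK_spec shiftW21_19) (constK_spec shiftW21_20)))))) u (Nat.zero_le _) hu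

end CfsgLib.Schur.Sporadic.ON
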