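import Cfsg.Agent.Lib.Schur.ON.CheckShift0
import Cfsg.Agent.Lib.Schur.ON.CheckShift1
import Cfsg.Agent.Lib.Schur.ON.CheckShift2
import Cfsg.Agent.Lib.Schur.ON.CheckShift3
import Cfsg.Agent.Lib.Schur.ON.CheckShift4
import Cfsg.Agent.Lib.Schur.ON.CheckShift5
import Cfsg.Agent.Lib.Schur.ON.CheckShift6
import Cfsg.Agent.Lib.Schur.ON.CheckShift7
import Cfsg.Agent.Lib.Sporadic.ONOut.Words
import Cfsg.Prelude.Def_Spor_ON
import Cfsg.Agent.Lib.Schur.Basic

/-!
A triple cover of the presented O'Nan group, acting on three sheets over the 122760 points.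
-/

set_option autoImplicit false
set_option maxRecDepth 100000

open Cfsg.Spor
open CfsgLib.Sporadic.CosetCert
open CfsgLib.Sporadic.CosetCert.ONP (coding code cinv hom)
open CfsgLib.Sporadic.CosetCert.ONP.OutON (el runW okW rowF img_el el_cons el_nil okW_spec)

namespace CfsgLib.Schur.Sporadic.ON.Cover

open ONData (table relLetters)

attribute [local irreducible] runW PTab.img

/-- The sheets. -/
abbrev V : Type := Equiv.Perm (Fin table.N × ZMod 3)

/-- A permutation of the points with shifts. -/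
def liftP (p : Equiv.Perm (Fin table.N)) (c : Fin table.N → ZMod 3) : V where
  toFun x := (p x.1, x.2 + c x.1)
  invFun x := (p.symm x.1, x.2 - c (p.symm x.1))
  left_inv x := by simp
  right_inv x := by simp

theorem liftP_mul (p r : Equiv.Perm (Fin table.N)) (c e : Fin table.N → ZMod 3) :
    liftP p c * liftP r e = liftP (p * r) (fun u => e u + c (r u)) :=
  Equiv.ext fun _ => Prod.ext rfl (add_assoc _ _ _)

theorem liftP_one : (1 : V) = liftP 1 0 := Equiv.ext fun x => by simp [liftP]

/-- The shift of all sheets. -/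
def shift (a : ZMod 3) : V := liftP 1 fun _ => a

theorem shift_zero : shift 0 = 1 := liftP_one.symm

/-- The shifts of the letters. -/
noncomputable def shRows : List (ℕ → ℕ) := [sh0, sh1, sh2, sh3, sh4, sh5, sh6, sh7]

/-- The shift of a letter. -/
noncomputable def shF (x : ℕ) : ℕ → ℕ := shRows.getD x (fun _ => 0)

/-- A lifted letter. -/
noncomputable def L (x : ℕ) : V := liftP (hom (coding.gen x)) fun u => (shF x (u : ℕ) : ZMod 3)

theorem rowF_eq {x : ℕ} (hx : x < 8) (u : Fin table.N) :
    rowF x u = ((hom (coding.gen x) u : Fin table.N) : ℕ) := by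
  rw [ONP.hom_acts.img_eq x hx u, (ONData.table_fast x hx u u.2).1]
  rfl

theorem lift_word : ∀ w : List ℕ, (∀ x ∈ w, x < 8) → appProd L w =
    liftP (hom (el w)) fun u => (runS (w.map fun x => (rowF x, shF x)) u : ZMod 3)
  | [], _ => by
    rw [el_nil, map_one]
    exact liftP_one.trans (congrArg (liftP 1) (funext fun _ => Nat.cast_zero.symm))
  | x :: t, h => by
    show appProd L t * L x = _
    rw [lift_word t fun y hy => h y (List.mem_cons_of_mem _ hy), L, liftP_mul, ← map_mul, el_cons]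
    refine congrArg (liftP _) (funext fun u => ?_)
    rw [List.map_cons, runS_cons, Nat.cast_add]
    dsimp only
    rw [rowF_eq (h x List.mem_cons_self)]

theorem castMod {n k : ℕ} (h : Nat.mod n 3 = k) : (n : ZMod 3) = (k : ZMod 3) := by
  rw [← h]; exact (ZMod.natCast_mod n 3).symm

theorem rels_words : ONP.allRels.map (appWord code cinv) = relLetters := by decide +kernel

/-- The constants of the relators. -/
def kOf (i : ℕ) : ℕ := if 25 ≤ i then 1 else 0

/-- A word shifts all sheets by a constant. -/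
def Const (w : List ℕ) (k : ℕ) : Prop :=
  (∀ x ∈ w, x < 8) ∧ ∀ u < 122760, Nat.mod (runS (w.map fun x => (rowF x, shF x)) u) 3 = k

theorem lift_const {w : List ℕ} {k : ℕ} (h : Const w k) (he : el w = 1) :
    appProd L w = shift (k : ZMod 3) := by
  rw [lift_word w h.1, he, map_one]
  exact congrArg (liftP 1) (funext fun u => castMod (h.2 u u.2))

theorem rel_const : ∀ i < 28, Const (relLetters.getD i []) (kOf i) := by
  intro i hi
  match i, hi with
  | 0, _ => exact ⟨by decide, fun u hu => shiftW0 u hu⟩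
  | 1, _ => exact ⟨by decide, fun u hu => shiftW1 u hu⟩
  | 2, _ => exact ⟨by decide, fun u hu => shiftW2 u hu⟩
  | 3, _ => exact ⟨by decide, fun u hu => shiftW3 u hu⟩
  | 4, _ => exact ⟨by decide, fun u hu => shiftW4 u hu⟩
  | 5, _ => exact ⟨by decide, fun u hu => shiftW5 u hu⟩
  | 6, _ => exact ⟨by decide, fun u hu => shiftW6 u hu⟩
  | 7, _ => exact ⟨by decide, fun u hu => shiftW7 u hu⟩
  | 8, _ => exact ⟨by decide, fun u hu => shiftW8 u hu⟩
  | 9, _ => exact ⟨by decide, fun u hu => shiftW9 u hu⟩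
  | 10, _ => exact ⟨by decide, fun u hu => shiftW10 u hu⟩
  | 11, _ => exact ⟨by decide, fun u hu => shiftW11 u hu⟩
  | 12, _ => exact ⟨by decide, fun u hu => shiftW12 u hu⟩
  | 13, _ => exact ⟨by decide, fun u hu => shiftW13 u hu⟩
  | 14, _ => exact ⟨by decide, fun u hu => shiftW14 u hu⟩
  | 15, _ => exact ⟨by decide, fun u hu => shiftW15 u hu⟩
  | 16, _ => exact ⟨by decide, fun u hu => shiftW16 u hu⟩
  | 17, _ => exact ⟨by decide, fun u hu => shiftW17 u hu⟩
  | 18, _ => exact ⟨by decide, fun u hu => shiftW18 u hu⟩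
  | 19, _ => exact ⟨by decide, fun u hu => shiftW19 u hu⟩
  | 20, _ => exact ⟨by decide, fun u hu => shiftW20 u hu⟩
  | 21, _ => exact ⟨by decide, fun u hu => shiftW21 u hu⟩
  | 22, _ => exact ⟨by decide, fun u hu => shiftW22 u hu⟩
  | 23, _ => exact ⟨by decide, fun u hu => shiftW23 u hu⟩
  | 24, _ => exact ⟨by decide, fun u hu => shiftW24 u hu⟩
  | 25, _ => exact ⟨by decide, fun u hu => shiftW25 u hu⟩
  | 26, _ => exact ⟨by decide, fun u hu => shiftW26 u hu⟩
  | 27, _ => exact ⟨by decide, fun u hu => shiftW27 u hu⟩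
  | n + 28, h => exact absurd h (by omega)

theorem el_rel : ∀ i < 28, el (relLetters.getD i []) = 1 := by
  intro i hi
  have hlen : relLetters.length = 28 := rfl
  have hm : relLetters.getD i [] ∈ ONP.allRels.map (appWord code cinv) := by
    rw [rels_words, List.getD_eq_getElem _ _ (hlen ▸ hi)]
    exact List.getElem_mem _
  obtain ⟨r, hr, he⟩ := List.mem_map.1 hm
  rw [← he]
  exact (coding.mk_eq r).symm.trans (mk_relList coding.pairs_mem hr)

theorem lift_rel {i : ℕ} (hi : i < 28) : appProd L (relLetters.getD i []) = shift (kOf i : ZMod 3) :=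
  lift_const (rel_const i hi) (el_rel i hi)

theorem pair_const : Const [0, 1] 0 ∧ Const [1, 0] 0 :=
  ⟨⟨by decide, fun u hu => shiftW28 u hu⟩, ⟨by decide, fun u hu => shiftW29 u hu⟩⟩

theorem L_one : L 1 = (L 0)⁻¹ := by
  refine eq_inv_of_mul_eq_one_left ?_
  have e : el [0, 1] = 1 := by
    rw [el_cons, el_cons, el_nil, one_mul]
    show coding.gen 1 * coding.gen 0 = 1
    rw [show coding.gen 1 = (coding.gen 0)⁻¹ from coding.gen_inv (x := 0) (by norm_num),
      inv_mul_cancel]
  have h := lift_const pair_const.1 e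
  rw [Nat.cast_zero, shift_zero] at h
  simpa [appProd] using h

theorem L_sq {x : ℕ} (h2 : 2 ≤ x) (h8 : x < 8) : L x * L x = 1 := by
  have hi : ∀ x < 8, 2 ≤ x → ∃ i < 28, relLetters.getD i [] = [x, x] ∧ kOf i = 0 := by decide +kernel
  obtain ⟨i, hi, hw, hk⟩ := hi x h8 h2
  have h := lift_rel hi
  rw [hw, hk, Nat.cast_zero, shift_zero] at h
  simpa [appProd] using h

theorem L_ge {x : ℕ} (hx : 8 ≤ x) : L x = 1 := by
  have hg : coding.gen x = 1 := by
    rw [Coding.gen, letterVal, List.getElem?_eq_none (coding.len.trans_le hx)]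
  rw [L, hg, map_one, liftP_one]
  refine congrArg (liftP 1) (funext fun u => ?_)
  rw [shF, List.getD_eq_default _ _ (le_of_eq_of_le (show shRows.length = 8 from rfl) hx)]
  exact Nat.cast_zero

/-- The cover. -/
noncomputable def GG : Subgroup V := Subgroup.closure (L '' Set.Iio 8)

theorem L_mem (x : ℕ) : L x ∈ GG := by
  by_cases hx : x < 8
  · exact Subgroup.subset_closure ⟨x, hx, rfl⟩
  · rw [L_ge (not_lt.1 hx)]; exact one_mem _

/-- A lifted letter in the cover. -/
noncomputable def Lg (x : ℕ) : GG := ⟨L x, L_mem x⟩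

theorem coe_appProd : ∀ w : List ℕ, ((appProd Lg w : GG) : V) = appProd L w
  | [] => rfl
  | x :: t => by show ((appProd Lg t : GG) : V) * L x = _; rw [coe_appProd t]; rfl

/-- The generating shift. -/
def zt : V := shift 1

theorem shift_pow (a : ZMod 3) : ∀ n : ℕ, shift a ^ n = shift (n • a)
  | 0 => by rw [pow_zero, zero_nsmul, shift_zero]
  | n + 1 => by
    rw [pow_succ, shift_pow a n, shift, shift, liftP_mul, one_mul, succ_nsmul]
    exact congrArg (liftP 1) (funext fun _ => add_comm _ _)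

theorem order_zt : orderOf zt = 3 := by
  haveI := Fact.mk Nat.prime_three
  refine orderOf_eq_prime ?_ fun h => ?_
  · rw [zt, shift_pow, show (3 : ℕ) • (1 : ZMod 3) = 0 from rfl, shift_zero]
  · have h0 : 0 < table.N := by decide +kernel
    have := congrArg (fun π : V => (π (⟨0, h0⟩, 0)).2) h
    simp [zt, shift, liftP] at this

theorem zt_cube : zt ^ 3 = 1 := by
  rw [zt, shift_pow, show (3 : ℕ) • (1 : ZMod 3) = 0 from rfl, shift_zero]

theorem zt_mem : zt ∈ GG := by
  have h : ((appProd Lg (relLetters.getD 25 []) : GG) : V) = zt := by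
    rw [coe_appProd, lift_rel (by norm_num)]
    exact congrArg shift (Nat.cast_one (R := ZMod 3))
  exact h ▸ (appProd Lg _).2

theorem zt_central {k : V} (hk : k ∈ GG) : k * zt = zt * k := by
  have hle : GG ≤ Subgroup.centralizer {zt} := (Subgroup.closure_le _).2 fun y hy => by
    rw [SetLike.mem_coe, Subgroup.mem_centralizer_singleton_iff]
    obtain ⟨i, -, rfl⟩ := hy
    rw [L, zt, shift, liftP_mul, liftP_mul, mul_one, one_mul]
    exact congrArg (liftP _) (funext fun u => add_comm _ _)
  exact Subgroup.mem_centralizer_singleton_iff.1 (hle hk)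

/-- The central subgroup of order three. -/
noncomputable def ZZ : Subgroup GG := (Subgroup.zpowers zt).subgroupOf GG

theorem ZZ_central : ZZ ≤ Subgroup.center GG := fun z hz => Subgroup.mem_center_iff.2 fun k => by
  obtain ⟨j, hj⟩ := Subgroup.mem_zpowers_iff.1 (Subgroup.mem_subgroupOf.1 hz)
  exact Subtype.ext (by
    rw [Subgroup.coe_mul, Subgroup.coe_mul, ← hj]
    exact ((show Commute (k : V) zt from zt_central k.2).zpow_right j).eq)

instance ZZ_normal : ZZ.Normal := ⟨fun z hz g => by
  rwa [Subgroup.mem_center_iff.1 (ZZ_central hz) g, mul_inv_cancel_right]⟩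

theorem Lg_cinv (a : ON.Gen) : Lg (cinv a) = (Lg (code a))⁻¹ := by
  refine Subtype.ext ?_
  rw [Subgroup.coe_inv]
  show L (cinv a) = (L (code a))⁻¹
  cases a
  case g => exact L_one
  all_goals exact (inv_eq_of_mul_eq_one_right (L_sq (by decide) (by decide))).symm

/-- The image of a generator. -/
noncomputable def genImg (a : ON.Gen) : GG ⧸ ZZ := QuotientGroup.mk (Lg (code a))

theorem mk_appProd : ∀ w : List ℕ,
    appProd (fun x => (QuotientGroup.mk (Lg x) : GG ⧸ ZZ)) w = QuotientGroup.mk (appProd Lg w)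
  | [] => rfl
  | x :: t => by
    show appProd _ t * _ = _
    rw [mk_appProd t, ← QuotientGroup.mk_mul]
    rfl

theorem rels_one : ∀ r ∈ coxRelators ON.edges ∪ {r | r ∈ ON.extra}, FreeGroup.lift genImg r = 1 := by
  apply lift_cox_eq_one genImg coding.pairs_cover
  intro r hr
  rw [lift_eq_appProd genImg (fun x => (QuotientGroup.mk (Lg x) : GG ⧸ ZZ)) code cinv (fun a => rfl)
    (fun a => by rw [Lg_cinv, QuotientGroup.mk_inv]; rfl) r, mk_appProd, QuotientGroup.eq_one_iff]
  have hm : appWord code cinv r ∈ relLetters := rels_words ▸ List.mem_map_of_mem hr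
  obtain ⟨i, hi, he⟩ := List.getElem_of_mem hm
  refine Subgroup.mem_subgroupOf.2 ?_
  rw [coe_appProd, ← he, ← List.getD_eq_getElem relLetters [] hi, lift_rel hi]
  have : shift (kOf i : ZMod 3) = zt ^ kOf i := by rw [zt, shift_pow, nsmul_one]
  rw [this]
  exact Subgroup.pow_mem _ (Subgroup.mem_zpowers _) _

/-- The map of the presented group. -/
noncomputable def toQ : ON →* GG ⧸ ZZ := PresentedGroup.toGroup rels_one

theorem toQ_code (a : ON.Gen) : toQ (PresentedGroup.of a) = QuotientGroup.mk (Lg (code a)) :=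
  PresentedGroup.toGroup.of rels_one

theorem toQ_injective : Function.Injective toQ := by
  haveI := ONP.isSimple
  rw [← MonoidHom.ker_eq_bot_iff]
  rcases (MonoidHom.normal_ker toQ).eq_bot_or_eq_top with h | h
  · exact h
  exfalso
  have h1 : toQ (PresentedGroup.of ON.Gen.g) = 1 := MonoidHom.mem_ker.1 (h ▸ Subgroup.mem_top _)
  rw [toQ_code, QuotientGroup.eq_one_iff, ZZ, Subgroup.mem_subgroupOf] at h1
  obtain ⟨j, hj⟩ := Subgroup.mem_zpowers_iff.1 h1
  have h0 : 0 < table.N := by decide +kernel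
  have hfix : ∀ j : ℤ, ((zt ^ j) (⟨0, h0⟩, 0)).1 = ⟨0, h0⟩ := by
    intro j
    obtain ⟨n, hn⟩ := (isOfFinOrder_iff_pow_eq_one.2 ⟨3, by norm_num, zt_cube⟩).mem_powers_iff_mem_zpowers.2
        (Subgroup.zpow_mem_zpowers zt j)
    change zt ^ n = zt ^ j at hn
    rw [← hn, zt, shift_pow]
    rfl
  have e : ((hom (coding.gen 0) ⟨0, h0⟩ : Fin table.N) : ℕ) = 0 := by
    have := congrArg (fun π : V => (π (⟨0, h0⟩, 0)).1) hj
    exact (congrArg Fin.val ((this.symm.trans (hfix j)) :
      hom (coding.gen 0) ⟨0, h0⟩ = ⟨0, h0⟩))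
  rw [← rowF_eq (by norm_num)] at e
  exact absurd e (show ¬ rowF 0 0 = 0 by decide +kernel)

theorem toQ_surjective : Function.Surjective toQ := by
  rw [← MonoidHom.range_eq_top, eq_top_iff]
  rintro q -
  induction q using QuotientGroup.induction_on with
  | _ k =>
  obtain ⟨k, hk⟩ := k
  induction hk using Subgroup.closure_induction with
  | mem y hy =>
    obtain ⟨x, hx, rfl⟩ := hy
    have hs : x = 1 ∨ ∃ a, code a = x := by
      by_cases h : x = 1
      · exact Or.inl h
      · exact Or.inr ⟨ONP.genAt x,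
          (show ∀ y < 8, y ≠ 1 → code (ONP.genAt y) = y by decide) x hx h⟩
    rcases hs with rfl | ⟨a, rfl⟩
    · exact ⟨(PresentedGroup.of ON.Gen.g)⁻¹, by
        rw [map_inv, toQ_code, ← QuotientGroup.mk_inv, ← Lg_cinv]; rfl⟩
    · exact ⟨_, toQ_code a⟩
  | one => exact one_mem _
  | mul x y _ _ hx hy => exact mul_mem hx hy
  | inv x _ hx => exact inv_mem hx

/-- The projection of the cover. -/
noncomputable def sig : GG →* ON :=
  (MulEquiv.ofBijective toQ ⟨toQ_injective, toQ_surjective⟩).symm.toMonoidHom.comp (QuotientGroup.mk' ZZ)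

theorem ker_sig : sig.ker = ZZ := by
  ext z
  rw [MonoidHom.mem_ker, sig, MonoidHom.comp_apply, MulEquiv.coe_toMonoidHom, EmbeddingLike.map_eq_one_iff,
    QuotientGroup.mk'_apply, QuotientGroup.eq_one_iff]

theorem sig_surjective : Function.Surjective sig :=
  (MulEquiv.ofBijective toQ ⟨toQ_injective, toQ_surjective⟩).symm.surjective.comp
    (QuotientGroup.mk'_surjective ZZ)

theorem card_ker : Nat.card sig.ker = 3 := by
  rw [ker_sig, ZZ, Nat.card_congr (Subgroup.subgroupOfEquivOfLe (Subgroup.zpowers_le.2 zt_mem)).toEquiv,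
    Nat.card_zpowers, order_zt]

theorem L0_four : L 0 ^ 4 = 1 := by
  have h := lift_rel (i := 21) (by norm_num)
  rw [show kOf 21 = 0 from rfl, Nat.cast_zero, shift_zero] at h
  have h' : L 2 * L 7 * L 1 * L 1 = 1 := by
    have e : relLetters.getD 21 [] = [1, 1, 7, 2] := rfl
    rw [e] at h
    simpa [appProd, mul_assoc] using h
  have hc : L 2 * L 7 = L 7 * L 2 := by
    have h5 := lift_rel (i := 5) (by norm_num)
    rw [show kOf 5 = 0 from rfl, Nat.cast_zero, shift_zero,
      show relLetters.getD 5 [] = [7, 2, 7, 2] from rfl] at h5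
    have h6 : L 2 * (L 7 * (L 2 * L 7)) = 1 := by simpa [appProd, mul_assoc] using h5
    calc L 2 * L 7 = L 7 * (L 2 * L 2) * (L 7 * L 7) * L 2 * (L 2 * (L 7 * (L 2 * L 7))) := by
          simp only [L_sq (show 2 ≤ 2 from le_rfl) (by norm_num),
            L_sq (show 2 ≤ 7 by norm_num) (by norm_num), mul_one, mul_assoc]
          simp only [← mul_assoc, L_sq (show 2 ≤ 2 from le_rfl) (by norm_num), one_mul,
            L_sq (show 2 ≤ 7 by norm_num) (by norm_num), mul_one]
      _ = L 7 * L 2 := by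
          rw [h6, L_sq (show 2 ≤ 2 from le_rfl) (by norm_num),
            L_sq (show 2 ≤ 7 by norm_num) (by norm_num), mul_one, mul_one, mul_one]
  have hg : L 0 * L 0 = L 2 * L 7 := by
    rw [L_one, mul_inv_eq_one, mul_inv_eq_iff_eq_mul] at h'
    exact h'.symm
  calc L 0 ^ 4 = (L 0 * L 0) * (L 0 * L 0) := by simp only [pow_succ, pow_zero, one_mul, mul_assoc]
    _ = L 2 * (L 7 * L 2) * L 7 := by rw [hg]; simp only [mul_assoc]
    _ = 1 := by
        rw [← hc, ← mul_assoc, L_sq (show 2 ≤ 2 from le_rfl) (by norm_num), one_mul,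
          L_sq (show 2 ≤ 7 by norm_num) (by norm_num)]

theorem L_four {x : ℕ} (hx : x < 8) : L x ^ 4 = 1 := by
  rcases (by omega : x = 0 ∨ x = 1 ∨ 2 ≤ x) with rfl | rfl | h
  · exact L0_four
  · rw [L_one, inv_pow, L0_four, inv_one]
  · rw [show 4 = 2 * 2 from rfl, pow_mul, pow_two (L x), L_sq h hx, one_pow]

theorem ker_le_commutator : sig.ker ≤ commutator GG := by
  have hsq : ∀ a : Abelianization GG, a ^ 4 = 1 := by
    intro a
    induction a using QuotientGroup.induction_on with
    | _ k =>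
    obtain ⟨k, hk⟩ := k
    show (Abelianization.of (⟨k, hk⟩ : GG)) ^ 4 = 1
    induction hk using Subgroup.closure_induction with
    | mem y hy =>
      obtain ⟨i, hi, rfl⟩ := hy
      rw [← map_pow]
      refine (congrArg Abelianization.of ?_).trans (map_one _)
      exact Subtype.ext (L_four hi)
    | one => exact (congrArg (· ^ 4) (map_one Abelianization.of)).trans (one_pow 4)
    | mul x y hx hy ihx ihy =>
      rw [show (⟨x * y, _⟩ : GG) = ⟨x, hx⟩ * ⟨y, hy⟩ from rfl, map_mul, mul_pow, ihx, ihy, one_mul]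
    | inv x hx ih =>
      rw [show (⟨x⁻¹, _⟩ : GG) = ⟨x, hx⟩⁻¹ from rfl, map_inv, inv_pow, ih, inv_one]
  intro z hz
  rw [ker_sig] at hz
  rw [← Abelianization.ker_of, MonoidHom.mem_ker]
  have h3 : z ^ 3 = 1 := by
    obtain ⟨j, hj⟩ := Subgroup.mem_zpowers_iff.1 (Subgroup.mem_subgroupOf.1 hz)
    refine Subtype.ext ?_
    rw [SubgroupClass.coe_pow, ← hj, ← zpow_natCast, ← zpow_mul, mul_comm, zpow_mul, zpow_natCast,
      zt_cube, one_zpow]
    rfl
  calc Abelianization.of z = (Abelianization.of z) ^ 4 * ((Abelianization.of z) ^ 3)⁻¹ := by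
        rw [pow_succ' _ 3, mul_inv_cancel_right]
    _ = 1 := by rw [hsq, ← map_pow, h3, map_one, inv_one, one_mul]

theorem isStem : Cfsg.IsStemExtension sig :=
  ⟨sig_surjective, ker_sig.trans_le ZZ_central, ker_le_commutator⟩

theorem isCyclic_ker : IsCyclic sig.ker := isCyclic_of_prime_card (hp := ⟨Nat.prime_three⟩) card_ker

end CfsgLib.Schur.Sporadic.ON.Cover
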