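import Cfsg.Agent.Lib.Schur.TailsBound
import Cfsg.Agent.Lib.Schur.TailsDensePerm

/-!
Machine generated data for the 7-part of the multiplier of the O'Nan group.
-/

set_option autoImplicit false
set_option maxRecDepth 100000
set_option maxHeartbeats 0

namespace CfsgLib.Schur.Sporadic.ON

/-- Words of the generators of a Sylow subgroup, packed. -/
def ys7 : List (ℕ × ℕ) := [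
    (46, 0x5345675645345634534567523456345342375645456542),
    (10, 0x4354567452),
    (16, 0x6545645436756454)]

/-- Words of the fusing elements, packed. -/
def gs7 : List (ℕ × ℕ) := [
    (11, 0x64542356452)]

/-- Normal forms, in the order of the images of the base. -/
def nf7 : List (List ℕ) := [
    [],
    [1],
    [1, 1, 1, 1, 1, 1, 2, 2, 2, 2, 2, 2],
    [0],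
    [0, 0, 0, 0, 0, 0, 1, 2, 2, 2, 2, 2, 2],
    [2, 2, 2, 2, 2, 2],
    [0, 1, 1, 1, 1, 1, 1],
    [0, 0, 0, 0, 0, 0, 1],
    [0, 0, 0, 0, 0, 0, 2, 2, 2, 2, 2, 2],
    [0, 1, 1, 1, 1, 1, 1, 2, 2, 2, 2, 2, 2],
    [0, 2],
    [0, 0, 1, 1, 1, 1, 1, 1],
    [0, 0, 0, 0, 0, 0],
    [0, 0, 0, 0, 0, 1, 2, 2, 2, 2, 2, 2],
    [1, 2],
    [0, 0, 2],
    [0, 0, 0, 0, 0, 0, 1, 1, 2, 2, 2, 2, 2],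
    [1, 1, 2],
    [0, 0],
    [0, 0, 1, 1, 1, 1, 1, 1, 2, 2, 2, 2, 2, 2],
    [0, 0, 0, 0, 0, 2, 2, 2, 2, 2, 2],
    [1, 1, 1, 1, 1, 1],
    [0, 0, 0, 0, 0, 1, 1, 2, 2, 2, 2, 2],
    [0, 0, 0, 0, 0, 0, 1, 2, 2, 2, 2, 2],
    [0, 1, 2],
    [0, 0, 0, 0, 0, 2, 2, 2, 2, 2],
    [1, 1, 1, 1, 1, 2, 2, 2, 2, 2, 2],
    [0, 0, 1, 1, 1, 1, 1, 2, 2, 2, 2, 2],
    [0, 1, 1, 1, 1, 1, 2, 2, 2, 2],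
    [1, 2, 2, 2, 2, 2, 2],
    [0, 0, 0, 0, 0, 1, 2, 2, 2, 2, 2],
    [0, 0, 1],
    [0, 0, 0, 1, 1, 1, 1, 1, 1],
    [0, 1, 2, 2, 2],
    [0, 0, 0, 0, 0, 0, 1, 1, 1, 1, 1, 1, 2],
    [0, 1, 1, 1, 1, 1, 1, 2, 2, 2, 2, 2],
    [0, 1, 1, 1, 1, 1],
    [0, 0, 0, 0, 1, 2, 2, 2, 2, 2],
    [0, 1, 2, 2],
    [0, 0, 0, 0, 0, 0, 1, 1, 2, 2, 2, 2, 2, 2],
    [0, 0, 0, 0, 0, 1, 2, 2, 2, 2],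
    [1, 1, 1, 2],
    [0, 0, 0, 0, 1, 2, 2, 2],
    [0, 0, 0, 0, 0, 1, 1, 1, 2, 2, 2],
    [2, 2, 2],
    [2],
    [0, 0, 0, 0, 0, 1, 1, 2, 2, 2, 2],
    [1, 1, 2, 2, 2],
    [0, 0, 0, 1, 1, 1, 1, 1, 1, 2, 2, 2, 2, 2],
    [0, 0, 0, 0, 0, 1, 1, 1, 1, 1, 1, 2, 2],
    [0, 0, 0, 0, 0, 1, 1, 1, 2, 2, 2, 2, 2, 2],
    [0, 1, 1, 1, 2, 2],
    [0, 0, 0, 1, 1, 1, 2],
    [0, 0, 0, 0, 0, 0, 1, 1, 1, 1, 1, 1, 2, 2, 2, 2, 2, 2],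
    [1, 1, 1, 2, 2, 2],
    [0, 0, 0, 1],
    [0, 0, 0, 0, 1, 1, 1, 1, 1, 1, 2, 2, 2],
    [0, 0, 0, 0, 1, 1, 2, 2, 2, 2, 2],
    [1, 1, 1, 1],
    [0, 0, 0, 0, 1, 1, 1, 2, 2, 2, 2, 2, 2],
    [0, 0, 0, 1, 1, 1, 1, 2, 2, 2, 2, 2, 2],
    [0, 2, 2, 2, 2, 2, 2],
    [1, 1, 1, 1, 1, 2, 2, 2],
    [1, 1, 2, 2, 2, 2, 2],
    [0, 0, 1, 1, 1, 1, 1, 2, 2, 2, 2],
    [0, 0, 0, 0, 1, 1, 1, 1, 1, 2, 2, 2],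
    [0, 0, 1, 1, 1, 1, 1, 1, 2, 2, 2, 2, 2],
    [0, 0, 1, 1, 1, 1, 1, 1, 2],
    [0, 0, 0, 1, 2, 2, 2, 2],
    [0, 0, 0, 0, 1, 1, 1, 1, 2, 2],
    [0, 0, 0, 0, 0, 0, 1, 1, 1, 1, 1, 1, 2, 2, 2],
    [0, 1, 2, 2, 2, 2, 2],
    [0, 0, 0, 1, 1, 1, 1, 1, 2],
    [0, 0, 0, 1, 1, 1, 1, 1, 2, 2, 2, 2, 2, 2],
    [0, 0, 0, 0, 1, 1],
    [1, 1, 1, 1, 1, 1, 2, 2, 2, 2, 2],
    [1, 1],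
    [0, 0, 2, 2],
    [0, 0, 0, 0, 0, 1, 1, 1, 1],
    [0, 1, 1, 1, 1],
    [0, 0, 1, 1, 1, 1, 2, 2],
    [0, 0, 0, 1, 1, 1, 2, 2, 2, 2],
    [0, 0, 0, 0, 0, 1, 1, 1, 1, 1, 1, 2, 2, 2, 2],
    [0, 0, 1, 1],
    [0, 0, 1, 1, 1, 1, 2],
    [1, 1, 1, 1, 1, 2, 2],
    [0, 0, 0, 0, 1, 1, 1, 1, 2, 2, 2, 2, 2],
    [1, 1, 1, 1, 1, 1, 2, 2, 2, 2],
    [0, 0, 0, 0, 0, 1, 1, 1, 1, 1, 1, 2, 2, 2, 2, 2, 2],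
    [0, 0, 0, 0, 0, 0, 1, 1, 1, 1, 2, 2, 2, 2, 2],
    [0, 0, 0, 0, 0, 0, 2, 2],
    [0, 2, 2, 2],
    [0, 0, 0, 0, 1, 1, 1, 2, 2, 2, 2],
    [0, 0, 0, 0, 0, 1],
    [0, 0, 0, 0, 0, 0, 1, 1, 2, 2, 2],
    [0, 0, 0, 0, 1, 1, 1, 2, 2],
    [1, 1, 1],
    [0, 0, 0, 2],
    [2, 2, 2, 2],
    [0, 1, 1, 1, 1, 1, 2, 2],
    [0, 0, 0, 0, 0, 0, 1, 1, 2],
    [0, 0, 0, 1, 1, 1, 1, 1],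
    [0, 0, 0, 0, 1, 1, 2, 2, 2, 2, 2, 2],
    [0, 0, 0, 0, 2, 2, 2, 2],
    [0, 0, 0, 0, 1, 2, 2, 2, 2, 2, 2],
    [0, 0, 0, 0, 0, 0, 1, 1, 1, 1, 1, 1],
    [0, 1, 1, 1, 1, 1, 2, 2, 2, 2, 2],
    [0, 0, 0, 0, 0, 0, 2, 2, 2, 2, 2],
    [0, 0, 0, 1, 1, 1, 1, 1, 1, 2],
    [0, 0, 0, 0, 1, 1, 1, 1, 2, 2, 2],
    [0, 0, 0, 0, 0, 0, 2, 2, 2, 2],
    [0, 0, 0, 0, 1, 1, 1, 1, 1, 2, 2, 2, 2],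
    [0, 0, 0, 1, 1, 2, 2, 2],
    [1, 1, 1, 1, 2, 2, 2, 2, 2],
    [0, 2, 2, 2, 2],
    [0, 0, 1, 2, 2],
    [0, 0, 0, 1, 2, 2, 2],
    [0, 0, 0, 0, 0, 0, 1, 1, 1, 2, 2, 2, 2],
    [0, 0, 2, 2, 2, 2, 2, 2],
    [0, 1, 1, 1, 1, 2, 2, 2],
    [0, 0, 1, 2, 2, 2],
    [0, 0, 0, 0, 1, 1, 1, 1, 1, 2, 2, 2, 2, 2],
    [0, 1, 1, 1, 2],
    [0, 0, 1, 2, 2, 2, 2, 2],
    [0, 1, 1, 1, 1, 2, 2, 2, 2, 2],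
    [0, 0, 0, 0, 0, 0, 1, 1, 1],
    [1, 1, 1, 1, 1, 2],
    [0, 0, 0, 1, 1, 1, 1],
    [0, 0, 0, 0, 1, 1, 1],
    [1, 1, 1, 1, 1],
    [0, 0, 0, 0, 0, 1, 1, 2, 2, 2],
    [1, 1, 2, 2, 2, 2],
    [0, 0, 1, 1, 1, 1, 1, 2],
    [0, 0, 1, 1, 1, 1, 2, 2, 2, 2],
    [0, 0, 0, 0, 0, 1, 1, 1, 1, 1, 1],
    [0, 0, 1, 1, 1, 1, 2, 2, 2, 2, 2],
    [0, 0, 1, 1, 1, 1, 1, 2, 2, 2],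
    [0, 0, 0, 0, 1, 1, 1, 1, 1, 1],
    [0, 0, 0, 0, 1, 1, 1, 1, 1, 1, 2, 2],
    [0, 0, 0, 0, 0, 1, 1, 1, 2, 2],
    [0, 0, 0, 0, 0, 1, 1, 1, 1, 2, 2, 2, 2],
    [0, 0, 0, 0, 0, 2, 2, 2],
    [0, 0, 0, 0, 0, 0, 1, 1, 1, 1, 1, 1, 2, 2, 2, 2],
    [0, 0, 2, 2, 2, 2, 2],
    [0, 0, 0, 0, 0, 1, 1, 1, 1, 2, 2, 2],
    [0, 0, 1, 1, 1, 2, 2, 2, 2],
    [0, 0, 0, 1, 1, 1, 2, 2],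
    [0, 0, 0, 0, 0, 1, 1, 1, 1, 1],
    [1, 1, 1, 1, 2, 2, 2],
    [0, 0, 0, 1, 2, 2, 2, 2, 2, 2],
    [1, 1, 1, 1, 1, 1, 2, 2],
    [0, 0, 0, 0, 0, 0, 1, 1, 1, 1, 2, 2, 2],
    [0, 1, 1, 1, 2, 2, 2, 2, 2],
    [0, 1, 1, 2, 2, 2, 2],
    [0, 0, 0, 1, 1, 1, 1, 1, 2, 2, 2, 2, 2],
    [0, 0, 0, 0, 2, 2, 2, 2, 2],
    [0, 0, 0, 0, 0, 0, 1, 1, 1, 1, 2],
    [0, 0, 0, 0, 0, 0, 1, 1, 1, 1, 1, 2, 2, 2, 2],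
    [1, 2, 2, 2],
    [0, 1, 1, 1, 2, 2, 2],
    [0, 0, 0, 1, 1, 1, 1, 1, 1, 2, 2, 2],
    [0, 0, 0, 0, 1, 2],
    [0, 0, 0, 1, 1, 1, 1, 2],
    [0, 0, 0, 1, 1, 1, 1, 1, 1, 2, 2, 2, 2],
    [0, 0, 0, 0, 0, 1, 1, 1, 1, 2, 2, 2, 2, 2, 2],
    [1, 2, 2, 2, 2, 2],
    [0, 1, 1, 2],
    [0, 0, 0, 0, 0, 2, 2],
    [0, 1, 1, 1, 1, 1, 1, 2],
    [0, 0, 0, 0, 1, 1, 2, 2, 2, 2],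
    [0, 0, 0, 0, 2, 2],
    [1, 1, 1, 2, 2, 2, 2],
    [0, 0, 0, 1, 1, 1, 1, 1, 1, 2, 2, 2, 2, 2, 2],
    [0, 0, 0, 0, 1, 2, 2, 2, 2],
    [0, 0, 0, 0, 0, 0, 1, 1],
    [0, 0, 0, 0, 0, 2, 2, 2, 2],
    [0, 0, 0, 1, 1, 1, 1, 1, 2, 2, 2],
    [0, 0, 1, 1, 2, 2, 2],
    [0, 0, 0],
    [0, 0, 1, 1, 2, 2, 2, 2],
    [0, 0, 0, 0, 0, 0, 1, 1, 1, 1, 1, 2, 2, 2],
    [0, 0, 0, 0, 0, 1, 1, 1, 2, 2, 2, 2],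
    [0, 0, 0, 0, 0],
    [0, 0, 0, 1, 1, 2],
    [2, 2],
    [0, 0, 0, 0, 0, 1, 1],
    [0, 0, 0, 1, 1, 2, 2],
    [0, 0, 0, 0, 0, 1, 2, 2, 2],
    [1, 1, 1, 1, 1, 1, 2],
    [0, 0, 0, 0, 0, 0, 1, 1, 1, 1, 1, 2, 2],
    [0, 0, 0, 0, 0, 0, 1, 1, 1, 2, 2],
    [0, 1, 1, 2, 2, 2, 2, 2],
    [0, 0, 0, 0, 0, 1, 1, 1, 2, 2, 2, 2, 2],
    [1, 1, 1, 1, 2, 2, 2, 2],
    [0, 0, 0, 0, 0, 0, 1, 1, 1, 1, 1],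
    [0, 0, 0, 0, 1, 1, 1, 1, 1, 1, 2, 2, 2, 2, 2, 2],
    [0, 0, 0, 1, 1, 1, 1, 2, 2],
    [0, 0, 0, 2, 2],
    [0, 0, 0, 0, 2, 2, 2, 2, 2, 2],
    [0, 1, 1, 2, 2, 2, 2, 2, 2],
    [0, 0, 1, 2],
    [1, 1, 1, 1, 1, 2, 2, 2, 2, 2],
    [0, 0, 0, 0, 0, 1, 1, 1, 1, 1, 1, 2, 2, 2, 2, 2],
    [1, 1, 1, 2, 2],
    [0, 0, 0, 0, 0, 0, 1, 1, 1, 1, 2, 2, 2, 2, 2, 2],
    [0, 0, 1, 1, 1, 2, 2, 2, 2, 2],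
    [0, 0, 0, 0, 1, 1, 1, 1, 2],
    [0, 0, 0, 1, 1, 1],
    [0, 0, 0, 0, 0, 0, 2, 2, 2],
    [0, 0, 0, 0, 0, 0, 1, 2, 2, 2],
    [0, 1, 1, 1, 1, 1, 1, 2, 2, 2],
    [1, 1, 1, 2, 2, 2, 2, 2],
    [0, 0, 0, 0, 0, 1, 2],
    [0, 0, 1, 1, 1, 1, 1, 2, 2, 2, 2, 2, 2],
    [2, 2, 2, 2, 2],
    [0, 0, 0, 0, 0, 0, 1, 1, 1, 1, 1, 2, 2, 2, 2, 2, 2],
    [0, 0, 0, 0, 0, 1, 1, 1, 1, 1, 2, 2],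
    [0, 0, 1, 1, 1, 2, 2],
    [0, 0, 0, 0, 0, 1, 2, 2],
    [0, 0, 0, 0, 0, 1, 1, 1, 1, 1, 2, 2, 2],
    [0, 2, 2, 2, 2, 2],
    [0, 0, 0, 2, 2, 2, 2, 2, 2],
    [0, 0, 0, 1, 1, 1, 1, 2, 2, 2, 2, 2],
    [0, 0, 0, 0, 0, 0, 1, 1, 1, 1, 1, 1, 2, 2],
    [0, 0, 0, 1, 1, 2, 2, 2, 2, 2, 2],
    [0, 1, 1, 1],
    [0, 0, 0, 1, 1, 2, 2, 2, 2, 2],
    [0, 0, 0, 0, 1],
    [0, 0, 0, 0, 1, 2, 2],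
    [0, 0, 0, 0, 0, 1, 1, 1, 2],
    [1, 1, 1, 1, 2, 2],
    [1, 1, 1, 2, 2, 2, 2, 2, 2],
    [0, 0, 0, 1, 1, 1, 1, 2, 2, 2],
    [0, 1, 2, 2, 2, 2, 2, 2],
    [0, 0, 0, 1, 1, 1, 1, 2, 2, 2, 2],
    [1, 2, 2],
    [0, 0, 0, 2, 2, 2, 2, 2],
    [0, 1, 1, 1, 1, 1, 1, 2, 2, 2, 2],
    [0, 1, 1],
    [0, 0, 1, 1, 1, 1, 1, 1, 2, 2],
    [0, 0, 0, 0, 1, 1, 2, 2, 2],
    [0, 1, 1, 2, 2, 2],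
    [0, 0, 0, 0, 0, 0, 1, 1, 1, 2, 2, 2, 2, 2, 2],
    [0, 0, 0, 1, 1, 2, 2, 2, 2],
    [0, 0, 1, 1, 1],
    [0, 0, 0, 0, 0, 1, 1, 1, 1, 2, 2],
    [0, 1, 1, 1, 1, 2, 2],
    [1, 1, 1, 1, 2],
    [0, 1, 1, 1, 1, 1, 1, 2, 2],
    [0, 0, 0, 0, 0, 0, 1, 1, 1, 1, 1, 2],
    [0, 0, 0, 0, 1, 1, 2, 2],
    [0, 0, 0, 1, 1, 1, 1, 1, 2, 2],
    [0, 0, 0, 0, 0, 0, 1, 2],
    [0, 2, 2],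
    [0, 0, 0, 0, 0, 0, 1, 2, 2],
    [0, 1],
    [0, 0, 0, 1, 1, 1, 1, 1, 2, 2, 2, 2],
    [0, 0, 0, 2, 2, 2],
    [0, 0, 0, 0, 1, 1, 1, 2],
    [0, 0, 0, 0, 0, 0, 1, 1, 1, 2, 2, 2, 2, 2],
    [0, 0, 0, 0, 0, 1, 1, 1, 1, 2, 2, 2, 2, 2],
    [0, 0, 0, 0, 1, 1, 1, 1, 1, 1, 2, 2, 2, 2, 2],
    [0, 0, 0, 0, 0, 0, 1, 1, 1, 1, 1, 1, 2, 2, 2, 2, 2],
    [0, 0, 0, 2, 2, 2, 2],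
    [0, 0, 0, 0, 0, 0, 1, 1, 1, 1, 1, 2, 2, 2, 2, 2],
    [0, 0, 1, 2, 2, 2, 2, 2, 2],
    [0, 0, 0, 0, 0, 0, 1, 1, 1, 2, 2, 2],
    [0, 0, 0, 0, 1, 1, 1, 1, 1, 2],
    [0, 0, 1, 1, 1, 1, 1, 2, 2],
    [0, 0, 0, 1, 2],
    [0, 0, 0, 0, 0, 1, 1, 1],
    [0, 0, 0, 0, 0, 0, 1, 1, 1, 1, 2, 2],
    [0, 0, 0, 0, 1, 1, 1, 1, 1, 1, 2],
    [1, 1, 1, 1, 2, 2, 2, 2, 2, 2],
    [0, 0, 0, 1, 1],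
    [0, 0, 0, 0, 1, 1, 1, 1, 2, 2, 2, 2],
    [0, 1, 1, 1, 1, 2, 2, 2, 2],
    [0, 1, 2, 2, 2, 2],
    [0, 1, 1, 1, 1, 1, 2],
    [0, 0, 0, 1, 1, 1, 2, 2, 2],
    [0, 0, 0, 0, 0, 0, 1, 1, 1, 2],
    [0, 0, 0, 0, 1, 1, 1, 1, 1, 2, 2],
    [0, 0, 0, 1, 1, 1, 2, 2, 2, 2, 2, 2],
    [0, 0, 0, 0, 1, 1, 1, 1],
    [0, 0, 0, 0, 0, 0, 1, 1, 2, 2],
    [0, 0, 1, 1, 1, 1],
    [0, 0, 0, 0, 0, 0, 1, 1, 1, 1, 2, 2, 2, 2],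
    [0, 0, 1, 1, 1, 1, 1, 1, 2, 2, 2],
    [0, 1, 1, 1, 2, 2, 2, 2, 2, 2],
    [0, 0, 1, 1, 2, 2, 2, 2, 2],
    [0, 0, 0, 0, 0, 1, 1, 1, 1, 1, 2],
    [0, 1, 1, 1, 1, 2, 2, 2, 2, 2, 2],
    [0, 0, 0, 0, 1, 1, 1, 1, 1],
    [0, 0, 0, 0, 0, 1, 1, 2],
    [0, 0, 0, 0, 0, 0, 1, 2, 2, 2, 2],
    [1, 1, 2, 2],
    [0, 0, 1, 1, 1, 1, 1],
    [0, 0, 2, 2, 2],
    [0, 0, 1, 1, 1, 2, 2, 2, 2, 2, 2],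
    [0, 0, 1, 1, 1, 1, 1, 1, 2, 2, 2, 2],
    [0, 0, 0, 0, 1, 1, 1, 1, 1, 2, 2, 2, 2, 2, 2],
    [0, 0, 0, 0, 0, 1, 1, 1, 1, 1, 2, 2, 2, 2, 2, 2],
    [0, 0, 0, 1, 1, 1, 1, 1, 1, 2, 2],
    [1, 1, 1, 1, 1, 2, 2, 2, 2],
    [0, 0, 1, 1, 1, 1, 2, 2, 2, 2, 2, 2],
    [0, 1, 1, 1, 1, 2],
    [1, 2, 2, 2, 2],
    [0, 0, 0, 0, 1, 1, 1, 1, 1, 1, 2, 2, 2, 2],
    [0, 0, 0, 0, 0, 1, 1, 1, 1, 1, 1, 2, 2, 2],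
    [0, 0, 1, 1, 1, 2],
    [0, 0, 0, 0, 2, 2, 2],
    [0, 0, 0, 1, 2, 2],
    [0, 1, 1, 1, 2, 2, 2, 2],
    [1, 1, 1, 1, 1, 1, 2, 2, 2],
    [0, 0, 0, 0, 1, 1, 1, 1, 2, 2, 2, 2, 2, 2],
    [0, 0, 0, 1, 2, 2, 2, 2, 2],
    [1, 1, 2, 2, 2, 2, 2, 2],
    [0, 0, 0, 0, 0, 1, 1, 2, 2],
    [0, 0, 0, 0, 0, 1, 1, 1, 1, 2],
    [0, 0, 0, 0, 0, 1, 1, 2, 2, 2, 2, 2, 2],
    [0, 1, 1, 1, 1, 1, 2, 2, 2, 2, 2, 2],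
    [0, 0, 1, 1, 1, 1, 2, 2, 2],
    [0, 1, 1, 2, 2],
    [0, 0, 1, 1, 2, 2, 2, 2, 2, 2],
    [0, 0, 2, 2, 2, 2],
    [0, 0, 0, 0, 1, 1, 1, 2, 2, 2, 2, 2],
    [0, 0, 0, 0, 0, 0, 1, 1, 1, 1],
    [0, 0, 0, 0],
    [0, 0, 0, 0, 0, 2],
    [0, 0, 1, 1, 2],
    [0, 0, 0, 0, 0, 0, 1, 1, 2, 2, 2, 2],
    [0, 0, 0, 0, 0, 0, 2],
    [0, 0, 1, 1, 1, 2, 2, 2],
    [0, 0, 0, 0, 2],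
    [0, 0, 1, 1, 2, 2],
    [0, 0, 0, 0, 1, 1, 2],
    [0, 0, 0, 1, 1, 1, 2, 2, 2, 2, 2],
    [0, 1, 1, 1, 1, 1, 2, 2, 2],
    [0, 0, 1, 2, 2, 2, 2],
    [0, 0, 0, 0, 1, 1, 1, 2, 2, 2],
    [0, 0, 0, 0, 0, 1, 1, 1, 1, 1, 1, 2],
    [0, 0, 0, 0, 0, 1, 1, 1, 1, 1, 2, 2, 2, 2, 2],
    [0, 0, 0, 0, 0, 1, 1, 1, 1, 1, 2, 2, 2, 2]]

/-- Normal forms, in the order of the images of the base. -/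
def nf7In : List (List ℕ) := [
    [],
    [2, 2, 2, 2, 2, 2],
    [2, 2, 2],
    [2],
    [2, 2, 2, 2],
    [2, 2],
    [2, 2, 2, 2, 2]]

/-- Elements of order 5, 11, 19 and 31. -/
def ords : List (ℕ × (ℕ × ℕ)) := [(5, (48, 0x405654304564304567456453456454534562345436545675)), (11, (40, 0x615406534563076545345645456345436545654)), (19, (44, 0x64523456545430654523456234545634542354567545)), (31, (40, 0x1430456045345605345675345653453423567565))]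

/-- Packed equations. -/
def pe7_0 : List ℕ := [0x150000000000000007000000000000000100000000000000000000000000000000,
    0x600000000000000000000000000000000000000000000000000000000000000000000000000000000,
    0x500000000000000020000000000000000000000000000000000000000000000000000000000000000]

/-- Packed equations. -/
def pe7 : List ℕ := pe7_0

/-- A combination. -/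
def cs7_0 : List ℕ := [0, 0, 0]

/-- A combination. -/
def cs7_1 : List ℕ := [0, 314, 172]

/-- A combination. -/
def cs7_2 : List ℕ := [0, 286, 0]

/-- A combination. -/
def cs7_3 : List ℕ := [1, 266, 161]

/-- The packed certificate. -/
def dense7 : CfsgLib.Schur.Tails.Dense :=
  { q := 343, pe := pe7, gen := 0x0, b := 1, genC := [0, 0, 0],
    targets := [(3, 0, cs7_0), (4, 0, cs7_1), (5, 0, cs7_2), (2, 0, cs7_3)] }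

/-- The certificate. -/
def cert7 : CfsgLib.Schur.Tails.Cert :=
  { r := 3, a := 2, p := 7, fuel := 302, width := 3,
    rules := [([0, 0, 0, 0, 0, 0, 0], []), ([1, 1, 1, 1, 1, 1, 1], []), ([2, 2, 2, 2, 2, 2, 2], []), ([1, 0], [0, 1, 2]), ([2, 0], [0, 2]), ([2, 1], [1, 2])],
    ix := [[0, 0, 0], [3, 1, 0], [4, 5, 2]],
    ovl := [([1], 0, [])],
    fus := [⟨[[0], [1], [2]], [[0, 1, 1, 1, 1, 1, 1], [0, 0, 1, 1, 1, 1, 1, 1, 2, 2, 2, 2, 2, 2], [2]], [([2, 0], [0, 2]), ([2, 1], [1, 2])]⟩],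
    eqs := [],
    lam := [[], [], [(-1, 3)]],
    gen := [], b := 1, m := 1,
    genC := [],
    targets := [(3, 0, []), (4, 0, []), (5, 0, []), (2, 0, [])] }

end CfsgLib.Schur.Sporadic.ON
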