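import Cfsg.Agent.Lib.Schur.ON.Bound
import Cfsg.Agent.Lib.Schur.ON.Cover

/-!
The multiplier of the presented O'Nan group is cyclic of order three.
-/

set_option autoImplicit false

namespace CfsgLib.Schur.Sporadic.ON

theorem hasMultiplier : Cfsg.HasCyclicSchurMultiplier Cfsg.Spor.ON 3 := by
  haveI := CfsgLib.Sporadic.CosetCert.ONP.finite
  haveI := Cover.isCyclic_ker
  refine Basic.hasSchurMultiplier_of_le Cover.sig Cover.isStem
    (mulEquivOfCyclicCardEq (by rw [Cover.card_ker]; simp [Nat.card_eq_fintype_card])) fun Δ _ _ π hπ => ?_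
  exact (card_ker_le Δ π hπ).trans (le_of_eq (by simp [Nat.card_eq_fintype_card]))

end CfsgLib.Schur.Sporadic.ON
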