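import Cfsg.Agent.Lib.Schur.ON.ShiftData
import Cfsg.Agent.Lib.Sporadic.ONData.ONFast
import Cfsg.Agent.Lib.Sporadic.CosetCertGroup

/-!
Sums of shifts along rows, for the triple cover of the O'Nan group.
-/

set_option autoImplicit false
set_option maxRecDepth 100000

namespace CfsgLib.Schur.Sporadic.ON

/-- The sum of the shifts along rows from a point. -/
noncomputable def runS (fs : List ((ℕ → ℕ) × (ℕ → ℕ))) : ℕ → ℕ :=
  List.rec (motive := fun _ => ℕ → ℕ) (fun _ => 0)
    (fun p _ ih v => Nat.add (p.2 v)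
      (Nat.rec (motive := fun _ => ℕ) (ih 0) (fun w _ => ih (Nat.succ w)) (p.1 v))) fs

theorem runS_cons (p : (ℕ → ℕ) × (ℕ → ℕ)) (fs : List ((ℕ → ℕ) × (ℕ → ℕ))) (v : ℕ) :
    runS (p :: fs) v = p.2 v + runS fs (p.1 v) := by
  show Nat.add (p.2 v) (Nat.rec (motive := fun _ => ℕ) (runS fs 0)
    (fun w _ => runS fs (Nat.succ w)) (p.1 v)) = _
  cases p.1 v <;> rfl

theorem runS_nil (v : ℕ) : runS [] v = 0 := rfl

/-- The sum of the shifts is constant modulo three on `n` points from `s`. -/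
noncomputable def constK (fs : List ((ℕ → ℕ) × (ℕ → ℕ))) (k s n : ℕ) : Bool :=
  Nat.rec (motive := fun _ => Bool) true
    (fun i ih => Nat.beq (Nat.mod (runS fs (Nat.add s i)) 3) k && ih) n

theorem constK_spec {fs : List ((ℕ → ℕ) × (ℕ → ℕ))} {k s n : ℕ} (h : constK fs k s n = true) :
    ∀ u, s ≤ u → u < s + n → Nat.mod (runS fs u) 3 = k := by
  induction n with
  | zero => intro u hu hu'; omega
  | succ n ih =>
    intro u hu hu'
    unfold constK at h
    simp only [Nat.add_eq, Bool.and_eq_true, Nat.beq_eq] at h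
    rcases Nat.lt_or_eq_of_le (Nat.le_of_lt_succ hu') with h' | rfl
    · exact ih h.2 u hu h'
    · exact h.1

end CfsgLib.Schur.Sporadic.ON
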